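import Groth.Agent.Etbc.H238.HilbStk
import Groth.Agent.Dix.PointCoh

/-!
# Hilbert 90 for the direct image from the spectrum of a field: `R¹ f_* G_m = 0`
-/

set_option autoImplicit false
universe u

open CategoryTheory CategoryTheory.Limits AlgebraicGeometry Opposite TopologicalSpace

namespace K280.PointHilb

open Groth.Agent Groth.Agent.Etcore.HQ Groth.Agent.Etcore.RpushLoc

variable {X : Scheme.{u}}

/-- `R¹ f_* G_m = 0` for `f : Spec K ⟶ X`, `X` quasi-separated. -/
theorem isZero_Rpush_one [QuasiSeparatedSpace X] {K : Type u} [Field K]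
    (f : Spec (.of K) ⟶ X) : IsZero ((EtCoh.Rpush f 1).obj (EtCoh.Gm (Spec (.of K)))) := by
  rw [isZero_Rpush_iff]
  intro V ξ v
  obtain ⟨V', g, v', hA, hv'⟩ := Groth.Agent.Dix.PointCoh.exists_affine V v
  refine ⟨V', g, v', hv', ?_⟩
  have hqc : QuasiCompact V'.hom :=
    @quasiCompact_of_compactSpace V'.left X V'.hom inferInstance inferInstance
  have hc := Groth.Agent.Dix.PointCoh.compactSpace_bc f V'
  have hd : DiscreteTopology ((EtCoh.bc f).obj V').left :=
    Groth.Agent.Dix.PointSite.discreteTopology_left _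
  have hfin : Finite ((EtCoh.bc f).obj V').left := finite_of_compact_of_discrete
  have h3 := Groth.Agent.Etbc.H238.HilbStk.subsingleton_H1_Gm ((EtCoh.bc f).obj V').left
  let e : (EtCoh.pull (pr f V')).obj (EtCoh.Gm _) ≅ EtCoh.Gm _ :=
    Groth.Agent.Sga4h.EtaleRes2.pullGm (pr f V')
  have h4 : Subsingleton (HQ (EtCoh.Gm (Spec (.of K))) (pr f V') 1) :=
    Groth.Agent.EtpbcA.CdLeray.subsingleton_ext_of_iso _ e.symm 1 h3
  exact Subsingleton.elim _ _

theorem subsingleton_H1_Gm_field (K : Type u) [Field K] :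
    Subsingleton (EtCoh.H (Spec (.of K)) (EtCoh.Gm (Spec (.of K))) 1) := by
  have : Subsingleton (Spec (.of K)) := inferInstanceAs (Subsingleton (PrimeSpectrum K))
  exact Groth.Agent.Etbc.H238.HilbStk.subsingleton_H1_Gm _

end K280.PointHilb
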