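import Groth.Agent.Topos.H571.GmPull
import Groth.Agent.Etcore.HpullComp

/-!
# Functoriality of `EtLim.HGmPull`
-/

set_option autoImplicit false
universe u
open CategoryTheory CategoryTheory.Limits AlgebraicGeometry Opposite Abelian
open scoped Groth.Agent.Etcore.EtInst
open Groth.Agent.Etcore.EtInst Groth.Agent.Etcore.HpullCalc Groth.Agent.Etcore.GmFun
  Groth.Agent.Topos.H571.GmPull

namespace K280.GmPullComp

variable {X Y Z : Scheme.{u}}

theorem calc_comp (f : X ⟶ Y) (t : Y ⟶ Z) (f₀ : X ⟶ Z) (w : f ≫ t = f₀)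
    [PreservesFiniteLimits (EtCoh.pull f)] [PreservesFiniteLimits (EtCoh.pull t)]
    [PreservesFiniteLimits (EtCoh.pull f₀)] (n : ℕ) (x : HH Z (EtCoh.Gm Z) n) :
    HHmap (gmp f) n (hp f _ n (HHmap (gmp t) n (hp t _ n x))) =
      HHmap (gmp f₀) n (hp f₀ _ n x) := by
  rw [hp_map, ← HHmap_comp, ← gmp_comp f t f₀ w, HHmap_comp, ← hpVia_hp f t f₀ w,
    Groth.Agent.Etcore.HpullCalc.hpVia_apply_th]

/-- `HGmPull` is functorial. -/
theorem HGmPull_comp (f : X ⟶ Y) (t : Y ⟶ Z) (f₀ : X ⟶ Z) (w : f ≫ t = f₀)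
    [PreservesFiniteLimits (EtCoh.pull f)] [PreservesFiniteLimits (EtCoh.pull t)]
    [PreservesFiniteLimits (EtCoh.pull f₀)] (n : ℕ) (x : EtCoh.H Z (EtCoh.Gm Z) n) :
    EtLim.HGmPull f n (EtLim.HGmPull t n x) = EtLim.HGmPull f₀ n x := by
  have h1 : EtLim.HGmPull t n x = (HHmap (gmp t) n (hp t _ n x) : HH Y (EtCoh.Gm Y) n) :=
    HGmPull_eq t n x
  rw [h1]
  exact (HGmPull_eq f n _).trans ((calc_comp f t f₀ w n x).trans (HGmPull_eq f₀ n x).symm)

/-- `HGmPull` is `HofPush` of the class pushed along `G_m ⟶ f_* G_m`. -/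
theorem HGmPull_def (f : X ⟶ Y) [PreservesFiniteLimits (EtCoh.pull f)] (n : ℕ)
    (x : EtCoh.H Y (EtCoh.Gm Y) n) :
    EtLim.HGmPull f n x = EtLim.HofPush f (EtCoh.Gm X) n
      (Ext.comp x (Ext.mk₀ (EtLim.GmPush f)) (add_zero n)) := rfl

end K280.GmPullComp
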