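import Groth.Agent.Dix.K280.EdgeLow
import Groth.Agent.S14451

/-!
# `EtLim.HofPush` in low degrees

If `R^q f_* F = 0` for `0 < q ≤ n` then `H^m(Y, f_* F) ⟶ H^m(X, F)` is bijective for `m = n` and
injective for `m = n + 1`.
-/

set_option autoImplicit false
universe u

open CategoryTheory CategoryTheory.Limits AlgebraicGeometry Opposite CategoryTheory.Abelian

namespace K280.EdgeEt

open Groth.Agent

theorem bijective_precomp {X Y : Scheme.{u}} (f : X ⟶ Y) (F : EtCoh.Ab X) (p : ℕ) :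
    Function.Bijective (fun e : Ext ((EtCoh.pull f).obj (EtCoh.const Y ℤ)) F p =>
      (Ext.mk₀ (EtCore.pullConst f ℤ).inv).comp e (zero_add p)) := by
  constructor
  · intro a b h
    have := congrArg (fun e => (Ext.mk₀ (EtCore.pullConst f ℤ).hom).comp e (zero_add p)) h
    simpa only [Ext.mk₀_comp_mk₀_assoc, Iso.hom_inv_id, Ext.mk₀_id_comp] using this
  · intro a
    refine ⟨(Ext.mk₀ (EtCore.pullConst f ℤ).hom).comp a (zero_add p), ?_⟩
    simp only [Ext.mk₀_comp_mk₀_assoc, Iso.inv_hom_id]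
    exact Ext.mk₀_id_comp _

theorem HofPush_eq {X Y : Scheme.{u}} (f : X ⟶ Y) [PreservesFiniteLimits (EtCoh.pull f)]
    (F : EtCoh.Ab X) (p : ℕ) :
    (EtLim.HofPush f F p : EtCoh.H Y ((EtCoh.push f).obj F) p → EtCoh.H X F p) =
      (fun e : Ext ((EtCoh.pull f).obj (EtCoh.const Y ℤ)) F p =>
        (Ext.mk₀ (EtCore.pullConst f ℤ).inv).comp e (zero_add p)) ∘
      (Etbase.ExtCompare.cmp (EtCoh.pull f) (EtCoh.const Y ℤ)
        ((EtCoh.pullPushAdj f).counit.app F) p) := by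
  funext x
  exact S14451.HofPush_eq_cmp f F p x

/-- The edge maps in low degrees. -/
theorem HofPush_low {X Y : Scheme.{u}} (f : X ⟶ Y) [PreservesFiniteLimits (EtCoh.pull f)]
    (F : EtCoh.Ab X) (n : ℕ)
    (hR : ∀ q : ℕ, 0 < q → q ≤ n → IsZero ((EtCoh.Rpush f q).obj F)) :
    Function.Bijective (EtLim.HofPush f F n) ∧ Function.Injective (EtLim.HofPush f F (n + 1)) := by
  have h1 := K280.EdgeLow.low (EtCoh.pull f) (EtCoh.pullPushAdj f) (EtCoh.const Y ℤ) n F hR
  rw [HofPush_eq, HofPush_eq]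
  exact ⟨(bijective_precomp f F n).comp h1.1, (bijective_precomp f F (n + 1)).1.comp h1.2⟩

/-- `H¹(Y, f_* F) ⟶ H¹(X, F)` is injective. -/
theorem HofPush_one_injective {X Y : Scheme.{u}} (f : X ⟶ Y) [PreservesFiniteLimits (EtCoh.pull f)]
    (F : EtCoh.Ab X) : Function.Injective (EtLim.HofPush f F 1) :=
  (HofPush_low f F 0 (fun q h1 h2 => absurd h1 (by lia))).2

/-- `H²(Y, f_* F) ⟶ H²(X, F)` is injective if `R¹ f_* F = 0`. -/
theorem HofPush_two_injective {X Y : Scheme.{u}} (f : X ⟶ Y) [PreservesFiniteLimits (EtCoh.pull f)]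
    (F : EtCoh.Ab X) (h : IsZero ((EtCoh.Rpush f 1).obj F)) :
    Function.Injective (EtLim.HofPush f F 2) :=
  (HofPush_low f F 1 (fun q h1 h2 => by
    obtain rfl : q = 1 := by lia
    exact h)).2

end K280.EdgeEt
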