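import Groth.Agent.Brauer.K444.AzOps
import Mathlib.RingTheory.LocalRing.Module
import Mathlib.RingTheory.TwoSidedIdeal.Operations
import Mathlib.RingTheory.SimpleRing.Basic
import Mathlib.RingTheory.TensorProduct.Free

/-!
# Azumaya algebras over fields are central simple; fibres of Azumaya algebras
-/

set_option autoImplicit false
universe u v w
open scoped TensorProduct

namespace K280.AzFibre

theorem nontrivial_of_isAzumaya (R : Type u) [CommRing R] [Nontrivial R] (B : Type v) [Ring B] [Algebra R B]
    [IsAzumaya R B] : Nontrivial B := by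
  by_contra h
  rw [not_nontrivial_iff_subsingleton] at h
  have h1 : (1 : R) = 0 := FaithfulSMul.eq_of_smul_eq_smul (α := B) fun a => Subsingleton.elim _ _
  exact one_ne_zero h1

theorem isSimpleRing_of_isAzumaya (k : Type u) [Field k] (B : Type v) [Ring B] [Algebra k B]
    [IsAzumaya k B] : IsSimpleRing B := by
  have hnt := nontrivial_of_isAzumaya k B
  have hsk := (IsAzumaya.bij (R := k) (A := B)).2
  refine ⟨⟨fun I => ?_⟩⟩
  by_cases hI : I = ⊥
  · left; exact hI
  · right
    obtain ⟨x, hx, hx0⟩ : ∃ x ∈ I, x ≠ 0 := by
      by_contra hcon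
      push Not at hcon
      apply hI
      rw [eq_bot_iff]
      intro x hx
      simpa using hcon x hx
    have hstab : ∀ (f : Module.End k B), f x ∈ I := by
      intro f
      obtain ⟨t, rfl⟩ := hsk f
      induction t using TensorProduct.induction_on with
      | zero => simp [I.zero_mem]
      | tmul y z =>
        rw [AlgHom.mulLeftRight_apply]
        exact I.mul_mem_right _ _ (I.mul_mem_left _ _ hx)
      | add y z hy hz =>
        rw [map_add, LinearMap.add_apply]
        exact I.add_mem hy hz
    rw [eq_top_iff]
    intro y _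
    obtain ⟨f, hf⟩ : ∃ f : Module.Dual k B, f x ≠ 0 := by
      by_contra hcon
      push Not at hcon
      exact hx0 ((Module.forall_dual_apply_eq_zero_iff k x).1 hcon)
    have h2 := hstab (f.smulRight ((f x)⁻¹ • y))
    rw [LinearMap.smulRight_apply, smul_smul, mul_inv_cancel₀ hf, one_smul] at h2
    exact h2

/-- The fibres of an Azumaya algebra are central simple. -/
theorem fibre (R : Type u) [CommRing R] (A : Type v) [Ring A] [Algebra R A] [IsAzumaya R A]
    (k : Type w) [Field k] [Algebra R k] :
    Algebra.IsCentral k (k ⊗[R] A) ∧ IsSimpleRing (k ⊗[R] A) ∧ Module.Finite k (k ⊗[R] A) := by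
  have := K444.AzOps.isAzumaya_baseChange (R := R) k (A := A)
  exact ⟨inferInstance, isSimpleRing_of_isAzumaya k _, inferInstance⟩

end K280.AzFibre
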