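import Groth.Agent.Sga4h.EtaleRes2
import Groth.Agent.Sga5.BrTorsion
import Groth.Agent.Dix.K280.GmPullComp
import Groth.Agent.Dix.K280.EdgeEt
import Groth.Agent.Dix.K280.PointHilb
import Groth.Agent.Dix.K282.NormTors
import Groth.Agent.S5706

/-!
# Injectivity for `H²(-, G_m)` in terms of `EtLim.HGmPull`

* `isIso_gmp`: `j⁻¹ G_m = G_m` for `j` étale, through the canonical map.
* `fromStalk_injective`: `H²(X, G_m) ⟶ H²(K(X), G_m)` is injective for `X` smooth over a field, integral and
  noetherian.
* `nsmul_eq_zero_of_finite`: a class of `H²(K, G_m)` dying in a finite extension of degree `d` is killed by `d`.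
-/

set_option autoImplicit false
universe u
open CategoryTheory CategoryTheory.Limits AlgebraicGeometry Opposite Abelian
open scoped Groth.Agent.Etcore.EtInst
open Groth.Agent.Etcore.EtInst Groth.Agent.Etcore.HpullCalc Groth.Agent.Etcore.GmFun
  Groth.Agent.Topos.H571.GmPull Groth.Agent.Sga4h.EtaleRes Groth.Agent.Sga4h.EtaleRes2

namespace K280.BrInj

variable {U X : Scheme.{u}}

theorem gmp_eq_pullGm (j : U ⟶ X) [Etale j] : gmp j = (pullGm j).hom := by
  have := jCont j
  apply ((EtCoh.pullPushAdj j).homEquiv _ _).injective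
  have h1 : (EtCoh.pullPushAdj j).homEquiv _ _ (gmp j) = gmUnit j :=
    ((EtCoh.pullPushAdj j).homEquiv _ _).apply_symm_apply (gmUnit j)
  rw [h1, Adjunction.homEquiv_unit]
  have h2 : (pullGm j).hom = (pullIsoRestr j).hom.app (EtCoh.Gm X) ≫ (GmRestr j).hom := rfl
  rw [h2, Functor.map_comp, ← Category.assoc, unit_pullIsoRestr]
  rfl

theorem isIso_gmp (j : U ⟶ X) [Etale j] : IsIso (gmp j) := by
  rw [gmp_eq_pullGm]
  infer_instance

theorem HHmap_gmp_bijective (j : U ⟶ X) [Etale j] (n : ℕ) :
    Function.Bijective (HHmap (gmp j) n) := by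
  have := isIso_gmp j
  constructor
  · intro x y h
    have := congrArg (HHmap (inv (gmp j)) n) h
    rwa [← HHmap_comp, ← HHmap_comp, IsIso.hom_inv_id, HHmap_id, HHmap_id] at this
  · intro y
    refine ⟨HHmap (inv (gmp j)) n y, ?_⟩
    rw [← HHmap_comp, IsIso.inv_hom_id, HHmap_id]

/-- `HGmPull` along an étale map is the pull back of classes, up to the identification of coefficients. -/
theorem HGmPull_etale (j : U ⟶ X) [Etale j] [PreservesFiniteLimits (EtCoh.pull j)] (n : ℕ)
    (x : HH X (EtCoh.Gm X) n) :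
    @Eq (HH U (EtCoh.Gm U) n) (EtLim.HGmPull j n x) (HHmap (gmp j) n (hp j _ n x)) :=
  HGmPull_eq j n x

section Smooth

variable {k : Type u} [Field k] (f : X ⟶ Spec (CommRingCat.of k)) [Smooth f]

include f in
theorem elf : Groth.Agent.CohtopA.GmDivGen.ELF X := by
  refine ⟨fun V => ?_⟩
  have h1 : Etale V.hom := V.prop
  have h2 : Smooth (V.hom ≫ f) := inferInstance
  refine ⟨Groth.Agent.Sga5.SmoothField.isLocallyNoetherian (V.hom ≫ f), fun x => ?_, fun x => ?_⟩
  · have := Groth.Agent.Sga5.SmoothField.isRegularLocalRing_stalk_etale f V x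
    exact (Groth.Agent.S2821.result (V.left.presheaf.stalk x)).1
  · exact Groth.Agent.Sga5.SmoothField.ufd_etale f V x

include f in
theorem isAddTorsion_H2 [IsIntegral X] : IsAddTorsion (EtCoh.H X (EtCoh.Gm X) 2) := by
  have := elf f
  exact Groth.Agent.Dix.GmOpen582D.isAddTorsion_H2 X

include f in
/-- A class in `H²(X, G_m)` dying at the generic point is zero. -/
theorem eq_zero_of_generic [IsIntegral X] [IsNoetherian X]
    [∀ ⦃Y Z : Scheme.{u}⦄ (g : Y ⟶ Z), PreservesFiniteLimits (EtCoh.pull g)]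
    (ξ : EtCoh.H X (EtCoh.Gm X) 2)
    (h : EtLim.HGmPull (X.fromSpecStalk (genericPoint X)) 2 ξ = 0) : ξ = 0 := by
  refine Groth.Agent.S5706.result X (fun V v => ?_) ξ (fun x hx => ?_)
  · have := Groth.Agent.Sga5.SmoothField.isRegularLocalRing_stalk_etale f V v
    exact ⟨(Groth.Agent.S2821.result (V.left.presheaf.stalk v)).1,
      Groth.Agent.Sga5.SmoothField.ufd_etale f V v⟩
  · obtain rfl : genericPoint X = x := hx _ ((genericPoint_spec X).specializes trivial)
    exact h

end Smooth

/-- `K ⟶ L` finite of degree `d`: a class of `H²(K, G_m)` dying in `H²(L, G_m)` is killed by `d`. -/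
theorem nsmul_eq_zero_of_finite (K L : Type u) [Field K] [Field L] [Algebra K L] [Module.Finite K L]
    (i : Spec (CommRingCat.of L) ⟶ Spec (CommRingCat.of K))
    (hi : i = Spec.map (CommRingCat.ofHom (algebraMap K L)))
    [PreservesFiniteLimits (EtCoh.pull i)]
    (ξ : EtCoh.H (Spec (CommRingCat.of K)) (EtCoh.Gm _) 2) (h : EtLim.HGmPull i 2 ξ = 0) :
    (Module.finrank K L) • ξ = 0 := by
  subst hi
  have h1 : IsFinite (Spec.map (CommRingCat.ofHom (algebraMap K L))) := by
    rw [IsFinite.SpecMap_iff]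
    exact RingHom.finite_algebraMap.2 inferInstance
  have h2 : Flat (Spec.map (CommRingCat.ofHom (algebraMap K L))) := by
    rw [Flat.SpecMap_iff]
    exact RingHom.flat_algebraMap_iff.2 inferInstance
  have h3 : LocallyOfFinitePresentation (Spec.map (CommRingCat.ofHom (algebraMap K L))) := by
    rw [LocallyOfFinitePresentation.SpecMap_iff]
    exact (RingHom.finitePresentation_algebraMap).2
      (Algebra.FinitePresentation.of_finiteType.1 (inferInstance : Algebra.FiniteType K L))
  refine K282.NormTors.nsmul_eq_zero (Spec.map (CommRingCat.ofHom (algebraMap K L))) (fun y => ?_) 2 ξ ?_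
  · refine (Scheme.Hom.finrank_SpecMap_algebraMap K L y).trans ?_
    exact Module.rankAtStalk_eq_finrank_of_free (R := K) (M := L) ▸ rfl
  · have h4 := K280.EdgeEt.HofPush_two_injective (Spec.map (CommRingCat.ofHom (algebraMap K L)))
      (EtCoh.Gm _) (K280.PointHilb.isZero_Rpush_one (K := L) _)
    apply h4
    rw [map_zero]
    exact h

end K280.BrInj
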