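import Groth.Prelude.Def_W4c4brauerdpcsurfBr
import Groth.Agent.Dix.K280.BrInj
import Groth.Agent.Etcore.HpVia

/-!
# Functoriality of `Dix.brInv`

For a tower of fields `k ⊆ k₁ ⊆ Ω` and a morphism `g : X₁ ⟶ X` from a `k₁`-scheme to a `k`-scheme, the induced
morphism `X₁,Ω ⟶ X_Ω` pulls back classes invariant under `Aut_k Ω` to classes invariant under `Aut_{k₁} Ω`.
-/

set_option autoImplicit false
universe u
open CategoryTheory CategoryTheory.Limits AlgebraicGeometry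
open scoped Groth.Agent.Etcore.EtInst
open Groth.Agent.Etcore.EtInst Groth.Agent.Etcore.HpullCalc Groth.Agent.Etcore.GmFun

namespace K280.BrEquiv

section

variable {k k₁ : Type u} (Ω : Type u) [Field k] [Field k₁] [Field Ω] [Algebra k k₁] [Algebra k₁ Ω]
  [Algebra k Ω] [IsScalarTower k k₁ Ω]

theorem spec_tower : Spec.map (CommRingCat.ofHom (algebraMap k₁ Ω)) ≫
    Spec.map (CommRingCat.ofHom (algebraMap k k₁)) =
      Spec.map (CommRingCat.ofHom (algebraMap k Ω)) := by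
  rw [← Spec.map_comp, ← CommRingCat.ofHom_comp, ← IsScalarTower.algebraMap_eq]

variable {X X₁ : Scheme.{u}} (f : X ⟶ Spec (CommRingCat.of k)) (f₁ : X₁ ⟶ Spec (CommRingCat.of k₁))
  (g : X₁ ⟶ X) (h : g ≫ f = f₁ ≫ Spec.map (CommRingCat.ofHom (algebraMap k k₁)))

/-- The morphism `X₁,Ω ⟶ X_Ω` induced by `g : X₁ ⟶ X`. -/
noncomputable def bcMap : SGA7.bcField Ω f₁ ⟶ SGA7.bcField Ω f :=
  pullback.map f₁ (Spec.map (CommRingCat.ofHom (algebraMap k₁ Ω))) f
    (Spec.map (CommRingCat.ofHom (algebraMap k Ω))) g (𝟙 _)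
    (Spec.map (CommRingCat.ofHom (algebraMap k k₁))) h.symm
    ((spec_tower Ω).trans (Category.id_comp _).symm)

theorem bcMap_fst : bcMap Ω f f₁ g h ≫ pullback.fst _ _ = pullback.fst _ _ ≫ g :=
  pullback.lift_fst _ _ _

theorem bcMap_snd : bcMap Ω f f₁ g h ≫ pullback.snd _ _ = pullback.snd _ _ :=
  (pullback.lift_snd _ _ _).trans (Category.comp_id _)

theorem twist_fst (σ : Ω ≃ₐ[k] Ω) : SGA7.twistAut Ω f σ ≫ pullback.fst _ _ = pullback.fst _ _ :=
  (pullback.lift_fst _ _ _).trans (Category.comp_id _)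

theorem twist_snd (σ : Ω ≃ₐ[k] Ω) : SGA7.twistAut Ω f σ ≫ pullback.snd _ _ =
    pullback.snd _ _ ≫ Spec.map (CommRingCat.ofHom (σ : Ω →+* Ω)) :=
  pullback.lift_snd _ _ _

theorem twist_bcMap (σ : Ω ≃ₐ[k₁] Ω) : SGA7.twistAut Ω f₁ σ ≫ bcMap Ω f f₁ g h =
    bcMap Ω f f₁ g h ≫ SGA7.twistAut Ω f (σ.restrictScalars k) := by
  apply pullback.hom_ext
  · rw [Category.assoc, Category.assoc, bcMap_fst, twist_fst, bcMap_fst, ← Category.assoc, twist_fst]
  · rw [Category.assoc, Category.assoc, bcMap_snd, twist_snd, twist_snd, ← Category.assoc, bcMap_snd]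
    rfl

variable [∀ ⦃Y Z : Scheme.{u}⦄ (g : Y ⟶ Z), PreservesFiniteLimits (EtCoh.pull g)]

/-- Pull back preserves invariant classes. -/
theorem pull_mem_brInv {ξ : Dix.BrCoh (SGA7.bcField Ω f)} (hξ : ξ ∈ Dix.brInv Ω f) :
    (EtLim.HGmPull (bcMap Ω f f₁ g h) 2 ξ : Dix.BrCoh (SGA7.bcField Ω f₁)) ∈ Dix.brInv Ω f₁ := by
  rw [Dix.mem_brInv_iff] at hξ ⊢
  intro σ
  refine (K280.GmPullComp.HGmPull_comp (SGA7.twistAut Ω f₁ σ) (bcMap Ω f f₁ g h) _
    (twist_bcMap Ω f f₁ g h σ) 2 ξ).trans ?_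
  refine (K280.GmPullComp.HGmPull_comp (bcMap Ω f f₁ g h)
    (SGA7.twistAut Ω f (σ.restrictScalars k)) _ rfl 2 ξ).symm.trans ?_
  exact congrArg _ (hξ (σ.restrictScalars k))

/-- Pull back of invariant classes. -/
noncomputable def pullInv : Dix.brInv Ω f →+ Dix.brInv Ω f₁ :=
  ((EtLim.HGmPull (bcMap Ω f f₁ g h) 2).comp (Dix.brInv Ω f).subtype).codRestrict _
    fun ξ => pull_mem_brInv Ω f f₁ g h ξ.2

theorem HGmPull_bijective_of_isIso {Y Z : Scheme.{u}} (i : Y ⟶ Z) [IsIso i] (n : ℕ) :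
    Function.Bijective (EtLim.HGmPull i n) := by
  have h1 := (K280.BrInj.HHmap_gmp_bijective i n).comp
    (Groth.Agent.Etcore.HpVia.hp_bijective_of_isIso i (EtCoh.Gm Z) n)
  have h2 : ⇑(EtLim.HGmPull i n) = (HHmap (gmp i) n) ∘ (hp i _ n) :=
    funext fun x => K280.BrInj.HGmPull_etale i n x
  rw [h2]
  exact h1

/-- Finiteness descends along injective pull backs. -/
theorem finite_of_injective (hinj : Function.Injective (EtLim.HGmPull (bcMap Ω f f₁ g h) 2))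
    (hfin : Finite (Dix.brInv Ω f₁)) : Finite (Dix.brInv Ω f) :=
  Finite.of_injective (pullInv Ω f f₁ g h) fun _ _ hxy =>
    Subtype.ext (hinj (congrArg Subtype.val hxy))

omit [∀ ⦃Y Z : Scheme.{u}⦄ (g : Y ⟶ Z), PreservesFiniteLimits (EtCoh.pull g)] in
/-- If `X₁ = X ×_k k₁` then `X₁,Ω = X_Ω`. -/
theorem isIso_bcMap (hg : IsPullback g f₁ f (Spec.map (CommRingCat.ofHom (algebraMap k k₁)))) :
    IsIso (bcMap Ω f f₁ g h) := by
  have h2 := (IsPullback.of_hasPullback f₁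
    (Spec.map (CommRingCat.ofHom (algebraMap k₁ Ω)))).paste_horiz hg
  rw [spec_tower] at h2
  have h3 := IsPullback.of_hasPullback f (Spec.map (CommRingCat.ofHom (algebraMap k Ω)))
  have h4 : bcMap Ω f f₁ g h = (h2.isoIsPullback _ _ h3).hom := by
    apply pullback.hom_ext
    · rw [bcMap_fst]
      exact (h2.isoIsPullback_hom_fst _ _ h3).symm
    · rw [bcMap_snd]
      exact (h2.isoIsPullback_hom_snd _ _ h3).symm
  rw [h4]
  infer_instance

/-- Finiteness transports from `X ×_k k₁` to `X`. -/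
theorem finite_of_isPullback
    (hg : IsPullback g f₁ f (Spec.map (CommRingCat.ofHom (algebraMap k k₁))))
    (hfin : Finite (Dix.brInv Ω f₁)) : Finite (Dix.brInv Ω f) :=
  have := isIso_bcMap Ω f f₁ g hg.w hg
  finite_of_injective Ω f f₁ g hg.w (HGmPull_bijective_of_isIso _ 2).1 hfin

end

/-- Finiteness transports along isomorphisms. -/
theorem finite_of_iso {k : Type u} (Ω : Type u) [Field k] [Field Ω] [Algebra k Ω]
    [∀ ⦃Y Z : Scheme.{u}⦄ (g : Y ⟶ Z), PreservesFiniteLimits (EtCoh.pull g)]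
    {X X₁ : Scheme.{u}} (f : X ⟶ Spec (CommRingCat.of k)) (f₁ : X₁ ⟶ Spec (CommRingCat.of k))
    (g : X₁ ⟶ X) [IsIso g] (h : g ≫ f = f₁) (hfin : Finite (Dix.brInv Ω f₁)) :
    Finite (Dix.brInv Ω f) := by
  refine finite_of_isPullback (k₁ := k) Ω f f₁ g ?_ hfin
  have h1 : Spec.map (CommRingCat.ofHom (algebraMap k k)) = 𝟙 _ := Spec.map_id _
  rw [h1]
  exact IsPullback.of_horiz_isIso ⟨by rw [h, Category.comp_id]⟩

end K280.BrEquiv
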