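import Groth.Agent.Sga5.BrFinal
import Groth.Agent.Dix.K280.BrInj

/-!
# Purity for `H²(-, G_m)` in characteristic zero, in terms of `EtLim.HGmPull`
-/

set_option autoImplicit false
universe u
open CategoryTheory CategoryTheory.Limits AlgebraicGeometry Opposite Abelian
open scoped Groth.Agent.Etcore.EtInst
open Groth.Agent.Etcore.EtInst Groth.Agent.Etcore.HpullCalc Groth.Agent.Etcore.GmFun
  Groth.Agent.Topos.H571.GmPull Groth.Agent.Sga4h.EtaleRes Groth.Agent.Sga4h.EtaleRes2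

namespace K280.BrPure

/-- Purity: for `X` smooth over a field of characteristic zero and `U` open containing all points of
codimension at most one, `H²(X, G_m) ⟶ H²(U, G_m)` is bijective. -/
theorem bijective_HGmPull {k : Type u} [Field k] [CharZero k] {X : Scheme.{u}}
    (f : X ⟶ Spec (CommRingCat.of k)) [Smooth f] (U : X.Opens) [IsIntegral (U : Scheme.{u})]
    (hY : ∀ x : X, x ∉ U → 2 ≤ ringKrullDim (X.presheaf.stalk x))
    [hU : PreservesFiniteLimits (EtCoh.pull U.ι)] :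
    Function.Bijective (EtLim.HGmPull U.ι 2) := by
  constructor
  · rw [injective_iff_map_eq_zero]
    intro ξ hξ
    have h1 : HHmap (gmp U.ι) 2 (hp U.ι _ 2 ξ) = 0 :=
      (BrInj.HGmPull_etale U.ι 2 ξ).symm.trans hξ
    have h2 : hp U.ι (EtCoh.Gm X) 2 ξ = 0 :=
      (BrInj.HHmap_gmp_bijective U.ι 2).1 (h1.trans (map_zero _).symm)
    exact Groth.Agent.Sga5.BrFinal.part1 f U hY ξ
      ((Groth.Agent.Sga5.BrGeo.Hpull_eq_zero_iff U.ι (EtCoh.Gm X) 2 ξ).1 h2)
  · intro η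
    obtain ⟨η', h1⟩ := (BrInj.HHmap_gmp_bijective U.ι 2).2 η
    obtain ⟨n, hn, h2⟩ := isOfFinAddOrder_iff_nsmul_eq_zero.1 (BrInj.isAddTorsion_H2 (U.ι ≫ f) η)
    have h3 : n • η' = 0 := by
      apply (BrInj.HHmap_gmp_bijective U.ι 2).1
      rw [map_nsmul, h1, map_zero]
      exact h2
    obtain ⟨ξ, -, h4⟩ := Groth.Agent.Sga5.BrFinal.part2 f U hY n
      (Nat.cast_ne_zero.2 (by lia)) η' h3
    refine ⟨ξ, ?_⟩
    refine (BrInj.HGmPull_etale U.ι 2 ξ).trans ?_
    rw [← h1]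
    exact congrArg (HHmap (gmp U.ι) 2) h4

end K280.BrPure
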