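import Groth.Agent.Dix.K280.DimOneBr
import Groth.Agent.Etrest.SHPoint

/-!
# `H²(X, G_m) = 0` for `X` of finite type and dimension `≤ 1` over an algebraically closed field
-/

set_option autoImplicit false
universe u

open CategoryTheory CategoryTheory.Limits AlgebraicGeometry Opposite TopologicalSpace

namespace K280.DimOneAC

open Groth.Agent

attribute [local instance] Curv2.resAlgebra

/-- The transcendence degree of the residue fields is at most the dimension. -/
theorem trd_le (k : Type u) [Field k] (X : Scheme.{u}) [X.Over (Spec (CommRingCat.of k))]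
    [LocallyOfFiniteType (X ↘ Spec (CommRingCat.of k))] (x : X) :
    (VarietyB.DimSch.trd k X x : WithBot ℕ∞) ≤ topologicalKrullDim X := by
  obtain ⟨U, hU, hx, -⟩ := exists_isAffineOpen_mem_and_subset (X := X) (U := ⊤) (x := x) trivial
  rw [← VarietyB.DimSch.dim_quotient_eq_trd k hU x hx]
  refine (ringKrullDim_quotient_le _).trans ?_
  rw [← VarietyB.DimSch.topologicalKrullDim_affineOpen hU]
  exact topologicalKrullDim_subspace_le _ _

theorem subsingleton_residueField (k : Type u) [Field k] [IsAlgClosed k] (X : Scheme.{u})
    (f : X ⟶ Spec (CommRingCat.of k)) [LocallyOfFiniteType f] (hdim : topologicalKrullDim X ≤ 1)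
    (x : X) (q : ℕ) (hq : 1 ≤ q) :
    Subsingleton
      (EtCoh.H (Spec (X.residueField x)) (EtCoh.Gm (Spec (X.residueField x))) q) := by
  let i1 : X.Over (Spec (CommRingCat.of k)) := ⟨f⟩
  have i2 : LocallyOfFiniteType (X ↘ Spec (CommRingCat.of k)) := ‹LocallyOfFiniteType f›
  have h1 := trd_le k X x
  have h2 := VarietyB.DimSch.trdeg_eq_trd k (X := X) x
  have h3 : VarietyB.DimSch.trd k X x ≤ 1 := by
    exact_mod_cast h1.trans hdim
  rcases Nat.le_one_iff_eq_zero_or_eq_one.1 h3 with h | h
  · rw [h, Nat.cast_zero] at h2
    have h4 : Algebra.IsAlgebraic k (X.residueField x) := trdeg_eq_zero_iff.1 h2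
    have h5 : IsSepClosed (X.residueField x) := Algebra.IsAlgebraic.isSepClosed (F := k)
    exact Groth.Agent.Etrest.SHPoint.subsingleton_H_of_sepClosed (X.residueField x) _ q hq
  · rw [h, Nat.cast_one] at h2
    exact Groth.Agent.S0229.result k (X.residueField x) h2 q hq

/-- **`H²(X, G_m) = 0`** for `X` of finite type and dimension at most one over an algebraically
closed field (not necessarily reduced). -/
theorem subsingleton_H2 (k : Type u) [Field k] [IsAlgClosed k] (X : Scheme.{u})
    (f : X ⟶ Spec (CommRingCat.of k)) [LocallyOfFiniteType f] [QuasiCompact f]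
    (hdim : topologicalKrullDim X ≤ 1) : Subsingleton (EtCoh.H X (EtCoh.Gm X) 2) := by
  have h1 : IsLocallyNoetherian X := LocallyOfFiniteType.isLocallyNoetherian f
  have h2 : CompactSpace X := QuasiCompact.compactSpace_of_compactSpace f
  have h3 : IsNoetherian X := { }
  exact K280.DimOneBr.subsingleton_of_forall hdim
    (fun x hx => Groth.Agent.CurvesA.ClosedPtSep.isSepClosed_residueField f x hx)
    (fun x _ => subsingleton_residueField k X f hdim x 2 (by norm_num))

end K280.DimOneAC
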