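import Groth.Agent.Dix.K280.BrEquiv
import Groth.Agent.Dix.K280.DimOneAC
import Groth.Agent.S1616
import Groth.Agent.CohqA.ChowProd
import Groth.Agent.Flat2B.SmoothGeom
import Groth.Prelude.Def_Neron

/-!
# Invariant Brauer classes of products

* `GoodProd`: smooth projective geometrically integral schemes with finite group of invariant geometric classes;
* `main`: products of good schemes with one factor without geometric Brauer classes, under the finiteness
  hypothesis on products `Hyp`.
-/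

set_option autoImplicit false
universe u
open CategoryTheory CategoryTheory.Limits AlgebraicGeometry

namespace K280.ProdInd

/-- The finiteness hypothesis on products (Skorobogatov–Zarhin) used in the statements. -/
def Hyp [∀ ⦃Y Z : Scheme.{u}⦄ (g : Y ⟶ Z), PreservesFiniteLimits (EtCoh.pull g)] : Prop :=
  ∀ (k' Ω' : Type u) [Field k'] [CharZero k'] [Field Ω'] [Algebra k' Ω'] [IsSepClosure k' Ω'],
      (⊤ : IntermediateField ℚ k').FG →
      ∀ (V W : Scheme.{u}) (gV : V ⟶ Spec (CommRingCat.of k')) (gW : W ⟶ Spec (CommRingCat.of k'))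
        [Smooth gV] [Smooth gW] [GeometricallyIntegral gV] [GeometricallyIntegral gW],
        Neron.IsProjectiveOver k' (Over.mk gV) → Neron.IsProjectiveOver k' (Over.mk gW) →
      (((Dix.brInv Ω' gV).map (EtLim.HGmPull (Dix.geomFst Ω' gV gW) 2) ⊔
          (Dix.brInv Ω' gW).map (EtLim.HGmPull (Dix.geomSnd Ω' gV gW) 2)).addSubgroupOf
        (Dix.brInv Ω' (pullback.fst gV gW ≫ gV))).FiniteIndex

section Proj

variable {R : Type u} [CommRing R]

theorem proj_iso [IsDomain R] {V W : Over (Spec (CommRingCat.of R))} (e : V ≅ W)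
    (h : Neron.IsProjectiveOver R W) : Neron.IsProjectiveOver R V := by
  obtain ⟨n, i, hi, hi2⟩ := h
  have : IsIso e.hom.left := inferInstanceAs (IsIso ((Over.forget _).map e.hom))
  refine ⟨n, e.hom.left ≫ i, inferInstance, ?_⟩
  rw [Category.assoc, hi2]
  exact Over.w e.hom

theorem proj_terminal [IsDomain R] : Neron.IsProjectiveOver R (Over.mk (𝟙 (Spec (CommRingCat.of R)))) := by
  obtain ⟨s, hs⟩ := Groth.Agent.CohqA.ChowProd.exists_section (Spec (CommRingCat.of R))
  refine ⟨0, s, ?_, hs⟩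
  have h1 : IsClosedImmersion (s ≫ CohB1.ProjSpaceOver.toBase 0 (Spec (CommRingCat.of R))) := by
    rw [hs]; infer_instance
  exact IsClosedImmersion.of_comp s (CohB1.ProjSpaceOver.toBase 0 (Spec (CommRingCat.of R)))

theorem proj_prod [IsDomain R] {V W : Scheme.{u}} (gV : V ⟶ Spec (CommRingCat.of R))
    (gW : W ⟶ Spec (CommRingCat.of R)) (hV : Neron.IsProjectiveOver R (Over.mk gV))
    (hW : Neron.IsProjectiveOver R (Over.mk gW)) :
    Neron.IsProjectiveOver R (Over.mk (pullback.fst gV gW ≫ gV)) := by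
  obtain ⟨n, i, hi, hi2⟩ := hV
  obtain ⟨m, j, hj, hj2⟩ := hW
  obtain ⟨φ, hφ, hφ2⟩ := Groth.Agent.S1616.result (Spec (CommRingCat.of R)) n m
  have h0 : MorphismProperty.IsStableUnderComposition @IsClosedImmersion.{u} :=
    ⟨fun f g (hf : IsClosedImmersion f) (hg : IsClosedImmersion g) =>
      (inferInstance : IsClosedImmersion (f ≫ g))⟩
  have h1 : IsClosedImmersion (pullback.map gV gW (CohB1.ProjSpaceOver.toBase n (Spec (CommRingCat.of R)))
      (CohB1.ProjSpaceOver.toBase m (Spec (CommRingCat.of R))) i j (𝟙 _)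
      ((Category.comp_id _).trans hi2.symm) ((Category.comp_id _).trans hj2.symm)) :=
    MorphismProperty.pullbackMap (P := @IsClosedImmersion) hi hj hi2.symm hj2.symm
  refine ⟨n * m + n + m, pullback.map gV gW (CohB1.ProjSpaceOver.toBase n (Spec (CommRingCat.of R)))
      (CohB1.ProjSpaceOver.toBase m (Spec (CommRingCat.of R))) i j (𝟙 _)
      ((Category.comp_id _).trans hi2.symm) ((Category.comp_id _).trans hj2.symm) ≫ φ,
      inferInstance, ?_⟩
  rw [Category.assoc, hφ2, ← Category.assoc, pullback.lift_fst, Category.assoc, hi2]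
  rfl

end Proj

section Geom

variable {k : Type u} [Field k]

theorem gi_prod {V W : Scheme.{u}} (gV : V ⟶ Spec (CommRingCat.of k))
    (gW : W ⟶ Spec (CommRingCat.of k)) [Smooth gV] [Smooth gW] [GeometricallyIntegral gV]
    [GeometricallyIntegral gW] : GeometricallyIntegral (pullback.fst gV gW ≫ gV) := by
  have h1 : GeometricallyIrreducible (pullback.fst gV gW ≫ gV) :=
    GeometricallyIrreducible.comp _ _
  exact Groth.Agent.Flat2B.SmoothGeom.geometricallyIntegral_of_smooth _

theorem gi_id : GeometricallyIntegral (𝟙 (Spec (CommRingCat.of k))) := by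
  have h : GeometricallyIrreducible (𝟙 (Spec (CommRingCat.of k))) := by
    rw [geometricallyIrreducible_iff]
    intro K _ y W fst snd hp
    have h1 : IsIso snd := MorphismProperty.of_isPullback
      (P := MorphismProperty.isomorphisms Scheme.{u}) hp (MorphismProperty.isomorphisms.infer_property _)
    have h2 : IrreducibleSpace (Spec (CommRingCat.of K)) := inferInstance
    exact snd.homeomorph.irreducibleSpace_iff.2 h2
  exact Groth.Agent.Flat2B.SmoothGeom.geometricallyIntegral_of_smooth _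

end Geom

section Main

variable [∀ ⦃Y Z : Scheme.{u}⦄ (g : Y ⟶ Z), PreservesFiniteLimits (EtCoh.pull g)]
variable {k : Type u} [Field k] (Ω : Type u) [Field Ω] [Algebra k Ω]

/-- Smooth projective geometrically integral schemes with finitely many invariant geometric classes. -/
structure GoodProd (D : Over (Spec (CommRingCat.of k))) : Prop where
  smooth : Smooth D.hom
  gi : GeometricallyIntegral D.hom
  proj : Neron.IsProjectiveOver k D
  fin : Finite (Dix.brInv Ω D.hom)

omit [∀ ⦃Y Z : Scheme.{u}⦄ (g : Y ⟶ Z), PreservesFiniteLimits (EtCoh.pull g)] in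
/-- Smooth projective geometrically integral curves (dimension at most one over `Ω`). -/
structure GoodCurve (D : Over (Spec (CommRingCat.of k))) : Prop where
  smooth : Smooth D.hom
  gi : GeometricallyIntegral D.hom
  proj : Neron.IsProjectiveOver k D
  dim : topologicalKrullDim (SGA7.bcField Ω D.hom) ≤ 1

variable {Ω}

theorem GoodProd.of_iso {D E : Over (Spec (CommRingCat.of k))} (e : D ≅ E) (h : GoodProd Ω E) :
    GoodProd Ω D := by
  have h1 : IsIso e.hom.left := inferInstanceAs (IsIso ((Over.forget _).map e.hom))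
  have h2 : IsIso e.inv.left := inferInstanceAs (IsIso ((Over.forget _).map e.inv))
  have hw : e.hom.left ≫ E.hom = D.hom := Over.w e.hom
  have hs := h.smooth
  have hg := h.gi
  refine ⟨?_, ?_, proj_iso e h.proj, ?_⟩
  · rw [← hw]; infer_instance
  · have hp : IsPullback e.hom.left D.hom E.hom (𝟙 _) :=
      IsPullback.of_horiz_isIso ⟨by rw [hw, Category.comp_id]⟩
    exact MorphismProperty.of_isPullback (P := @GeometricallyIntegral) hp hg
  · exact BrEquiv.finite_of_iso Ω D.hom E.hom e.inv.left (Over.w e.inv) h.fin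

omit [∀ ⦃Y Z : Scheme.{u}⦄ (g : Y ⟶ Z), PreservesFiniteLimits (EtCoh.pull g)] in
theorem subsingleton_of_dim [IsAlgClosed Ω] {D : Scheme.{u}} (g : D ⟶ Spec (CommRingCat.of k))
    [Smooth g] [QuasiCompact g] (hdim : topologicalKrullDim (SGA7.bcField Ω g) ≤ 1) :
    Subsingleton (Dix.BrCoh (SGA7.bcField Ω g)) :=
  K280.DimOneAC.subsingleton_H2 Ω (SGA7.bcField Ω g)
    (pullback.snd g (Spec.map (CommRingCat.ofHom (algebraMap k Ω)))) hdim

omit [∀ ⦃Y Z : Scheme.{u}⦄ (g : Y ⟶ Z), PreservesFiniteLimits (EtCoh.pull g)] in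
theorem isProper_of_proj {D : Over (Spec (CommRingCat.of k))} (h : Neron.IsProjectiveOver k D) :
    IsProper D.hom := by
  obtain ⟨n, i, hi, hi2⟩ := h
  rw [← hi2]
  infer_instance

theorem goodProd_id [IsAlgClosed Ω] : GoodProd Ω (Over.mk (𝟙 (Spec (CommRingCat.of k)))) := by
  refine ⟨inferInstanceAs (Smooth (𝟙 _)), gi_id, proj_terminal, ?_⟩
  have h1 : Subsingleton (Dix.BrCoh (SGA7.bcField Ω (𝟙 (Spec (CommRingCat.of k))))) := by
    refine subsingleton_of_dim _ ?_
    have e : SGA7.bcField Ω (𝟙 (Spec (CommRingCat.of k))) ≅ Spec (CommRingCat.of Ω) :=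
      asIso (pullback.snd (𝟙 (Spec (CommRingCat.of k)))
        (Spec.map (CommRingCat.ofHom (algebraMap k Ω))))
    rw [IsHomeomorph.topologicalKrullDim_eq _ (Scheme.homeoOfIso e).isHomeomorph]
    refine le_of_eq_of_le (PrimeSpectrum.topologicalKrullDim_eq_ringKrullDim Ω) ?_
    rw [ringKrullDim_eq_zero_of_field]
    exact zero_le_one
  have h2 : Finite (Dix.BrCoh (SGA7.bcField Ω (𝟙 (Spec (CommRingCat.of k))))) :=
    Finite.of_subsingleton
  exact @Finite.of_injective _ _ h2 (Subtype.val) Subtype.val_injective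

theorem goodProd_prod (hyp : Hyp.{u}) [CharZero k] [IsSepClosure k Ω] [IsAlgClosed Ω]
    (hk : (⊤ : IntermediateField ℚ k).FG) {V W : Over (Spec (CommRingCat.of k))}
    (hV : GoodCurve Ω V) (hW : GoodProd Ω W) :
    GoodProd Ω (Over.mk (pullback.fst V.hom W.hom ≫ V.hom)) := by
  have h1 := hV.smooth
  have h2 := hW.smooth
  have h3 := hV.gi
  have h4 := hW.gi
  have h5 := isProper_of_proj hV.proj
  refine ⟨inferInstanceAs (Smooth (pullback.fst V.hom W.hom ≫ V.hom)), gi_prod V.hom W.hom,
    proj_prod V.hom W.hom hV.proj hW.proj, ?_⟩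
  have h6 := hyp k Ω hk V.left W.left V.hom W.hom hV.proj hW.proj
  have h7 := subsingleton_of_dim (Ω := Ω) V.hom hV.dim
  have h8 : Dix.brInv Ω V.hom = ⊥ := by
    rw [eq_bot_iff]
    exact fun x _ => Subsingleton.elim _ _
  have h9 := hW.fin
  rw [h8, AddSubgroup.map_bot, bot_sup_eq] at h6
  have h10 : Finite ((Dix.brInv Ω W.hom).map (EtLim.HGmPull (Dix.geomSnd Ω V.hom W.hom) 2)) :=
    Set.Finite.image _ (Set.toFinite _)
  have h11 : Finite (((Dix.brInv Ω W.hom).map
      (EtLim.HGmPull (Dix.geomSnd Ω V.hom W.hom) 2)).addSubgroupOf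
        (Dix.brInv Ω (pullback.fst V.hom W.hom ≫ V.hom))) :=
    Finite.of_injective (fun x => (⟨x.1.1, x.2⟩ : ((Dix.brInv Ω W.hom).map
      (EtLim.HGmPull (Dix.geomSnd Ω V.hom W.hom) 2)))) fun x y hxy =>
        Subtype.ext (Subtype.ext (Subtype.mk.inj hxy))
  exact (AddSubgroup.finite_iff_finite_and_finiteIndex _).2 ⟨h11, h6⟩

/-- Finite products of good curves are good. -/
theorem exists_goodProd (hyp : Hyp.{u}) [CharZero k] [IsSepClosure k Ω] [IsAlgClosed Ω]
    (hk : (⊤ : IntermediateField ℚ k).FG) : ∀ (n : ℕ) (D : Fin n → Over (Spec (CommRingCat.of k))),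
    (∀ i, GoodCurve Ω (D i)) → ∃ (c : Fan D), Nonempty (IsLimit c) ∧ GoodProd Ω c.pt
  | 0, D, _ => by
    refine ⟨Fan.mk (Over.mk (𝟙 (Spec (CommRingCat.of k)))) (fun i => i.elim0), ⟨?_⟩, goodProd_id⟩
    exact Fan.IsLimit.mk _ (fun s => Over.mkIdTerminal.from s.pt) (fun s i => i.elim0)
      (fun s m _ => Over.mkIdTerminal.hom_ext _ _)
  | n + 1, D, hD => by
    obtain ⟨c, ⟨hc⟩, hg⟩ := exists_goodProd hyp hk n (fun i => D i.succ) (fun i => hD i.succ)
    have t₂ := (pullback.isLimit (D 0).hom c.pt.hom).pullbackConeEquivBinaryFanFunctor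
    exact ⟨_, ⟨extendFanIsLimit D hc t₂⟩, goodProd_prod hyp hk (hD 0) hg⟩

/-- Finite products of good curves are good. -/
theorem goodProd_of_isLimit (hyp : Hyp.{u}) [CharZero k] [IsSepClosure k Ω] [IsAlgClosed Ω]
    (hk : (⊤ : IntermediateField ℚ k).FG) (n : ℕ) (D : Fin n → Over (Spec (CommRingCat.of k)))
    (hD : ∀ i, GoodCurve Ω (D i)) (c : Fan D) (hc : IsLimit c) : GoodProd Ω c.pt := by
  obtain ⟨c', ⟨hc'⟩, hg⟩ := exists_goodProd hyp hk n D hD
  exact hg.of_iso (hc.conePointUniqueUpToIso hc')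

end Main

end K280.ProdInd
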