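import Groth.Agent.Dix.K280.CurveModel
import Groth.Agent.Dix.K280.ProdInd
import Groth.Agent.Dix.EtMin25A
import Groth.Agent.Fdesc.IntegralFib
import Groth.Agent.S4642
import Mathlib.RingTheory.Extension.Presentation.Core

/-!
# Curves over the algebraic closure have good models over a finite extension
-/

set_option autoImplicit false
universe u
open CategoryTheory CategoryTheory.Limits AlgebraicGeometry
open scoped TensorProduct

namespace K280.CurveDesc

/-- An algebra of finite type over an algebraic extension `Ω` of `k` is defined over a finite extension. -/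
theorem exists_model_ring {k Ω A : Type u} [Field k] [Field Ω] [Algebra k Ω]
    [Algebra.IsAlgebraic k Ω] [CommRing A] [Algebra Ω A] [Algebra.FiniteType Ω A] :
    ∃ (E : IntermediateField k Ω) (_ : FiniteDimensional k E) (B : Type u) (_ : CommRing B)
      (_ : Algebra E B) (_ : Algebra.FiniteType E B), Nonempty (Ω ⊗[E] B ≃ₐ[Ω] A) := by
  have h1 : Algebra.FinitePresentation Ω A := Algebra.FinitePresentation.of_finiteType.1 inferInstance
  let P := Algebra.Presentation.ofFinitePresentation Ω A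
  let E : IntermediateField k Ω := IntermediateField.adjoin k P.coeffs
  have hfin : P.coeffs.Finite := P.finite_coeffs
  have h2 : FiniteDimensional k E :=
    have := hfin.to_subtype
    IntermediateField.finiteDimensional_adjoin fun x _ => Algebra.IsIntegral.isIntegral x
  have h3 : IsScalarTower E Ω A := inferInstance
  have h4 : P.HasCoeffs E := ⟨fun x hx => ⟨⟨x, IntermediateField.subset_adjoin k _ hx⟩, rfl⟩⟩
  exact ⟨E, h2, P.ModelOfHasCoeffs E, inferInstance, inferInstance, inferInstance,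
    ⟨P.tensorModelOfHasCoeffsEquiv E⟩⟩

section BC

variable {k k₁ Ω : Type u} [Field k] [Field k₁] [Field Ω] [Algebra k k₁] [Algebra k₁ Ω]
  [Algebra k Ω] [IsScalarTower k k₁ Ω]

open K280.ProdInd

/-- Good curves are stable under extension of the base field. -/
theorem goodCurve_bc (D : Over (Spec (CommRingCat.of k))) (h : GoodCurve Ω D) :
    GoodCurve Ω ((Over.pullback (Spec.map (CommRingCat.ofHom (algebraMap k k₁)))).obj D) := by
  have h1 := h.smooth
  have h2 := h.gi
  refine ⟨inferInstanceAs (Smooth (pullback.snd _ _)),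
    inferInstanceAs (GeometricallyIntegral (pullback.snd _ _)),
    Groth.Agent.Dix.EtMin25A.isProjectiveOver_baseChange D h.proj, ?_⟩
  have h3 : IsPullback (pullback.fst D.hom (Spec.map (CommRingCat.ofHom (algebraMap k k₁))))
    (pullback.snd D.hom (Spec.map (CommRingCat.ofHom (algebraMap k k₁)))) D.hom
    (Spec.map (CommRingCat.ofHom (algebraMap k k₁))) := IsPullback.of_hasPullback _ _
  have h4 := K280.BrEquiv.isIso_bcMap Ω D.hom
    (pullback.snd D.hom (Spec.map (CommRingCat.ofHom (algebraMap k k₁)))) _ h3.w h3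
  have h5 := IsHomeomorph.topologicalKrullDim_eq _ (Scheme.homeoOfIso (asIso (K280.BrEquiv.bcMap Ω D.hom
    (pullback.snd D.hom (Spec.map (CommRingCat.ofHom (algebraMap k k₁)))) _ h3.w))).isHomeomorph
  exact h5.le.trans h.dim

end BC

section Self

variable {k : Type u} (Ω : Type u) [Field k] [Field Ω] [Algebra k Ω]
  {X X₁ : Scheme.{u}} (f : X ⟶ Spec (CommRingCat.of k)) (f₁ : X₁ ⟶ Spec (CommRingCat.of k))
  (g : X₁ ⟶ X) (h : g ≫ f = f₁ ≫ Spec.map (CommRingCat.ofHom (algebraMap k k)))

/-- Over a fixed base field, `bcMap` is the base change of `g`. -/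
theorem isPullback_bcMap : IsPullback (K280.BrEquiv.bcMap Ω f f₁ g h) (pullback.fst _ _)
    (pullback.fst _ _) g := by
  have h1 : g ≫ f = f₁ := h.trans (by
    have h2 : Spec.map (CommRingCat.ofHom (algebraMap k k)) = 𝟙 _ := Spec.map_id _
    rw [h2, Category.comp_id])
  refine IsPullback.of_right (h₁₂ := pullback.snd f (Spec.map (CommRingCat.ofHom (algebraMap k Ω))))
    (v₁₃ := Spec.map (CommRingCat.ofHom (algebraMap k Ω))) (h₂₂ := f) ?_
    (K280.BrEquiv.bcMap_fst Ω f f₁ g h) (IsPullback.of_hasPullback f _).flip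
  rw [K280.BrEquiv.bcMap_snd]
  subst h1
  exact (IsPullback.of_hasPullback (g ≫ f) _).flip

instance isOpenImmersion_bcMap [IsOpenImmersion g] :
    IsOpenImmersion (K280.BrEquiv.bcMap Ω f f₁ g h) :=
  MorphismProperty.of_isPullback (P := @IsOpenImmersion) (isPullback_bcMap Ω f f₁ g h).flip
    inferInstance

end Self

theorem comp_self {k : Type u} [Field k] {X X₁ : Scheme.{u}} {f : X ⟶ Spec (CommRingCat.of k)}
    {f₁ : X₁ ⟶ Spec (CommRingCat.of k)} {g : X₁ ⟶ X} (h : g ≫ f = f₁) :
    g ≫ f = f₁ ≫ Spec.map (CommRingCat.ofHom (algebraMap k k)) := by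
  have h2 : Spec.map (CommRingCat.ofHom (algebraMap k k)) = 𝟙 _ := Spec.map_id _
  rw [h2, Category.comp_id, h]

/-- The dimension of a nonempty open subscheme. -/
theorem dim_open {k : Type u} [Field k] {X W : Scheme.{u}} [IrreducibleSpace X] [IrreducibleSpace W]
    (p : X ⟶ Spec (CommRingCat.of k)) [LocallyOfFiniteType p] (j : W ⟶ X) [IsOpenImmersion j]
    (n : ℕ) (h : topologicalKrullDim X = n) : topologicalKrullDim W = n := by
  have : IsDominant j := ⟨by
    have h1 : (Set.range j).Nonempty := Set.range_nonempty _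
    exact j.isOpenEmbedding.isOpen_range.dense h1⟩
  have h3 := (K432.CurveNorm.dim_eq_iff p n).mp h
  refine (K432.CurveNorm.dim_eq_iff (j ≫ p) n).mpr ?_
  rw [Groth.Agent.CycB.RelDim.rtd_comp, K432.CurveNorm.map_genericPoint, h3,
    K432.CurveNorm.rtd_eq_zero_of_locallyQuasiFinite, add_zero]

/-- A smooth `k`-scheme whose base change to the algebraically closed `Ω` contains a dense open irreducible
subscheme coming from `k` is geometrically integral. -/
theorem geometricallyIntegral_of_dense {k : Type u} (Ω : Type u) [Field k] [Field Ω] [Algebra k Ω]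
    [IsAlgClosed Ω] {X X₁ : Scheme.{u}} [IrreducibleSpace X] (f : X ⟶ Spec (CommRingCat.of k)) [Smooth f]
    (f₁ : X₁ ⟶ Spec (CommRingCat.of k)) (g : X₁ ⟶ X) [IsOpenImmersion g] (h : g ≫ f = f₁)
    [Nonempty X₁] [IrreducibleSpace (SGA7.bcField Ω f₁)] : GeometricallyIntegral f := by
  let b := K280.BrEquiv.bcMap Ω f f₁ g (comp_self h)
  have hp := isPullback_bcMap Ω f f₁ g (comp_self h)
  have hopen : IsOpenMap (pullback.fst f (Spec.map (CommRingCat.ofHom (algebraMap k Ω)))) :=
    (pullback.fst f (Spec.map (CommRingCat.ofHom (algebraMap k Ω)))).isOpenMap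
  have hd : Dense (Set.range g) := g.isOpenEmbedding.isOpen_range.dense (Set.range_nonempty _)
  have hr : Set.range b = (pullback.fst f (Spec.map (CommRingCat.ofHom (algebraMap k Ω)))) ⁻¹'
      Set.range g := by
    have h1 := Scheme.image_preimage_eq_of_isPullback hp.flip Set.univ
    rw [Set.preimage_univ, Set.image_univ, Set.image_univ] at h1
    exact h1
  have hd2 : Dense (Set.range b) := by
    rw [hr]
    exact hd.preimage hopen
  have hirr : IrreducibleSpace (SGA7.bcField Ω f) := by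
    have h1 : IsIrreducible (Set.range b) := by
      rw [← Set.image_univ]
      exact (IrreducibleSpace.isIrreducible_univ _).image _ b.continuous.continuousOn
    have h2 := h1.closure
    rw [hd2.closure_eq] at h2
    exact (irreducibleSpace_def _).2 h2
  have h3 : GeometricallyIrreducible f :=
    Groth.Agent.Fdesc.IntegralFib.geometricallyIrreducible_of_irreducibleSpace_pullback f
      (Spec.map (CommRingCat.ofHom (algebraMap k Ω)))
  exact Groth.Agent.Flat2B.SmoothGeom.geometricallyIntegral_of_smooth f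

/-- **Models of curves.** A curve over `Ω` has an open subscheme which is an open subscheme of the base change
of a good curve over a finite extension of `k`. -/
theorem exists_goodCurve (k : Type u) {Ω : Type u} [Field k] [Field Ω] [Algebra k Ω] [CharZero k]
    [IsAlgClosed Ω] [Algebra.IsAlgebraic k Ω] {C : Scheme.{u}} [IsIntegral C]
    (c : C ⟶ Spec (CommRingCat.of Ω)) [LocallyOfFiniteType c] (hdim : topologicalKrullDim C = 1) :
    ∃ (E : IntermediateField k Ω) (_ : FiniteDimensional k E) (D : Over (Spec (CommRingCat.of E)))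
      (W : Scheme.{u}) (a : W ⟶ C) (b : W ⟶ SGA7.bcField Ω D.hom), ProdInd.GoodCurve Ω D ∧
        Nonempty W ∧ IsOpenImmersion a ∧ IsOpenImmersion b ∧ b ≫ pullback.snd _ _ = a ≫ c := by
  obtain ⟨z⟩ : Nonempty C := inferInstance
  obtain ⟨_, ⟨U, hU, rfl⟩, hz, -⟩ :=
    C.isBasis_affineOpens.exists_subset_of_mem_open (Set.mem_univ z) isOpen_univ
  have hU' : IsAffineOpen U := hU
  have : Nonempty U := ⟨⟨z, hz⟩⟩
  obtain ⟨φ, hφ⟩ := Spec.map_surjective (hU'.fromSpec ≫ c)
  have h1 : LocallyOfFiniteType (Spec.map φ) := by rw [hφ]; infer_instance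
  rw [HasRingHomProperty.Spec_iff (P := @LocallyOfFiniteType)] at h1
  let : Algebra Ω Γ(C, U) := φ.hom.toAlgebra
  have h2 : Algebra.FiniteType Ω Γ(C, U) := h1
  obtain ⟨E, hE, B, i1, i2, i3, ⟨e⟩⟩ := exists_model_ring (k := k) (Ω := Ω) (A := Γ(C, U))
  have hdomT : IsDomain (Ω ⊗[E] B) := e.toRingEquiv.toMulEquiv.isDomain Γ(C, U)
  have hinjB : Function.Injective (Algebra.TensorProduct.includeRight : B →ₐ[E] Ω ⊗[E] B) :=
    Algebra.TensorProduct.includeRight_injective (algebraMap E Ω).injective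
  have hdomB : IsDomain B := hinjB.isDomain (Algebra.TensorProduct.includeRight : B →ₐ[E] Ω ⊗[E] B).toRingHom
  -- the affine open of `C`
  let r : Spec (CommRingCat.of (Ω ⊗[E] B)) ⟶ C :=
    Spec.map (CommRingCat.ofHom e.symm.toRingEquiv.toRingHom) ≫ hU'.fromSpec
  have hiso : IsIso (CommRingCat.ofHom e.symm.toRingEquiv.toRingHom) :=
    inferInstanceAs (IsIso e.symm.toRingEquiv.toCommRingCatIso.hom)
  have hr : IsOpenImmersion r := inferInstance
  let t : Spec (CommRingCat.of Ω) ⟶ Spec (CommRingCat.of E) :=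
    Spec.map (CommRingCat.ofHom (algebraMap E Ω))
  let c₀ : Spec (CommRingCat.of B) ⟶ Spec (CommRingCat.of E) :=
    Spec.map (CommRingCat.ofHom (algebraMap E B))
  have hrc : r ≫ c = Spec.map (CommRingCat.ofHom (algebraMap Ω (Ω ⊗[E] B))) := by
    rw [Category.assoc, ← hφ, ← Spec.map_comp]
    congr 1
    ext x
    exact e.symm.commutes x
  have hpb : IsPullback (Spec.map (CommRingCat.ofHom
        (Algebra.TensorProduct.includeRight : B →ₐ[E] Ω ⊗[E] B).toRingHom))
      (Spec.map (CommRingCat.ofHom (algebraMap Ω (Ω ⊗[E] B)))) c₀ t :=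
    (isPullback_SpecMap_of_isPushout _ _ _ _ (CommRingCat.isPushout_tensorProduct E Ω B)).flip
  let ψ : SGA7.bcField Ω c₀ ≅ Spec (CommRingCat.of (Ω ⊗[E] B)) :=
    hpb.isoPullback.symm
  have hψ : ψ.hom ≫ Spec.map (CommRingCat.ofHom (algebraMap Ω (Ω ⊗[E] B))) = pullback.snd c₀ t :=
    hpb.isoPullback_inv_snd
  have hc₀ : LocallyOfFiniteType c₀ := by
    rw [HasRingHomProperty.Spec_iff (P := @LocallyOfFiniteType)]
    exact RingHom.finiteType_algebraMap.2 i3
  have hd1 : topologicalKrullDim (Spec (CommRingCat.of (Ω ⊗[E] B))) = 1 := dim_open c r 1 hdim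
  have hdB : topologicalKrullDim (Spec (CommRingCat.of B)) = 1 := by
    rw [← Groth.Agent.S4642.result (K := Ω) c₀, ← hd1]
    exact IsHomeomorph.topologicalKrullDim_eq _ (Scheme.homeoOfIso ψ).isHomeomorph
  obtain ⟨D₀, d₀, Q, j, hsm, hpj, hDi, hDd, hQ, hj, hjd⟩ := CurveModel.exists_model c₀ hdB
  have hDf : LocallyOfFiniteType d₀ := inferInstance
  have ht : Surjective t := Groth.Agent.Fdesc.BaseField.surjective_of_field t
  have hQne : Nonempty (Q : Scheme.{u}) := hQ.to_subtype
  have hWne : Nonempty (SGA7.bcField Ω (Q.ι ≫ c₀)) := by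
    obtain ⟨q⟩ := hQne
    obtain ⟨w, -⟩ := (pullback.fst (Q.ι ≫ c₀) t).surjective q
    exact ⟨w⟩
  have hint0 : IsIntegral (SGA7.bcField Ω c₀) := by
    have : Nonempty (SGA7.bcField Ω c₀) :=
      ⟨K280.BrEquiv.bcMap Ω c₀ (Q.ι ≫ c₀) Q.ι (comp_self rfl) hWne.some⟩
    exact isIntegral_of_isOpenImmersion ψ.hom
  have hWint : IsIntegral (SGA7.bcField Ω (Q.ι ≫ c₀)) :=
    isIntegral_of_isOpenImmersion (K280.BrEquiv.bcMap Ω c₀ (Q.ι ≫ c₀) Q.ι (comp_self rfl))
  refine ⟨E, hE, Over.mk d₀, SGA7.bcField Ω (Q.ι ≫ c₀),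
    K280.BrEquiv.bcMap Ω c₀ (Q.ι ≫ c₀) Q.ι (comp_self rfl) ≫ ψ.hom ≫ r,
    K280.BrEquiv.bcMap Ω d₀ (Q.ι ≫ c₀) j (comp_self hjd),
    ⟨hsm, geometricallyIntegral_of_dense Ω d₀ (Q.ι ≫ c₀) j hjd, hpj, ?_⟩, hWne, inferInstance,
    inferInstance, ?_⟩
  · exact ((Groth.Agent.S4642.result (K := Ω) d₀).trans hDd).le
  · rw [Category.assoc, Category.assoc, hrc, hψ, K280.BrEquiv.bcMap_snd]
    exact K280.BrEquiv.bcMap_snd Ω d₀ (Q.ι ≫ c₀) j (comp_self hjd)

end K280.CurveDesc
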