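import Groth.Agent.S0185
import Groth.Agent.EtpbcB.TorsionBasic
import Groth.Agent.Etrest.ConstBasic
import Groth.Agent.Sga4h.MuLocal
import Groth.Agent.Dix.KummerLES

/-!
# Finiteness of the `n`-torsion of `H^i(X, G_m)`, `X` proper over a separably closed field
-/

set_option autoImplicit false
universe u
open CategoryTheory CategoryTheory.Limits AlgebraicGeometry Opposite Abelian

namespace K280.KumFin

variable {k : Type u} [Field k] {X : Scheme.{u}} (f : X ⟶ Spec (CommRingCat.of k)) (n : ℕ)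
  (hn : (n : k) ≠ 0)

/-- scalars of a scheme over `Spec k`. -/
noncomputable def scal : k →+* Γ(X, ⊤) :=
  ((Scheme.ΓSpecIso (CommRingCat.of k)).inv ≫ f.appTop).hom

include f hn in
theorem isUnit_natCast : IsUnit (n : Γ(X, ⊤)) := by
  have h := (IsUnit.mk0 _ hn).map (scal f)
  rwa [map_natCast] at h

include f hn in
theorem exists_root [IsSepClosed k] : ∃ z : Γ(X, ⊤), (Polynomial.cyclotomic n Γ(X, ⊤)).IsRoot z := by
  have : NeZero (n : k) := ⟨hn⟩
  have hn0 : 0 < n := Nat.pos_of_ne_zero (by rintro rfl; simp at hn)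
  obtain ⟨z, hz⟩ := IsSepClosed.exists_root (Polynomial.cyclotomic n k)
    (Polynomial.degree_cyclotomic_pos n k hn0).ne' (Polynomial.separable_cyclotomic n k)
  refine ⟨scal f z, ?_⟩
  have := hz.map (f := scal f)
  rwa [Polynomial.map_cyclotomic] at this

include f hn in
theorem nonempty_const_mu [IsSepClosed k] : Nonempty (EtCoh.const X (ZMod n) ≅ EtCoh.mu X n) := by
  obtain ⟨z, hz⟩ := exists_root f n hn
  exact Groth.Agent.Sga4h.MuLocal.nonempty_iso_const_mu n (by rintro rfl; simp at hn)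
    (isUnit_natCast f n hn) z hz

include f hn in
theorem finite_H_mu [IsSepClosed k] [IsProper f] (q : ℕ) : Finite (EtCoh.H X (EtCoh.mu X n) q) := by
  have hn0 : 0 < n := Nat.pos_of_ne_zero (by rintro rfl; simp at hn)
  have : NeZero n := ⟨hn0.ne'⟩
  obtain ⟨e⟩ := nonempty_const_mu f n hn
  have h1 : Finite (EtCoh.H X (EtCoh.const X (ZMod n)) q) :=
    Groth.Agent.S0185.result X f n hn0 (EtCoh.const X (ZMod n))
      (Groth.Agent.Etrest.ConstBasic.isConstructible_const X (ZMod n))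
      (Groth.Agent.EtpbcB.TorsionBasic.killedBy_const (ZMod n) n fun x => by
        rw [nsmul_eq_mul, ZMod.natCast_self, zero_mul]) q
  refine Finite.of_surjective (fun x : EtCoh.H X (EtCoh.const X (ZMod n)) q =>
    (Ext.comp x (Ext.mk₀ e.hom) (add_zero q) : EtCoh.H X (EtCoh.mu X n) q)) (fun y => ?_)
  refine ⟨Ext.comp y (Ext.mk₀ e.inv) (add_zero q), ?_⟩
  change Ext.comp (Ext.comp y (Ext.mk₀ e.inv) (add_zero q)) (Ext.mk₀ e.hom) (add_zero q) = y
  rw [Ext.comp_assoc_of_third_deg_zero, Ext.mk₀_comp_mk₀, Iso.inv_hom_id, Ext.comp_mk₀_id]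

include f hn in
/-- `H^q(X, G_m)[n]` is finite. -/
theorem finite_torsion [IsSepClosed k] [IsProper f] (q : ℕ) :
    Set.Finite {x : EtCoh.H X (EtCoh.Gm X) q | n • x = 0} := by
  have := finite_H_mu f n hn q
  refine (Set.finite_range (fun y : EtCoh.H X (EtCoh.mu X n) q =>
    Sheaf.H.map (EtCoh.muι X n) q y)).subset ?_
  intro x hx
  obtain ⟨y, hy⟩ := Groth.Agent.Dix.KummerLES.exists_mu_of_nsmul_eq_zero
    (isUnit_natCast f n hn) q x hx
  exact ⟨y, hy⟩

end K280.KumFin
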