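import Groth.Agent.Dix.K280.BrInj
import Groth.Agent.Dix.K280.KumFin

/-!
# The kernel of `H²(Y, G_m) ⟶ H²(V, G_m)` for `V ⟶ Y` dominant

* `exists_finite_point`: a nonempty scheme locally of finite type over a field has a point with finite residue field;
* `exists_point_over_generic`: the same over the generic point of `Y`;
* `exists_nsmul`: the kernel is killed by a positive integer (`Y` smooth over a field);
* `finite_ker`: the kernel is finite for `Y` proper and smooth over a separably closed field of char. zero.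
-/

set_option autoImplicit false
universe u
open CategoryTheory CategoryTheory.Limits AlgebraicGeometry Opposite

namespace K280.KerFin

theorem exists_finite_point {K : Type u} [Field K] {Z : Scheme.{u}}
    (g : Z ⟶ Spec (CommRingCat.of K)) [LocallyOfFiniteType g] [Nonempty Z] :
    ∃ (L : Type u) (_ : Field L) (_ : Algebra K L) (_ : Module.Finite K L)
      (s : Spec (CommRingCat.of L) ⟶ Z),
      s ≫ g = Spec.map (CommRingCat.ofHom (algebraMap K L)) := by
  obtain ⟨z⟩ := ‹Nonempty Z›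
  obtain ⟨_, ⟨U, hU, rfl⟩, hz, -⟩ :=
    Z.isBasis_affineOpens.exists_subset_of_mem_open (Set.mem_univ z) isOpen_univ
  have hU' : IsAffineOpen U := hU
  obtain ⟨φ, hφ⟩ := Spec.map_surjective (hU'.fromSpec ≫ g)
  have h1 : LocallyOfFiniteType (Spec.map φ) := by rw [hφ]; infer_instance
  rw [HasRingHomProperty.Spec_iff (P := @LocallyOfFiniteType)] at h1
  have : Nonempty U := ⟨⟨z, hz⟩⟩
  have hne : Nontrivial Γ(Z, U) := inferInstance
  obtain ⟨m, hm⟩ := Ideal.exists_maximal Γ(Z, U)
  let : Field (Γ(Z, U) ⧸ m) := Ideal.Quotient.field m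
  let : Algebra K (Γ(Z, U) ⧸ m) := ((Ideal.Quotient.mk m).comp φ.hom).toAlgebra
  have h2 : Algebra.FiniteType K (Γ(Z, U) ⧸ m) :=
    RingHom.FiniteType.comp (RingHom.FiniteType.of_surjective _ Ideal.Quotient.mk_surjective) h1
  have h3 : Module.Finite K (Γ(Z, U) ⧸ m) := finite_of_finite_type_of_isJacobsonRing K _
  refine ⟨Γ(Z, U) ⧸ m, inferInstance, inferInstance, h3,
    Spec.map (CommRingCat.ofHom (Ideal.Quotient.mk m)) ≫ hU'.fromSpec, ?_⟩
  rw [Category.assoc, ← hφ, ← Spec.map_comp]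
  rfl

theorem exists_point_over_generic {V Y : Scheme.{u}} [IsIntegral V] [IsIntegral Y] (φ : V ⟶ Y)
    [LocallyOfFiniteType φ] (hφ : DenseRange φ) :
    ∃ (L : Type u) (_ : Field L) (_ : Algebra Y.functionField L)
      (_ : Module.Finite Y.functionField L)
      (s : Spec (CommRingCat.of L) ⟶ V),
      s ≫ φ = Spec.map (CommRingCat.ofHom (algebraMap Y.functionField L)) ≫
        Y.fromSpecStalk (genericPoint Y) := by
  have h1 : φ (genericPoint V) = genericPoint Y := by
    have h2 : IsGenericPoint (φ (genericPoint V)) Set.univ := by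
      have h3 := (genericPoint_spec V).image φ.continuous
      rw [Set.image_univ] at h3
      rwa [hφ.closure_range] at h3
    exact h2.eq (genericPoint_spec Y)
  have h4 : (genericPoint Y) ∈ Set.range (Y.fromSpecStalk (genericPoint Y)) := by
    rw [Y.range_fromSpecStalk]
    exact specializes_rfl
  obtain ⟨t, ht⟩ := h4
  obtain ⟨z, -, -⟩ := Scheme.Pullback.exists_preimage_pullback
    (f := φ) (g := Y.fromSpecStalk (genericPoint Y)) (genericPoint V) t (h1.trans ht.symm)
  have : Nonempty ↥(pullback φ (Y.fromSpecStalk (genericPoint Y))) := ⟨z⟩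
  obtain ⟨L, i1, i2, i3, s, hs⟩ := exists_finite_point (K := Y.functionField)
    (pullback.snd φ (Y.fromSpecStalk (genericPoint Y)))
  refine ⟨L, i1, i2, i3, s ≫ pullback.fst _ _, ?_⟩
  rw [Category.assoc, pullback.condition, ← Category.assoc, hs]

section

variable {k : Type u} [Field k] {V Y : Scheme.{u}} [IsIntegral V] [IsIntegral Y] [IsNoetherian Y]
  (f : Y ⟶ Spec (CommRingCat.of k)) [Smooth f] (φ : V ⟶ Y)
    [LocallyOfFiniteType φ] (hφ : DenseRange φ)
  [∀ ⦃Y Z : Scheme.{u}⦄ (g : Y ⟶ Z), PreservesFiniteLimits (EtCoh.pull g)]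

include f hφ in
/-- The kernel of `H²(Y, G_m) ⟶ H²(V, G_m)` is killed by a positive integer. -/
theorem exists_nsmul : ∃ d : ℕ, 0 < d ∧ ∀ ξ : EtCoh.H Y (EtCoh.Gm Y) 2,
    EtLim.HGmPull φ 2 ξ = 0 → d • ξ = 0 := by
  obtain ⟨L, i1, i2, i3, s, hs⟩ := exists_point_over_generic φ hφ
  refine ⟨Module.finrank Y.functionField L, Module.finrank_pos, fun ξ hξ => ?_⟩
  apply K280.BrInj.eq_zero_of_generic f
  have h1 := K280.GmPullComp.HGmPull_comp
    (Spec.map (CommRingCat.ofHom (algebraMap Y.functionField L)))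
    (Y.fromSpecStalk (genericPoint Y)) (s ≫ φ) hs.symm 2 ξ
  have h2 := K280.GmPullComp.HGmPull_comp s φ (s ≫ φ) rfl 2 ξ
  rw [hξ, map_zero] at h2
  rw [← h2] at h1
  rw [map_nsmul]
  exact K280.BrInj.nsmul_eq_zero_of_finite Y.functionField L _ rfl _ h1

include f hφ in
/-- The kernel of `H²(Y, G_m) ⟶ H²(V, G_m)` is finite. -/
theorem finite_ker [IsSepClosed k] [CharZero k] [IsProper f] :
    Set.Finite {ξ : EtCoh.H Y (EtCoh.Gm Y) 2 | EtLim.HGmPull φ 2 ξ = 0} := by
  obtain ⟨d, hd, h⟩ := exists_nsmul f φ hφ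
  exact (K280.KumFin.finite_torsion f d (Nat.cast_ne_zero.2 hd.ne') 2).subset
    fun ξ hξ => h ξ hξ

end

end K280.KerFin
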