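import Groth.Agent.Dix.K280.BrPure
import Groth.Agent.Dix.K280.KerFin
import Groth.Agent.Dix.K280.CurveDesc
import Groth.Agent.AlgSp.K618.Dim
import Groth.Agent.S4440

/-!
# Finiteness of invariant classes passes to dominated schemes
-/

set_option autoImplicit false
universe u
open CategoryTheory CategoryTheory.Limits AlgebraicGeometry
open K280.BrEquiv K280.CurveDesc K280.ProdInd

namespace K280.BrRel

variable [∀ ⦃Y Z : Scheme.{u}⦄ (g : Y ⟶ Z), PreservesFiniteLimits (EtCoh.pull g)]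

section Surj

variable {k : Type u} (Ω : Type u) [Field k] [Field Ω] [Algebra k Ω] {X X₁ : Scheme.{u}}
  (f : X ⟶ Spec (CommRingCat.of k)) (f₁ : X₁ ⟶ Spec (CommRingCat.of k)) (g : X₁ ⟶ X)
  (h : g ≫ f = f₁ ≫ Spec.map (CommRingCat.ofHom (algebraMap k k)))

theorem finite_of_bijective (hb : Function.Bijective (EtLim.HGmPull (bcMap Ω f f₁ g h) 2))
    (hfin : Finite (Dix.brInv Ω f)) : Finite (Dix.brInv Ω f₁) := by
  refine Finite.of_surjective (pullInv Ω f f₁ g h) ?_
  rintro ⟨η, hη⟩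
  obtain ⟨ξ, hξ⟩ := hb.2 η
  have hξ' : ξ ∈ Dix.brInv Ω f := by
    rw [Dix.mem_brInv_iff] at hη ⊢
    intro σ
    apply hb.1
    have h1 := K280.GmPullComp.HGmPull_comp (bcMap Ω f f₁ g h) (SGA7.twistAut Ω f σ) _ rfl 2 ξ
    have h2 := K280.GmPullComp.HGmPull_comp (SGA7.twistAut Ω f₁ σ) (bcMap Ω f f₁ g h) _
      (twist_bcMap Ω f f₁ g h σ) 2 ξ
    refine h1.trans ?_
    refine Eq.trans ?_ (h2.symm.trans ?_)
    · rfl
    · rw [hξ]
      exact hη σ
  exact ⟨⟨ξ, hξ'⟩, Subtype.ext hξ⟩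

end Surj

omit [∀ ⦃Y Z : Scheme.{u}⦄ (g : Y ⟶ Z), PreservesFiniteLimits (EtCoh.pull g)] in
theorem two_le {a : WithBot ℕ∞} (h : ¬ a ≤ 1) : 2 ≤ a := by
  induction a with
  | bot => exact (h bot_le).elim
  | coe a =>
    have h1 : ¬ a ≤ 1 := fun h2 => h (WithBot.coe_le_coe.2 h2)
    have h3 : (2 : ℕ∞) ≤ a := by
      rw [← one_add_one_eq_two]
      exact Order.add_one_le_of_lt (not_le.1 h1)
    exact WithBot.coe_le_coe.2 h3

section Purity

variable {k : Type u} (Ω : Type u) [Field k] [Field Ω] [Algebra k Ω] [CharZero Ω] {D : Scheme.{u}}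
  (d : D ⟶ Spec (CommRingCat.of k)) [Smooth d] (U : D.Opens)

theorem bijective_bc [IsIntegral (SGA7.bcField Ω d)] (hne : (U : Set D).Nonempty)
    (hU : ∀ y : D, ringKrullDim (D.presheaf.stalk y) ≤ 1 → y ∈ U) :
    Function.Bijective (EtLim.HGmPull (bcMap Ω d (U.ι ≫ d) U.ι (comp_self rfl)) 2) := by
  have hp := isPullback_bcMap Ω d (U.ι ≫ d) U.ι (comp_self rfl)
  let b := bcMap Ω d (U.ι ≫ d) U.ι (comp_self rfl)
  let q := pullback.fst d (Spec.map (CommRingCat.ofHom (algebraMap k Ω)))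
  let R : (SGA7.bcField Ω d).Opens := b.opensRange
  have hR : ∀ x : SGA7.bcField Ω d, q x ∈ U → x ∈ R := by
    intro x hx
    obtain ⟨p, hp1, -⟩ := Scheme.exists_preimage_of_isPullback hp x ⟨q x, hx⟩ rfl
    exact ⟨p, hp1⟩
  have hsurj : Function.Surjective q := q.surjective
  have hRne : Nonempty R := by
    obtain ⟨y, hy⟩ := hne
    obtain ⟨x, rfl⟩ := hsurj y
    exact ⟨⟨x, hR x hy⟩⟩
  have hRint : IsIntegral (R : Scheme.{u}) := inferInstance
  have h1 : Function.Bijective (EtLim.HGmPull R.ι 2) :=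
    BrPure.bijective_HGmPull (pullback.snd d (Spec.map (CommRingCat.ofHom (algebraMap k Ω)))) R
      fun x hx => by
        have h2 : ¬ ringKrullDim (D.presheaf.stalk (q x)) ≤ 1 := fun h => hx (hR x (hU _ h))
        exact (two_le h2).trans (K618.Dim.stalkDim_le_of_flat q x)
  have h2 : b.isoOpensRange.hom ≫ R.ι = b := b.isoOpensRange_hom_ι
  have h3 : ∀ ξ, EtLim.HGmPull b 2 ξ = EtLim.HGmPull b.isoOpensRange.hom 2 (EtLim.HGmPull R.ι 2 ξ) :=
    fun ξ => (K280.GmPullComp.HGmPull_comp b.isoOpensRange.hom R.ι b h2 2 ξ).symm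
  have h4 : ⇑(EtLim.HGmPull b 2) = (EtLim.HGmPull b.isoOpensRange.hom 2) ∘ (EtLim.HGmPull R.ι 2) :=
    funext h3
  change Function.Bijective (EtLim.HGmPull b 2)
  rw [h4]
  exact (HGmPull_bijective_of_isIso b.isoOpensRange.hom 2).comp h1

end Purity

section Main

variable {k k₂ : Type u} (Ω : Type u) [Field k] [Field k₂] [Field Ω] [Algebra k k₂] [Algebra k₂ Ω]
  [Algebra k Ω] [IsScalarTower k k₂ Ω] [CharZero Ω] [IsAlgClosed Ω]

/-- Let `D` be a good product over `k₂`, `Y ⊆ D` open and `ψ : Y ⟶ X` a morphism over `k` which is dominant over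
`Ω`. Then the invariant classes of `X` are finite in number. -/
theorem finite_of_dominated {X : Scheme.{u}} (f : X ⟶ Spec (CommRingCat.of k)) [Smooth f]
    [GeometricallyIntegral f] [IsProper f] (D : Over (Spec (CommRingCat.of k₂))) (hD : GoodProd Ω D)
    {Y : Scheme.{u}} (u : Y ⟶ D.left) [IsOpenImmersion u] (ψ : Y ⟶ X)
    (hψ : ψ ≫ f = (u ≫ D.hom) ≫ Spec.map (CommRingCat.ofHom (algebraMap k k₂)))
    {T : Scheme.{u}} [hT : Nonempty T] (t : T ⟶ Y) (a : T ⟶ SGA7.bcField Ω f)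
    (ht : t ≫ u ≫ D.hom = (a ≫ pullback.snd _ _) ≫ Spec.map (CommRingCat.ofHom (algebraMap k₂ Ω)))
    (ha : a ≫ pullback.fst _ _ = t ≫ ψ) (hdense : DenseRange a) : Finite (Dix.brInv Ω f) := by
  have i1 := hD.smooth
  have i2 := hD.gi
  have i3 := isProper_of_proj hD.proj
  have i4 : IsIntegral D.left := GeometricallyIntegral.isIntegral_of_subsingleton D.hom
  have i5 : IsLocallyNoetherian D.left := LocallyOfFiniteType.isLocallyNoetherian D.hom
  have i6 : Nonempty Y := hT.map t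
  let V : D.left.Opens := u.opensRange
  have hVne : (V : Set D.left).Nonempty := Set.range_nonempty _
  have hV : Dense (V : Set D.left) := V.isOpen.dense hVne
  have hinv : u.isoOpensRange.inv ≫ u = V.ι := by
    rw [Iso.inv_comp_eq]
    exact u.isoOpensRange_hom_ι.symm
  obtain ⟨U, hVU, g', hg', hg'2, hU⟩ := Groth.Agent.S4440.result f
    (D.hom ≫ Spec.map (CommRingCat.ofHom (algebraMap k k₂)))
    (fun y _ => Groth.Agent.Sga5.SmoothField.isRegularLocalRing_stalk D.hom y) V hV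
    (u.isoOpensRange.inv ≫ ψ) (by rw [Category.assoc, hψ, ← hinv]; simp only [Category.assoc])
  have h : g' ≫ f = (U.ι ≫ D.hom) ≫ Spec.map (CommRingCat.ofHom (algebraMap k k₂)) := by
    rw [hg', Category.assoc]
  have i7 : IsIntegral (SGA7.bcField Ω D.hom) := inferInstance
  have hb := bijective_bc Ω D.hom U (hVne.mono hVU) hU
  have hfinU : Finite (Dix.brInv Ω (U.ι ≫ D.hom)) :=
    finite_of_bijective Ω D.hom (U.ι ≫ D.hom) U.ι (comp_self rfl) hb hD.fin
  let φ := bcMap Ω f (U.ι ≫ D.hom) g' h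
  let r : Y ⟶ (U : Scheme.{u}) := u.isoOpensRange.hom ≫ D.left.homOfLE hVU
  have hr : r ≫ U.ι = u := by
    rw [Category.assoc, Scheme.homOfLE_ι]
    exact u.isoOpensRange_hom_ι
  have hr2 : r ≫ g' = ψ := by
    rw [Category.assoc, hg'2, Iso.hom_inv_id_assoc]
  let l : T ⟶ SGA7.bcField Ω (U.ι ≫ D.hom) := pullback.lift (t ≫ r) (a ≫ pullback.snd _ _)
    (by rw [← ht, ← hr]; simp only [Category.assoc])
  have hl : l ≫ φ = a := by
    apply pullback.hom_ext
    · rw [Category.assoc, bcMap_fst, ← Category.assoc, pullback.lift_fst, Category.assoc, hr2, ha]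
    · rw [Category.assoc, bcMap_snd, pullback.lift_snd]
  have hφ : DenseRange φ := by
    refine hdense.mono ?_
    rw [← hl]
    rintro _ ⟨x, rfl⟩
    exact ⟨l x, (Scheme.Hom.comp_apply _ _ _).symm⟩
  have i8 : Nonempty (SGA7.bcField Ω (U.ι ≫ D.hom)) := hT.map l
  have i9 : IsIntegral (SGA7.bcField Ω (U.ι ≫ D.hom)) :=
    isIntegral_of_isOpenImmersion (bcMap Ω D.hom (U.ι ≫ D.hom) U.ι (comp_self rfl))
  have i10 : IsIntegral (SGA7.bcField Ω f) := inferInstance
  have i11 : IsNoetherian (SGA7.bcField Ω f) := by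
    have : IsLocallyNoetherian (SGA7.bcField Ω f) := LocallyOfFiniteType.isLocallyNoetherian
      (pullback.snd f (Spec.map (CommRingCat.ofHom (algebraMap k Ω))))
    have : CompactSpace (SGA7.bcField Ω f) := QuasiCompact.compactSpace_of_compactSpace
      (pullback.snd f (Spec.map (CommRingCat.ofHom (algebraMap k Ω))))
    exact {}
  have i12 : LocallyOfFiniteType φ := by
    have h1 : LocallyOfFiniteType (φ ≫ pullback.snd f (Spec.map (CommRingCat.ofHom (algebraMap k Ω)))) := by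
      rw [bcMap_snd]
      infer_instance
    exact locallyOfFiniteType_of_comp φ (pullback.snd f (Spec.map (CommRingCat.ofHom (algebraMap k Ω))))
  have hker := KerFin.finite_ker (pullback.snd f (Spec.map (CommRingCat.ofHom (algebraMap k Ω)))) φ hφ
  refine (pullInv Ω f (U.ι ≫ D.hom) g' h).finite_iff_finite_ker_range.2 ⟨?_, inferInstance⟩
  have := hker.to_subtype
  refine Finite.of_injective
    (fun x : (pullInv Ω f (U.ι ≫ D.hom) g' h).ker =>
      (⟨x.1.1, congrArg Subtype.val x.2⟩ :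
        {ξ : EtCoh.H (SGA7.bcField Ω f) (EtCoh.Gm (SGA7.bcField Ω f)) 2 | EtLim.HGmPull φ 2 ξ = 0})) ?_
  intro x y hxy
  exact Subtype.ext (Subtype.ext (congrArg (fun z => z.1) hxy))

end Main

end K280.BrRel
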