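import Groth.Agent.Dix.K280.EtaleSub
import Groth.Agent.S0190
import Mathlib.RingTheory.SimpleModule.IsAlgClosed
import Mathlib.LinearAlgebra.Eigenspace.Minpoly
import Mathlib.LinearAlgebra.Lagrange
import Mathlib.LinearAlgebra.Matrix.ToLin

/-!
# The centralizer of a separable element of maximal degree in a central simple algebra
-/

set_option autoImplicit false
universe u v w
open scoped TensorProduct
open Polynomial

namespace K280.CentMono

open K280.EtaleSub

theorem linearIndependent_one_tmul_pow {k : Type u} [Field k] {A : Type v} [Ring A] [Algebra k A]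
    (K : Type w) [Field K] [Algebra k K] (x : A) :
    LinearIndependent K fun i : Fin (minpoly k x).natDegree => ((1 : K) ⊗ₜ[k] x) ^ (i : ℕ) := by
  have h5 := Module.Flat.linearIndependent_one_tmul (S := K) (linearIndependent_pow (K := k) x)
  have h6 : (fun i : Fin (minpoly k x).natDegree => ((1 : K) ⊗ₜ[k] x) ^ (i : ℕ)) =
      fun i : Fin (minpoly k x).natDegree => (1 : K) ⊗ₜ[k] (x ^ (i : ℕ)) := by
    ext i
    rw [Algebra.TensorProduct.tmul_pow, one_pow]
  rw [h6]
  exact h5

theorem minpoly_one_tmul {k : Type u} [Field k] {A : Type v} [Ring A] [Algebra k A]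
    (K : Type w) [Field K] [Algebra k K] {x : A} (hx : IsIntegral k x) :
    minpoly K ((1 : K) ⊗ₜ[k] x) = (minpoly k x).map (algebraMap k K) := by
  symm
  refine minpoly.unique' _ _ ((minpoly.monic hx).map _) ?_ fun q hq => ?_
  · rw [aeval_map_algebraMap]
    have : ((1 : K) ⊗ₜ[k] x) = Algebra.TensorProduct.includeRight (R := k) (A := K) (B := A) x := rfl
    rw [this, aeval_algHom_apply, minpoly.aeval, map_zero]
  · by_contra hcon
    push Not at hcon
    obtain ⟨hq0, h3⟩ := hcon
    have hdeg : q.natDegree < (minpoly k x).natDegree := by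
      have h4 := Polynomial.natDegree_lt_natDegree hq0 hq
      rwa [natDegree_map] at h4
    rw [aeval_eq_sum_range' hdeg, ← Fin.sum_univ_eq_sum_range
      (fun i => q.coeff i • ((1 : K) ⊗ₜ[k] x) ^ i)] at h3
    have h7 := Fintype.linearIndependent_iff.1 (linearIndependent_one_tmul_pow K x)
      (fun i => q.coeff i) h3
    apply hq0
    ext i
    rw [coeff_zero]
    by_cases hi : i < (minpoly k x).natDegree
    · exact h7 ⟨i, hi⟩
    · exact coeff_eq_zero_of_natDegree_lt (by omega)

/-- An endomorphism commuting with an endomorphism with distinct eigenvalues is a polynomial in it. -/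
theorem exists_aeval_of_commute (K : Type u) [Field K] [IsAlgClosed K] (V : Type v) [AddCommGroup V]
    [Module K V] [FiniteDimensional K V] (X Y : Module.End K V) (hc : Y * X = X * Y)
    (hsep : (minpoly K X).Separable) (hdeg : (minpoly K X).natDegree = Module.finrank K V) :
    ∃ p : K[X], Y = aeval X p := by
  classical
  set S : Finset K := (minpoly K X).roots.toFinset with hS
  have hcard : S.card = Module.finrank K V := by
    rw [hS, Multiset.toFinset_card_of_nodup (nodup_roots hsep), ← hdeg]
    exact (IsAlgClosed.splits (minpoly K X)).natDegree_eq_card_roots.symm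
  have hev : ∀ μ : S, X.HasEigenvalue μ.1 := by
    intro μ
    rw [Module.End.hasEigenvalue_iff_isRoot]
    exact isRoot_of_mem_roots (Multiset.mem_toFinset.1 μ.2)
  choose v hv using fun μ => (hev μ).exists_hasEigenvector
  have hli : LinearIndependent K v :=
    Module.End.eigenvectors_linearIndependent' X (fun μ : S => μ.1) Subtype.coe_injective v hv
  let b : Module.Basis S K V := basisOfLinearIndependentOfCardEqFinrank' v hli (by
    rw [Fintype.card_coe, hcard])
  have hb : ∀ μ, b μ = v μ := fun μ => by simp [b]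
  -- `Y (v μ)` is a multiple of `v μ`
  have hY : ∀ μ, Y (v μ) = b.repr (Y (v μ)) μ • v μ := by
    intro μ
    have h1 : X (Y (v μ)) = μ.1 • Y (v μ) := by
      have h2 : (X * Y) (v μ) = (Y * X) (v μ) := by rw [hc]
      rw [Module.End.mul_apply, Module.End.mul_apply, (hv μ).apply_eq_smul, map_smul] at h2
      exact h2
    have h3' : ∀ (z : V) (ν : S), b.repr (X z) ν = ν.1 * b.repr z ν := by
      intro z ν
      conv_lhs => rw [← b.sum_repr z]
      rw [map_sum, map_sum, Finsupp.finsetSum_apply]
      rw [Finset.sum_eq_single ν]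
      · rw [map_smul, hb ν, (hv ν).apply_eq_smul, ← hb ν, map_smul, map_smul, b.repr_self,
          Finsupp.smul_apply, Finsupp.smul_apply, Finsupp.single_eq_same]
        simp [mul_comm]
      · intro ρ _ hρ
        rw [map_smul, hb ρ, (hv ρ).apply_eq_smul, ← hb ρ, map_smul, map_smul, b.repr_self,
          Finsupp.smul_apply, Finsupp.smul_apply, Finsupp.single_eq_of_ne hρ.symm]
        simp
      · intro h; exact absurd (Finset.mem_univ _) h
    have h3 := h3' (Y (v μ))
    conv_lhs => rw [← b.sum_repr (Y (v μ))]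
    rw [Finset.sum_eq_single μ]
    · rw [hb]
    · intro ν _ hν
      have h4 := h3 ν
      rw [h1, map_smul, Finsupp.smul_apply, smul_eq_mul] at h4
      have h5 : (ν.1 - μ.1) * b.repr (Y (v μ)) ν = 0 := by
        rw [sub_mul, ← h4, sub_self]
      rcases mul_eq_zero.1 h5 with h6 | h6
      · exact absurd (Subtype.ext (sub_eq_zero.1 h6)) hν
      · rw [h6, zero_smul]
    · intro h; exact absurd (Finset.mem_univ _) h
  refine ⟨Lagrange.interpolate Finset.univ (fun μ : S => μ.1) (fun μ => b.repr (Y (v μ)) μ), ?_⟩
  apply b.ext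
  intro μ
  rw [hb, hY μ, Module.End.aeval_apply_of_hasEigenvector (hv μ),
    Lagrange.eval_interpolate_at_node _ (Subtype.coe_injective.injOn) (Finset.mem_univ μ)]

/-- In a central simple algebra of dimension `r²`, the centralizer of a separable element of degree `r` is
spanned by its powers. -/
theorem mem_span_of_commute (k : Type u) [Field k] (A : Type v) [Ring A] [Algebra k A]
    [Algebra.IsCentral k A] [IsSimpleRing A] [FiniteDimensional k A] (r : ℕ)
    (hA : Module.finrank k A = r ^ 2) (x : A) (hx : IsSeparable k x)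
    (hd : (minpoly k x).natDegree = r) (y : A) (hy : y * x = x * y) :
    y ∈ Submodule.span k (Set.range fun i : Fin r => x ^ (i : ℕ)) := by
  let K := AlgebraicClosure k
  have hs : IsSimpleRing (K ⊗[k] A) := Groth.Agent.S0190.result k K A
  obtain ⟨n, hn, ⟨e⟩⟩ := IsSimpleRing.exists_algEquiv_matrix_of_isAlgClosed K (K ⊗[k] A)
  have hnr : n = r := by
    have h1 : n ^ 2 = r ^ 2 := by
      rw [← hA, ← Module.finrank_baseChange (R := K), e.toLinearEquiv.finrank_eq,
        Module.finrank_matrix]
      simp; ring
    exact Nat.pow_left_injective (by norm_num : 2 ≠ 0) h1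
  let E : (K ⊗[k] A) ≃ₐ[K] Module.End K (Fin n → K) :=
    e.trans (Matrix.toLinAlgEquiv (Pi.basisFun K (Fin n)))
  have hxi : IsIntegral k x := hx.isIntegral
  have hmin : minpoly K (E (1 ⊗ₜ x)) = (minpoly k x).map (algebraMap k K) := by
    rw [minpoly.algEquiv_eq E, minpoly_one_tmul K hxi]
  obtain ⟨p, hp⟩ := exists_aeval_of_commute K (Fin n → K) (E (1 ⊗ₜ x)) (E (1 ⊗ₜ y)) (by
      rw [← map_mul, ← map_mul, Algebra.TensorProduct.tmul_mul_tmul,
        Algebra.TensorProduct.tmul_mul_tmul, hy]) (by
      rw [hmin]; exact Separable.map hx) (by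
      rw [hmin, natDegree_map, hd, Module.finrank_fin_fun, hnr])
  have hp' : (1 : K) ⊗ₜ[k] y = aeval ((1 : K) ⊗ₜ[k] x) p := by
    apply E.injective
    rw [hp, ← AlgEquiv.coe_toAlgHom, aeval_algHom_apply]
  by_contra hcon
  have hli : LinearIndependent k (fun o : Option (Fin r) => o.elim y (fun i => x ^ (i : ℕ))) := by
    rw [linearIndependent_option]
    refine ⟨?_, hcon⟩
    have := linearIndependent_pow (K := k) x
    rw [hd] at this
    exact this
  have hli' := Module.Flat.linearIndependent_one_tmul (S := K) hli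
  -- reduce `p` modulo the minimal polynomial
  set q := p %ₘ ((minpoly k x).map (algebraMap k K)) with hq
  have hmon : ((minpoly k x).map (algebraMap k K)).Monic := (minpoly.monic hxi).map _
  have hq1 : aeval ((1 : K) ⊗ₜ[k] x) p = aeval ((1 : K) ⊗ₜ[k] x) q := by
    conv_lhs => rw [← modByMonic_add_div p ((minpoly k x).map (algebraMap k K))]
    rw [map_add, map_mul, ← minpoly_one_tmul K hxi, minpoly.aeval, zero_mul, add_zero,
      minpoly_one_tmul K hxi]
  have hqd : q.natDegree < r ∨ q = 0 := by
    by_cases h0 : q = 0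
    · right; exact h0
    · left
      have h1 := degree_modByMonic_lt p hmon
      rw [← hq] at h1
      have h2 := natDegree_lt_natDegree h0 h1
      rwa [natDegree_map, hd] at h2
  have hq2 : aeval ((1 : K) ⊗ₜ[k] x) q = ∑ i : Fin r, q.coeff i • ((1 : K) ⊗ₜ[k] (x ^ (i : ℕ))) := by
    rcases hqd with h | h
    · rw [aeval_eq_sum_range' h, ← Fin.sum_univ_eq_sum_range
        (fun i => q.coeff i • ((1 : K) ⊗ₜ[k] x) ^ i)]
      refine Finset.sum_congr rfl fun i _ => ?_
      rw [Algebra.TensorProduct.tmul_pow, one_pow]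
    · rw [h]; simp
  have h3 : ∑ o : Option (Fin r), (o.elim (1 : K) fun i => - q.coeff i) •
      ((1 : K) ⊗ₜ[k] (o.elim y (fun i => x ^ (i : ℕ)) : A)) = 0 := by
    rw [Fintype.sum_option]
    simp only [Option.elim_none, Option.elim_some, one_smul, neg_smul, Finset.sum_neg_distrib]
    rw [hp', hq1, hq2, add_neg_cancel]
  have h4 := Fintype.linearIndependent_iff.1 hli' _ h3 none
  simp at h4

end K280.CentMono
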