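import Groth.Agent.Dix.K280.EtaleSub
import Groth.Agent.S0196
import Groth.Agent.S0198
import Groth.Agent.CurvesA.SepSplit2
import Mathlib.FieldTheory.Finite.Extension
import Mathlib.FieldTheory.PrimitiveElement
import Mathlib.RingTheory.LittleWedderburn
import Mathlib.RingTheory.SimpleModule.WedderburnArtin

/-!
# Generators of maximal étale subalgebras of central simple algebras
-/

set_option autoImplicit false
universe u v w
open scoped TensorProduct
open Polynomial

namespace K280.CsaGen

open K280.EtaleSub

/-- A finite central division algebra of dimension `d²` contains a separable element of degree `d`. -/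
theorem exists_gen_div (k : Type u) [Field k] (D : Type v) [DivisionRing D] [Algebra k D]
    [Algebra.IsCentral k D] [FiniteDimensional k D] :
    ∃ θ : D, IsSeparable k θ ∧ (minpoly k θ).natDegree ^ 2 = Module.finrank k D := by
  obtain ⟨L, hcomm, hmax, hsep⟩ := Groth.Agent.S0198.result k D
  have hdim := Groth.Agent.S0196.result k D L hcomm hmax
  let _ : CommRing L := { (inferInstance : Ring L) with
    mul_comm := fun a b => Subtype.ext (hcomm a.1 a.2 b.1 b.2) }
  have : IsDomain L := inferInstance
  let _ : Field L := fieldOfFiniteDimensional k L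
  obtain ⟨α, hα⟩ := Field.exists_primitive_element k L
  rw [Field.primitive_element_iff_minpoly_natDegree_eq] at hα
  have h1 : minpoly k (α : D) = minpoly k α :=
    minpoly.algHom_eq L.val Subtype.val_injective α
  refine ⟨(α : D), ?_, ?_⟩
  · exact (isSeparable_map_iff L.val Subtype.val_injective).2 (hsep.isSeparable k α)
  · rw [h1, hα, hdim]

theorem exists_shifts_aux {k : Type u} [AddCommGroup k] [Infinite k] (F : Finset k) (n : ℕ) :
    ∃ c : Fin n → k, ∀ i j, i ≠ j → c i - c j ∉ F := by
  classical
  induction n with
  | zero => exact ⟨fun i => i.elim0, fun i => i.elim0⟩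
  | succ n ih =>
    obtain ⟨c, hc⟩ := ih
    obtain ⟨a, ha⟩ := Infinite.exists_notMem_finset
      ((Finset.univ.biUnion fun i : Fin n => F.image fun x => c i + x) ∪
        (Finset.univ.biUnion fun i : Fin n => F.image fun x => c i - x))
    simp only [Finset.mem_union, Finset.mem_biUnion, Finset.mem_univ, Finset.mem_image, true_and,
      not_or, not_exists, not_and] at ha
    refine ⟨Fin.cons a c, fun i j hij => ?_⟩
    refine Fin.cases ?_ (fun i => ?_) i (motive := fun i => i ≠ j → (Fin.cons a c : Fin (n + 1) → k) i -
      (Fin.cons a c : Fin (n + 1) → k) j ∉ F) hij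
    · refine Fin.cases ?_ (fun j => ?_) j (motive := fun j => 0 ≠ j → (Fin.cons a c : Fin (n + 1) → k) 0 -
        (Fin.cons a c : Fin (n + 1) → k) j ∉ F)
      · intro h; exact absurd rfl h
      · intro _ h
        simp only [Fin.cons_zero, Fin.cons_succ] at h
        exact ha.1 j _ h (by abel)
    · refine Fin.cases ?_ (fun j => ?_) j (motive := fun j => i.succ ≠ j →
        (Fin.cons a c : Fin (n + 1) → k) i.succ - (Fin.cons a c : Fin (n + 1) → k) j ∉ F)
      · intro _ h
        simp only [Fin.cons_zero, Fin.cons_succ] at h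
        exact ha.2 i _ h (by abel)
      · intro h
        simp only [Fin.cons_succ]
        exact hc i j (fun e => h (by rw [e]))

theorem exists_shifts (k : Type u) [Field k] [Infinite k] (f : k[X]) (hf : f ≠ 0) (n : ℕ) :
    ∃ c : Fin n → k, ∀ i j, i ≠ j → IsCoprime (f.comp (X - C (c i))) (f.comp (X - C (c j))) := by
  classical
  let K := AlgebraicClosure k
  let S : Finset K := (f.map (algebraMap k K)).roots.toFinset
  let T : Finset K := (S ×ˢ S).image fun p => p.1 - p.2
  have hinj : Function.Injective (algebraMap k K) := (algebraMap k K).injective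
  obtain ⟨c, hc⟩ := exists_shifts_aux (k := k) (T.preimage (algebraMap k K) hinj.injOn) n
  refine ⟨c, fun i j hij => ?_⟩
  rw [Polynomial.isCoprime_iff_aeval_ne_zero_of_isAlgClosed k K]
  intro a
  by_contra hcon
  push Not at hcon
  apply hc i j hij
  rw [Finset.mem_preimage, Finset.mem_image]
  have hF : f.map (algebraMap k K) ≠ 0 := Polynomial.map_ne_zero hf
  have hmem : ∀ i, aeval a (f.comp (X - C (c i))) = 0 → a - algebraMap k K (c i) ∈ S := by
    intro i hi
    rw [Multiset.mem_toFinset, mem_roots hF, IsRoot.def, eval_map_algebraMap]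
    rw [aeval_comp] at hi
    simpa using hi
  refine ⟨(a - algebraMap k K (c j), a - algebraMap k K (c i)),
    Finset.mem_product.2 ⟨hmem j hcon.2, hmem i hcon.1⟩, ?_⟩
  rw [map_sub]
  ring

theorem aeval_diagonal {k : Type u} [Field k] {D : Type v} [Ring D] [Algebra k D] (n : ℕ)
    (v : Fin n → D) (p : k[X]) :
    aeval (Matrix.diagonal v) p = Matrix.diagonal fun i => aeval (v i) p := by
  have h : ∀ i, aeval v p i = aeval (v i) p := fun i =>
    (aeval_algHom_apply (Pi.evalAlgHom k (fun _ : Fin n => D) i) v p).symm
  rw [← Matrix.diagonalAlgHom_apply k v, aeval_algHom_apply, Matrix.diagonalAlgHom_apply]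
  congr 1
  ext i
  exact h i

theorem minpoly_add (k : Type u) [Field k] {D : Type v} [Ring D] [Algebra k D] (θ : D) (a : k) :
    minpoly k (θ + algebraMap k D a) = (minpoly k θ).comp (X - C a) := by
  have h0 : rootHom (k := k) θ (AdjoinRoot.root _) = θ := by
    have := rootHom_mk (k := k) θ X
    rw [aeval_X] at this
    exact this
  have h1 := minpoly.algHom_eq (rootHom (k := k) θ) (rootHom_injective θ) (AdjoinRoot.root _)
  have h2 := minpoly.algHom_eq (rootHom (k := k) θ) (rootHom_injective θ)
    (AdjoinRoot.root _ + algebraMap k _ a)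
  rw [map_add, AlgHom.commutes, h0] at h2
  rw [h0] at h1
  rw [h2, minpoly.add_algebraMap, ← h1]

theorem exists_gen_matrix_infinite (k : Type u) [Field k] [Infinite k] (D : Type v) [DivisionRing D]
    [Algebra k D] [FiniteDimensional k D] (θ : D) (hθ : IsSeparable k θ) (n : ℕ) :
    ∃ x : Matrix (Fin n) (Fin n) D, IsSeparable k x ∧
      (minpoly k x).natDegree = n * (minpoly k θ).natDegree := by
  classical
  set f := minpoly k θ with hf
  have hint : IsIntegral k θ := hθ.isIntegral
  have hf0 : f ≠ 0 := minpoly.ne_zero hint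
  obtain ⟨c, hc⟩ := exists_shifts k f hf0 n
  set g : Fin n → k[X] := fun i => f.comp (X - C (c i)) with hg
  set P : k[X] := ∏ i, g i with hP
  have hgm : ∀ i, minpoly k (θ + algebraMap k D (c i)) = g i := fun i =>
    minpoly_add k θ (c i)
  have hgsep : ∀ i, (g i).Separable := by
    intro i
    have h1 : IsSeparable k θ := hθ
    obtain ⟨a, b, hab⟩ := h1
    refine ⟨a.comp (X - C (c i)), b.comp (X - C (c i)), ?_⟩
    have h2 : derivative (g i) = (derivative f).comp (X - C (c i)) := by
      rw [hg]
      simp [derivative_comp]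
    rw [h2, hg]
    simp only
    rw [← mul_comp, ← mul_comp, ← add_comp, hab]
    simp
  have hPsep : P.Separable := separable_prod (fun i j hij => hc i j hij) hgsep
  let x : Matrix (Fin n) (Fin n) D := Matrix.diagonal fun i => θ + algebraMap k D (c i)
  have hxP : aeval x P = 0 := by
    rw [aeval_diagonal]
    have : (fun i => aeval (θ + algebraMap k D (c i)) P) = 0 := by
      ext i
      have hd : g i ∣ P := Finset.dvd_prod_of_mem g (Finset.mem_univ i)
      obtain ⟨q, hq⟩ := hd
      rw [hq, map_mul, ← hgm i, minpoly.aeval, zero_mul]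
      rfl
    rw [this]
    exact Matrix.diagonal_zero
  have hd1 : minpoly k x ∣ P := minpoly.dvd k x hxP
  have hd2 : P ∣ minpoly k x := by
    refine Finset.prod_dvd_of_coprime (fun i _ j _ hij => hc i j hij) fun i _ => ?_
    rw [← hgm i]
    refine minpoly.dvd k _ ?_
    have h1 := minpoly.aeval k x
    rw [aeval_diagonal] at h1
    have h2 := congrFun (congrFun h1 i) i
    simpa using h2
  have hxi : IsIntegral k x := Algebra.IsIntegral.isIntegral x
  have hmonic : P.Monic := monic_prod_of_monic _ _ fun i _ => by
    rw [← hgm i]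
    exact minpoly.monic (Algebra.IsIntegral.isIntegral _)
  have heq : minpoly k x = P := eq_of_monic_of_associated (minpoly.monic hxi) hmonic
    (associated_of_dvd_dvd hd1 hd2)
  refine ⟨x, ?_, ?_⟩
  · rw [IsSeparable, heq]
    exact hPsep
  · rw [heq, hP, natDegree_prod_of_monic _ _ fun i _ => by
      rw [← hgm i]
      exact minpoly.monic (Algebra.IsIntegral.isIntegral _)]
    have h3 : ∀ i ∈ Finset.univ, (g i).natDegree = f.natDegree := by
      intro i _
      rw [hg]
      simp only
      rw [natDegree_comp, natDegree_X_sub_C, mul_one]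
    rw [Finset.sum_congr rfl h3]
    simp

theorem exists_gen_matrix_finite (k : Type u) [Field k] [Finite k] (n : ℕ) [NeZero n] :
    ∃ x : Matrix (Fin n) (Fin n) k, IsSeparable k x ∧ (minpoly k x).natDegree = n := by
  classical
  obtain ⟨p, hp⟩ := CharP.exists k
  have hpp : Fact p.Prime := ⟨CharP.char_is_prime k p⟩
  let E := FiniteField.Extension k p n
  have hfin : Module.finrank k E = n := FiniteField.finrank_extension k p n
  obtain ⟨α, hα⟩ := Field.exists_primitive_element k E
  rw [Field.primitive_element_iff_minpoly_natDegree_eq, hfin] at hα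
  let b : Module.Basis (Fin n) k E := Module.finBasisOfFinrankEq k E hfin
  let φ : E →ₐ[k] Matrix (Fin n) (Fin n) k := Algebra.leftMulMatrix b
  have hφ : Function.Injective φ := Algebra.leftMulMatrix_injective b
  refine ⟨φ α, ?_, ?_⟩
  · exact (isSeparable_map_iff φ hφ).2 (Algebra.IsSeparable.isSeparable k α)
  · rw [minpoly.algHom_eq φ hφ]
    exact hα

theorem isCentral_of_matrix (k : Type u) [Field k] (D : Type v) [Ring D] [Algebra k D] (n : ℕ)
    [NeZero n] [h : Algebra.IsCentral k (Matrix (Fin n) (Fin n) D)] : Algebra.IsCentral k D := by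
  classical
  refine ⟨fun x hx => ?_⟩
  rw [Subalgebra.mem_center_iff] at hx
  have h1 : Matrix.scalar (Fin n) x ∈ Subalgebra.center k (Matrix (Fin n) (Fin n) D) := by
    rw [Subalgebra.mem_center_iff]
    intro M
    ext i j
    simp [Matrix.scalar_apply, hx]
  have h2 := h.out h1
  rw [Algebra.mem_bot] at h2 ⊢
  obtain ⟨c, hc⟩ := h2
  refine ⟨c, ?_⟩
  have h3 := congrFun (congrFun hc 0) 0
  simpa [Matrix.algebraMap_matrix_apply, Matrix.scalar_apply] using h3

/-- A central simple algebra of dimension `r²` contains a separable element of degree `r`. -/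
theorem exists_gen (k : Type u) [Field k] (A : Type v) [Ring A] [Algebra k A] [Algebra.IsCentral k A]
    [IsSimpleRing A] [FiniteDimensional k A] (r : ℕ) (hA : Module.finrank k A = r ^ 2) :
    ∃ x : A, IsSeparable k x ∧ (minpoly k x).natDegree = r := by
  have hart : IsArtinianRing A := IsArtinianRing.of_finite k A
  obtain ⟨n, hn, D, _, _, hD, ⟨e⟩⟩ := IsSimpleRing.exists_algEquiv_matrix_divisionRing_finite k A
  have hc : Algebra.IsCentral k (Matrix (Fin n) (Fin n) D) :=
    Algebra.IsCentral.of_algEquiv k A _ e
  have hcD : Algebra.IsCentral k D := isCentral_of_matrix k D n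
  obtain ⟨θ, hθ, hθd⟩ := exists_gen_div k D
  have hdim : (n * (minpoly k θ).natDegree) ^ 2 = r ^ 2 := by
    rw [← hA, e.toLinearEquiv.finrank_eq, Module.finrank_matrix, ← hθd]
    simp
    ring
  have hr : n * (minpoly k θ).natDegree = r := Nat.pow_left_injective (by norm_num : 2 ≠ 0) hdim
  have key : ∃ x : Matrix (Fin n) (Fin n) D, IsSeparable k x ∧ (minpoly k x).natDegree = r := by
    cases finite_or_infinite k with
    | inr hinf =>
      obtain ⟨x, h1, h2⟩ := exists_gen_matrix_infinite k D θ hθ n
      exact ⟨x, h1, by rw [h2, hr]⟩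
    | inl hfin =>
      have : Finite D := Module.finite_of_finite k
      have hcomm : ∀ a b : D, a * b = b * a := by
        intro a b
        let _ : Field D := littleWedderburn D
        exact mul_comm a b
      have hbot : ∀ a : D, ∃ c : k, algebraMap k D c = a := by
        intro a
        have : a ∈ Subalgebra.center k D := by
          rw [Subalgebra.mem_center_iff]
          intro b
          exact hcomm b a
        rw [Algebra.IsCentral.center_eq_bot, Algebra.mem_bot] at this
        exact this
      have hbij : Function.Bijective (Algebra.ofId k D) :=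
        ⟨(algebraMap k D).injective, hbot⟩
      let eD : k ≃ₐ[k] D := AlgEquiv.ofBijective _ hbij
      have hθ1 : (minpoly k θ).natDegree = 1 := by
        have h1 : Module.finrank k D = 1 := by
          rw [← eD.toLinearEquiv.finrank_eq, Module.finrank_self]
        rw [h1] at hθd
        exact (pow_eq_one_iff_of_nonneg (by positivity) (by norm_num)).1 hθd
      obtain ⟨x, h1, h2⟩ := exists_gen_matrix_finite k n
      let E : Matrix (Fin n) (Fin n) k ≃ₐ[k] Matrix (Fin n) (Fin n) D := eD.mapMatrix
      refine ⟨E x, (isSeparable_map_iff E.toAlgHom E.injective).2 h1, ?_⟩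
      rw [show minpoly k (E x) = minpoly k x from minpoly.algEquiv_eq E x, h2, ← hr, hθ1, mul_one]
  obtain ⟨x, h1, h2⟩ := key
  refine ⟨e.symm x, (isSeparable_map_iff e.symm.toAlgHom e.symm.injective).2 h1, ?_⟩
  rw [show minpoly k (e.symm x) = minpoly k x from minpoly.algEquiv_eq e.symm x, h2]

end K280.CsaGen
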