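import Groth.Agent.S6563
import Groth.Agent.S1627
import Groth.Agent.Variety.K432.CurveNorm
import Groth.Agent.Ega2.SmoothBdry
import Groth.Agent.CohqB.ProjBC
import Groth.Prelude.Def_Neron

/-!
# Smooth projective models of curves over a perfect field
-/

set_option autoImplicit false
universe u
open CategoryTheory CategoryTheory.Limits AlgebraicGeometry

namespace K280.CurveModel

/-- A closed subscheme of `CohB1.ProjSpace n k` is projective in the sense of `Neron.IsProjectiveOver`. -/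
theorem isProjectiveOver_of_projSpace {k : Type u} [Field k] {X : Scheme.{u}}
    (f : X ⟶ Spec (CommRingCat.of k)) (n : ℕ) (i : X ⟶ CohB1.ProjSpace n k) [IsClosedImmersion i]
    (hi : i ≫ CohB1.ProjSpace.toSpec n k = f) : Neron.IsProjectiveOver k (Over.mk f) := by
  refine ⟨n, i ≫ (Groth.Agent.CohqB.ProjBC.projSpaceOverIso n k).inv, inferInstance, ?_⟩
  rw [Category.assoc, Groth.Agent.CohqB.ProjBC.projSpaceOverIso_inv_toBase]
  exact hi

theorem not_isAffine {k : Type u} [Field k] {X : Scheme.{u}} [IsIntegral X]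
    (f : X ⟶ Spec (CommRingCat.of k)) [IsProper f] (hdim : topologicalKrullDim X = 1) :
    ¬ IsAffine X := by
  intro h
  have h1 : IsAffineHom f := inferInstance
  have h2 : IsFinite f := (IsFinite.iff_isProper_and_isAffineHom).2 ⟨inferInstance, h1⟩
  have h3 := K432.CurveNorm.rtd_eq_zero_of_locallyQuasiFinite f (genericPoint X)
  have h4 := (K432.CurveNorm.dim_eq_iff f 1).1 (by rw [hdim]; rfl)
  rw [h3] at h4
  exact absurd h4 (by norm_num)

/-- Every integral separated curve of finite type over a perfect field has a smooth projective model. -/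
theorem exists_model {k : Type u} [Field k] [PerfectField k] {C : Scheme.{u}} [IsIntegral C]
    (c : C ⟶ Spec (CommRingCat.of k)) [IsSeparated c] [LocallyOfFiniteType c] [QuasiCompact c]
    (hdim : topologicalKrullDim C = 1) :
    ∃ (D : Scheme.{u}) (d : D ⟶ Spec (CommRingCat.of k)) (Q : C.Opens)
      (j : (Q : Scheme.{u}) ⟶ D), Smooth d ∧ Neron.IsProjectiveOver k (Over.mk d) ∧ IsIntegral D ∧
        topologicalKrullDim D = 1 ∧ (Q : Set C).Nonempty ∧ IsOpenImmersion j ∧
        j ≫ d = Q.ι ≫ c := by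
  let : C.Over (Spec (CommRingCat.of k)) := ⟨c⟩
  let : (Spec (CommRingCat.of k)).Over (Spec (CommRingCat.of k)) := ⟨𝟙 _⟩
  have i1 : IsSeparated (C ↘ (Spec (CommRingCat.of k))) := ‹IsSeparated c›
  have i2 : LocallyOfFiniteType (C ↘ (Spec (CommRingCat.of k))) := ‹LocallyOfFiniteType c›
  have i3 : QuasiCompact (C ↘ (Spec (CommRingCat.of k))) := ‹QuasiCompact c›
  have i4 : IsProper ((Spec (CommRingCat.of k)) ↘ (Spec (CommRingCat.of k))) :=
    inferInstanceAs (IsProper (𝟙 (Spec (CommRingCat.of k))))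
  obtain ⟨Xb, oXb, j, g, hj, hjg, hjX, hg, hXb, hXd, n, i, hi, hi2⟩ :=
    Groth.Agent.S6563.result k C (Spec (CommRingCat.of k)) hdim c (Category.comp_id _)
  let x : Xb ⟶ Spec (CommRingCat.of k) := Xb ↘ (Spec (CommRingCat.of k))
  have hx : IsProper x := by
    have : x = i ≫ CohB1.ProjSpace.toSpec n k := hi2.symm
    rw [this]
    infer_instance
  obtain ⟨D, ν, hν, hνs, hD, hDd, hreg, V, hV, hV'⟩ := K432.CurveNorm.exists_regular_model x hXd
  have hsm : Smooth (ν ≫ x) := Groth.Agent.Ega2.SmoothBdry.smooth_of_regular (ν ≫ x) hreg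
  have hpj : Neron.IsProjectiveOver k (Over.mk (ν ≫ x)) := by
    let : D.Over (Spec (CommRingCat.of k)) := ⟨ν ≫ x⟩
    have j1 : IsSeparated (D ↘ (Spec (CommRingCat.of k))) := inferInstanceAs (IsSeparated (ν ≫ x))
    have j2 : LocallyOfFiniteType (D ↘ (Spec (CommRingCat.of k))) :=
      inferInstanceAs (LocallyOfFiniteType (ν ≫ x))
    have j3 : QuasiCompact (D ↘ (Spec (CommRingCat.of k))) := inferInstanceAs (QuasiCompact (ν ≫ x))
    rcases Groth.Agent.S1627.result k D hDd with h | ⟨m, i', hi', hi2'⟩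
    · exact absurd h (not_isAffine (ν ≫ x) hDd)
    · exact isProjectiveOver_of_projSpace (ν ≫ x) m i' hi2'
  have hne : ((j ⁻¹ᵁ V : C.Opens) : Set C).Nonempty := by
    have h1 : (Set.range j).Nonempty := Set.range_nonempty _
    have h2 : IsOpen (Set.range j) := j.isOpenEmbedding.isOpen_range
    obtain ⟨y, hy1, ⟨z, rfl⟩⟩ := nonempty_preirreducible_inter V.isOpen h2 hV h1
    exact ⟨z, hy1⟩
  refine ⟨D, ν ≫ x, j ⁻¹ᵁ V, (j ∣_ V) ≫ inv (ν ∣_ V) ≫ (ν ⁻¹ᵁ V).ι, hsm, hpj, hD, hDd, hne,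
    inferInstance, ?_⟩
  have h3 : (ν ⁻¹ᵁ V).ι ≫ ν = (ν ∣_ V) ≫ V.ι := (morphismRestrict_ι ν V).symm
  have h4 : (j ∣_ V) ≫ V.ι = (j ⁻¹ᵁ V).ι ≫ j := morphismRestrict_ι j V
  rw [Category.assoc, Category.assoc, ← Category.assoc (ν ⁻¹ᵁ V).ι, h3, Category.assoc,
    IsIso.inv_hom_id_assoc, ← Category.assoc, h4, Category.assoc]
  exact congrArg (fun t => (j ⁻¹ᵁ V).ι ≫ t) hjX

end K280.CurveModel
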