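import Groth.Agent.Dix.K280.EdgeEt
import Groth.Agent.Etbc.H238.DegTwo
import Groth.Agent.Etbc.H220.DimOneCd
import Groth.Agent.Pi1.H421.CurveStep
import Groth.Agent.S5715
import Groth.Agent.S0229
import Groth.Agent.CurvesA.ClosedPtSep
import Groth.Agent.VarietyB.DimSch

/-!
# `H²(X, G_m)` in dimension at most one

`X` Noetherian of dimension `≤ 1` whose closed points have separably closed residue fields.
* `eq_zero_of_forall`: `H²(X, G_m) ⟶ ∏ H²(Spec O_{X,x}, G_m)` is injective (`x` generic).
* `subsingleton_of_forall`: `H²(X, G_m) = 0` if `H²(Spec κ(x), G_m) = 0` for the generic points.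
-/

set_option autoImplicit false
universe u

open CategoryTheory CategoryTheory.Limits AlgebraicGeometry Opposite TopologicalSpace

namespace K280.DimOneBr

open Groth.Agent

variable {X : Scheme.{u}}

theorem eq_zero_of_forall [IsNoetherian X] (hdim : topologicalKrullDim X ≤ 1)
    (hsep : ∀ x : X, IsClosed ({x} : Set X) → IsSepClosed (X.residueField x))
    [∀ x : X, PreservesFiniteLimits (EtCoh.pull (X.fromSpecStalk x))]
    (ξ : EtCoh.H X (EtCoh.Gm X) 2)
    (hξ : ∀ x : X, (∀ y : X, y ⤳ x → y = x) → EtLim.HGmPull (X.fromSpecStalk x) 2 ξ = 0) :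
    ξ = 0 := by
  have hpun := Groth.Agent.Etbc.H220.DimOneCd.punAcyc hsep
  refine Groth.Agent.Etbc.H238.DegTwo.eq_zero_of_push hdim hpun ξ (fun η => ?_)
  have hη : ∀ z, z ⤳ η.1 → z = η.1 := (Groth.Agent.Dix.KSheaf.isGen_iff η.1).1 η.2
  have h1 := K280.EdgeEt.HofPush_two_injective (X.fromSpecStalk η.1)
    (EtCoh.Gm (Spec (X.presheaf.stalk η.1))) (Groth.Agent.Etbc.H238.HilbStk.isZero_Rpush_one η.1 hη)
  apply h1
  rw [map_zero]
  exact hξ η.1 hη

/-- The maximal ideal of the local ring at a generic point is nilpotent. -/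
theorem isNilpotent_maximalIdeal [IsLocallyNoetherian X] (x : X) (hx : ∀ y : X, y ⤳ x → y = x) :
    IsNilpotent (IsLocalRing.maximalIdeal (X.presheaf.stalk x)) := by
  have h1 : nilradical (X.presheaf.stalk x) = IsLocalRing.maximalIdeal (X.presheaf.stalk x) := by
    refine le_antisymm (nilradical_le_prime _) ?_
    rw [nilradical, Ideal.radical_eq_sInf]
    refine le_sInf (fun p ⟨_, hp⟩ => ?_)
    let P : Spec (X.presheaf.stalk x) := ⟨p, hp⟩
    have h2 : X.fromSpecStalk x P ⤳ x := by
      have : X.fromSpecStalk x P ∈ Set.range (X.fromSpecStalk x) := ⟨_, rfl⟩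
      rwa [Scheme.range_fromSpecStalk] at this
    have h3 : X.fromSpecStalk x P = X.fromSpecStalk x (IsLocalRing.closedPoint _) := by
      rw [hx _ h2, Scheme.fromSpecStalk_closedPoint]
    have h4 : P = IsLocalRing.closedPoint _ :=
      (X.fromSpecStalk x).isEmbedding.injective h3
    have h5 : p = IsLocalRing.maximalIdeal _ := congrArg PrimeSpectrum.asIdeal h4
    rw [h5]
  rw [← h1]
  exact IsNoetherianRing.isNilpotent_nilradical _

/-- From the residue field to the local ring at a generic point. -/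
theorem subsingleton_stalk [IsLocallyNoetherian X] (x : X) (hx : ∀ y : X, y ⤳ x → y = x)
    (h : Subsingleton (EtCoh.H (Spec (X.residueField x)) (EtCoh.Gm (Spec (X.residueField x))) 2)) :
    Subsingleton
      (EtCoh.H (Spec (X.presheaf.stalk x)) (EtCoh.Gm (Spec (X.presheaf.stalk x))) 2) := by
  have h1 : HenselianLocalRing (X.presheaf.stalk x) :=
    Groth.Agent.Pi1.H421.CurveStep.henselianLocalRing_of_isNilpotent _
      (isNilpotent_maximalIdeal x hx)
  have hp : PreservesFiniteLimits (EtCoh.pull (Spec.map (CommRingCat.ofHom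
      (Ideal.Quotient.mk (IsLocalRing.maximalIdeal (X.presheaf.stalk x)))))) :=
    Groth.Agent.S0101.result _
  have h2 := Groth.Agent.S5715.result (X.presheaf.stalk x)
    (IsLocalRing.maximalIdeal (X.presheaf.stalk x)) (Ideal.IsPrime.ne_top inferInstance) 2
    (by norm_num)
  exact @Function.Injective.subsingleton _ _ _ h2.1 h

theorem subsingleton_of_forall [IsNoetherian X] (hdim : topologicalKrullDim X ≤ 1)
    (hsep : ∀ x : X, IsClosed ({x} : Set X) → IsSepClosed (X.residueField x))
    (h : ∀ x : X, (∀ y : X, y ⤳ x → y = x) →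
      Subsingleton (EtCoh.H (Spec (X.residueField x)) (EtCoh.Gm (Spec (X.residueField x))) 2)) :
    Subsingleton (EtCoh.H X (EtCoh.Gm X) 2) := by
  have hp : ∀ x : X, PreservesFiniteLimits (EtCoh.pull (X.fromSpecStalk x)) :=
    fun x => Groth.Agent.S0101.result _
  have key : ∀ ξ : EtCoh.H X (EtCoh.Gm X) 2, ξ = 0 := fun ξ =>
    eq_zero_of_forall hdim hsep ξ (fun x hx =>
      (subsingleton_stalk x hx (h x hx)).elim _ _)
  exact ⟨fun a b => (key a).trans (key b).symm⟩

end K280.DimOneBr
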