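import Mathlib.RingTheory.TensorProduct.Finite
import Mathlib.FieldTheory.IntermediateField.Adjoin.Basic
import Mathlib.RingTheory.Flat.Basic
import Mathlib.RingTheory.Localization.Away.Basic
import Mathlib.RingTheory.FiniteType
import Mathlib.LinearAlgebra.FreeModule.Basic
import Mathlib.Algebra.Category.Ring.Basic

/-!
# Descent of homomorphisms from an algebra of finite type into a localization of `Ω ⊗ B`
-/

set_option autoImplicit false
universe u

open scoped TensorProduct
open CategoryTheory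

namespace K280.RingDesc

section Field

variable (k K B : Type u) [Field k] [Field K] [Algebra k K] [CommRing B] [Algebra k B]

/-- the map `k' ⊗ B → K ⊗ B`. -/
noncomputable abbrev jm (F : IntermediateField k K) : F ⊗[k] B →ₐ[k] K ⊗[k] B :=
  Algebra.TensorProduct.map F.val (AlgHom.id k B)

/-- the map `k' ⊗ B → K ⊗ B`, as a homomorphism of rings. -/
noncomputable def jmR (F : IntermediateField k K) :
    CommRingCat.of (F ⊗[k] B) ⟶ CommRingCat.of (K ⊗[k] B) :=
  CommRingCat.ofHom (jm k K B F).toRingHom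

theorem jm_injective (F : IntermediateField k K) : Function.Injective (jm k K B F) := by
  have h := Module.Flat.rTensor_preserves_injective_linearMap (M := B) F.val.toLinearMap
    F.val.injective
  exact h

theorem range_mono {F F' : IntermediateField k K} (h : F ≤ F') :
    (jm k K B F).range ≤ (jm k K B F').range := by
  rintro _ ⟨x, rfl⟩
  refine ⟨Algebra.TensorProduct.map (IntermediateField.inclusion h) (AlgHom.id k B) x, ?_⟩
  change ((jm k K B F').comp (Algebra.TensorProduct.map (IntermediateField.inclusion h) (AlgHom.id k B))) x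
    = jm k K B F x
  congr 1
  ext <;> rfl

variable [Algebra.IsAlgebraic k K]

theorem exists_field_one (x : K ⊗[k] B) :
    ∃ F : IntermediateField k K, FiniteDimensional k F ∧ x ∈ (jm k K B F).range := by
  induction x with
  | zero => exact ⟨⊥, inferInstance, zero_mem _⟩
  | tmul a b =>
    refine ⟨IntermediateField.adjoin k {a}, IntermediateField.adjoin.finiteDimensional
      (Algebra.IsIntegral.isIntegral a), ?_⟩
    exact ⟨(⟨a, IntermediateField.mem_adjoin_simple_self k a⟩ : IntermediateField.adjoin k {a}) ⊗ₜ b, rfl⟩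
  | add x y hx hy =>
    obtain ⟨F, hF, hx⟩ := hx
    obtain ⟨F', hF', hy⟩ := hy
    exact ⟨F ⊔ F', IntermediateField.finiteDimensional_sup F F', add_mem (range_mono k K B le_sup_left hx)
      (range_mono k K B le_sup_right hy)⟩

theorem exists_field (t : Finset (K ⊗[k] B)) :
    ∃ F : IntermediateField k K, FiniteDimensional k F ∧ ∀ x ∈ t, x ∈ (jm k K B F).range := by
  classical
  induction t using Finset.induction_on with
  | empty => exact ⟨⊥, inferInstance, by simp⟩
  | insert a t _ ih =>
    obtain ⟨F, hF, h⟩ := ih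
    obtain ⟨F', hF', h'⟩ := exists_field_one k K B a
    refine ⟨F ⊔ F', IntermediateField.finiteDimensional_sup F F', fun x hx => ?_⟩
    rw [Finset.mem_insert] at hx
    rcases hx with rfl | hx
    · exact range_mono k K B le_sup_right h'
    · exact range_mono k K B le_sup_left (h x hx)

end Field

theorem descent_aux {k A₀ A R : Type u} [CommRing k] [CommRing A₀] [CommRing A] [CommRing R]
    [Algebra k R] (f : A₀ →+* A) (hf : Function.Injective f) (h₂ : A₀)
    (θ : R →+* Localization.Away (f h₂)) (c : k →+* A₀)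
    (hθ : ∀ x : k, θ (algebraMap k R x) = algebraMap A _ (f (c x))) (s : Set R)
    (hs : Algebra.adjoin k s = ⊤)
    (hy : ∀ r ∈ s, ∃ (y : A₀) (m : ℕ), θ r * algebraMap A _ (f h₂ ^ m) = algebraMap A _ (f y)) :
    ∃ (θ₂ : R →+* Localization.Away h₂) (ι : Localization.Away h₂ →+* Localization.Away (f h₂)),
      ι.comp (algebraMap A₀ _) = (algebraMap A _).comp f ∧ ι.comp θ₂ = θ ∧
        θ₂.comp (algebraMap k R) = (algebraMap A₀ _).comp c := by
  let ι : Localization.Away h₂ →+* Localization.Away (f h₂) := Localization.awayMap f h₂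
  have hι' : ∀ z, ι (algebraMap A₀ (Localization.Away h₂) z) =
      algebraMap A (Localization.Away (f h₂)) (f z) := fun z =>
    IsLocalization.map_eq (M := Submonoid.powers h₂) (S := Localization.Away h₂)
      (Q := Localization.Away (f h₂)) _ z
  have hinj : Function.Injective ι :=
    (IsLocalization.Away.map_injective_iff _ _ _).2 fun a ha => ⟨0, by
      rw [pow_zero, one_mul]
      exact hf (ha.trans (map_zero f).symm)⟩
  have h2 : ∀ r ∈ Algebra.adjoin k s, θ r ∈ ι.range := by
    intro r hr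
    induction hr using Algebra.adjoin_induction with
    | mem r hr =>
      obtain ⟨y', m, hy'⟩ := hy r hr
      have hu : IsUnit (algebraMap A₀ (Localization.Away h₂) (h₂ ^ m)) :=
        IsLocalization.map_units (Localization.Away h₂)
          (⟨h₂ ^ m, m, rfl⟩ : Submonoid.powers h₂)
      obtain ⟨v, hv⟩ := hu.exists_right_inv
      refine ⟨algebraMap _ _ y' * v, ?_⟩
      have h3 : ι (algebraMap _ _ (h₂ ^ m)) * ι v = 1 := by rw [← map_mul, hv, map_one]
      have h4 : ι (algebraMap _ _ (h₂ ^ m)) = algebraMap A _ (f h₂ ^ m) := by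
        rw [hι', map_pow]
      rw [map_mul, hι', ← hy', ← h4, mul_assoc, h3, mul_one]
    | algebraMap x => exact ⟨_, (hι' (c x)).trans (hθ x).symm⟩
    | add a b _ _ ha hb => rw [map_add]; exact add_mem ha hb
    | mul a b _ _ ha hb => rw [map_mul]; exact mul_mem ha hb
  have hmem : ∀ r : R, θ r ∈ ι.range := fun r => h2 r (by rw [hs]; exact Algebra.mem_top)
  let e := RingEquiv.ofBijective ι.rangeRestrict
    ⟨fun a b hab => hinj (congrArg Subtype.val hab), ι.rangeRestrict_surjective⟩
  let θ₂ : R →+* Localization.Away h₂ := e.symm.toRingHom.comp (θ.codRestrict ι.range hmem)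
  have hθ₂ : ι.comp θ₂ = θ := by
    ext r
    have h6 : e (e.symm (θ.codRestrict ι.range hmem r)) = θ.codRestrict ι.range hmem r :=
      e.apply_symm_apply _
    exact congrArg Subtype.val h6
  refine ⟨θ₂, ι, RingHom.ext hι', hθ₂, RingHom.ext fun x => hinj ?_⟩
  exact (RingHom.congr_fun hθ₂ _).trans ((hθ x).trans (hι' (c x)).symm)

/-- Descent of a homomorphism `R ⟶ (Ω ⊗ B)_h` from an algebra of finite type over `k`. -/
theorem exists_descent {k k₁ Ω B R : Type u} [Field k] [Field k₁] [Field Ω] [Algebra k k₁]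
    [Algebra k₁ Ω] [Algebra k Ω] [IsScalarTower k k₁ Ω] [Algebra.IsAlgebraic k₁ Ω]
    [CommRing B] [Algebra k₁ B] [CommRing R] [Algebra k R] [Algebra.FiniteType k R]
    (h : Ω ⊗[k₁] B) (θ : R →+* Localization.Away h)
    (hθ : ∀ x : k, θ (algebraMap k R x) =
      algebraMap (Ω ⊗[k₁] B) (Localization.Away h) (algebraMap Ω (Ω ⊗[k₁] B) (algebraMap k Ω x))) :
    ∃ (E : IntermediateField k₁ Ω) (_ : FiniteDimensional k₁ E) (h₂ : E ⊗[k₁] B)
      (θ₂ : CommRingCat.of R ⟶ CommRingCat.of (Localization.Away h₂))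
      (ι : CommRingCat.of (Localization.Away h₂) ⟶ CommRingCat.of (Localization.Away h)),
      CommRingCat.ofHom (algebraMap (E ⊗[k₁] B) (Localization.Away h₂)) ≫ ι =
        jmR k₁ Ω B E ≫ CommRingCat.ofHom (algebraMap (Ω ⊗[k₁] B) (Localization.Away h)) ∧
      θ₂ ≫ ι = CommRingCat.ofHom θ ∧
      CommRingCat.ofHom (algebraMap k R) ≫ θ₂ =
        CommRingCat.ofHom (algebraMap k k₁) ≫ CommRingCat.ofHom (algebraMap k₁ E) ≫
          CommRingCat.ofHom (Algebra.TensorProduct.includeLeftRingHom (R := k₁) (A := E) (B := B)) ≫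
            CommRingCat.ofHom (algebraMap (E ⊗[k₁] B) (Localization.Away h₂)) := by
  classical
  obtain ⟨s, hs⟩ := (inferInstance : Algebra.FiniteType k R)
  have h1 : ∀ r : R, ∃ (y : Ω ⊗[k₁] B) (m : ℕ), θ r * algebraMap _ _ (h ^ m) =
      algebraMap (Ω ⊗[k₁] B) (Localization.Away h) y := by
    intro r
    obtain ⟨⟨y, ⟨_, m, rfl⟩⟩, hy⟩ := IsLocalization.surj (Submonoid.powers h) (θ r)
    exact ⟨y, m, hy⟩
  choose y m hy using h1
  obtain ⟨E, hE, hrange⟩ := exists_field k₁ Ω B (insert h (s.image y))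
  obtain ⟨h₂, hh₂⟩ := hrange h (Finset.mem_insert_self _ _)
  obtain rfl : (jmR k₁ Ω B E).hom h₂ = h := hh₂
  obtain ⟨θ₂, ι, h3, h4, h5⟩ := descent_aux (A₀ := CommRingCat.of (E ⊗[k₁] B))
    (A := CommRingCat.of (Ω ⊗[k₁] B)) (jmR k₁ Ω B E).hom (jm_injective k₁ Ω B E) h₂ θ
    (CommRingCat.ofHom (algebraMap k k₁) ≫ CommRingCat.ofHom (algebraMap k₁ E) ≫
          CommRingCat.ofHom (Algebra.TensorProduct.includeLeftRingHom (R := k₁) (A := E) (B := B))).hom
    (fun x => (hθ x).trans (by
      congr 1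
      change algebraMap k Ω x ⊗ₜ[k₁] (1 : B) =
        (jm k₁ Ω B E) (algebraMap k₁ E (algebraMap k k₁ x) ⊗ₜ[k₁] (1 : B))
      rw [Algebra.TensorProduct.map_tmul, IsScalarTower.algebraMap_apply k k₁ Ω]
      rfl)) s hs (fun r hr => by
      obtain ⟨y', hy'⟩ := hrange (y r) (Finset.mem_insert_of_mem (Finset.mem_image_of_mem _ hr))
      refine ⟨y', m r, (hy r).trans (congrArg _ hy'.symm)⟩)
  exact ⟨E, hE, h₂, CommRingCat.ofHom θ₂, CommRingCat.ofHom ι, CommRingCat.hom_ext h3,
    CommRingCat.hom_ext h4, CommRingCat.hom_ext h5⟩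

end K280.RingDesc
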