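import Groth.Prelude.Def_SGA7I
import Groth.Agent.Dix.K280.RingDesc
import Mathlib.AlgebraicGeometry.PullbackCarrier
import Mathlib.AlgebraicGeometry.Morphisms.FiniteType

/-!
# Descent of morphisms over the algebraic closure to a finite extension
-/

set_option autoImplicit false
universe u
open CategoryTheory CategoryTheory.Limits AlgebraicGeometry
open scoped TensorProduct

namespace K280.MapDesc

theorem exists_tensor {k₁ : Type u} (L : Type u) {B : Type u} [Field k₁] [Field L] [Algebra k₁ L] [CommRing B]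
    [Algebra k₁ B] {D : Scheme.{u}} (d : D ⟶ Spec (CommRingCat.of k₁)) (v : Spec (CommRingCat.of B) ⟶ D)
    (hv : v ≫ d = Spec.map (CommRingCat.ofHom (algebraMap k₁ B))) :
    ∃ w : Spec (CommRingCat.of (L ⊗[k₁] B)) ⟶ SGA7.bcField L d,
      IsPullback w (Spec.map (CommRingCat.ofHom (S := L ⊗[k₁] B)
        (Algebra.TensorProduct.includeRight.toRingHom)))
        (pullback.fst d (Spec.map (CommRingCat.ofHom (algebraMap k₁ L)))) v ∧
      w ≫ pullback.snd d (Spec.map (CommRingCat.ofHom (algebraMap k₁ L))) =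
        Spec.map (CommRingCat.ofHom (S := L ⊗[k₁] B)
          (Algebra.TensorProduct.includeLeftRingHom)) := by
  have h1 := isPullback_SpecMap_of_isPushout _ _ _ _ (CommRingCat.isPushout_tensorProduct k₁ L B)
  have h2 := IsPullback.of_hasPullback d (Spec.map (CommRingCat.ofHom (algebraMap k₁ L)))
  rw [← hv] at h1
  let w : Spec (CommRingCat.of (L ⊗[k₁] B)) ⟶ SGA7.bcField L d :=
    pullback.lift (Spec.map (CommRingCat.ofHom (S := L ⊗[k₁] B)
        (Algebra.TensorProduct.includeRight.toRingHom)) ≫ v)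
      (Spec.map (CommRingCat.ofHom (S := L ⊗[k₁] B)
          (Algebra.TensorProduct.includeLeftRingHom))) (by
        rw [Category.assoc]
        exact h1.w.symm)
  have h3 : w ≫ pullback.fst _ _ = _ := pullback.lift_fst _ _ _
  have h4 : w ≫ pullback.snd _ _ = _ := pullback.lift_snd _ _ _
  refine ⟨w, ?_, h4⟩
  refine IsPullback.of_right (h₁₂ := pullback.snd d (Spec.map (CommRingCat.ofHom (algebraMap k₁ L))))
    (v₁₃ := Spec.map (CommRingCat.ofHom (algebraMap k₁ L))) (h₂₂ := d) ?_ h3 h2.flip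
  rw [h4]
  exact h1

variable {k k₁ Ω : Type u} [Field k] [Field k₁] [Field Ω] [Algebra k k₁] [Algebra k₁ Ω]
  [Algebra k Ω] [IsScalarTower k k₁ Ω] [Algebra.IsAlgebraic k₁ Ω]

theorem mapDesc_aux {D X Z : Scheme.{u}} (d : D ⟶ Spec (CommRingCat.of k₁))
    (f : X ⟶ Spec (CommRingCat.of k)) {R B : Type u} [CommRing R] [CommRing B] [Algebra k R]
    [Algebra.FiniteType k R] [Algebra k₁ B] (u₀ : Spec (CommRingCat.of R) ⟶ X) [IsOpenImmersion u₀]
    (hu₀ : u₀ ≫ f = Spec.map (CommRingCat.ofHom (algebraMap k R)))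
    (v : Spec (CommRingCat.of B) ⟶ D) [IsOpenImmersion v]
    (hv : v ≫ d = Spec.map (CommRingCat.ofHom (algebraMap k₁ B)))
    (z₂ : Z ⟶ SGA7.bcField Ω d) [IsOpenImmersion z₂] (z : Z) (φ : Z ⟶ X)
    (hφ : φ ≫ f = z₂ ≫ pullback.snd _ _ ≫ Spec.map (CommRingCat.ofHom (algebraMap k Ω)))
    (hz1 : φ z ∈ Set.range u₀)
    (hz2 : pullback.fst d (Spec.map (CommRingCat.ofHom (algebraMap k₁ Ω))) (z₂ z) ∈ Set.range v) :
    ∃ (E : IntermediateField k₁ Ω) (_ : FiniteDimensional k₁ E) (Y : Scheme.{u})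
      (u : Y ⟶ SGA7.bcField E d) (ψ : Y ⟶ X) (Z' : Scheme.{u}) (ζ : Z' ⟶ Z) (ρ : Z' ⟶ Y),
      IsOpenImmersion u ∧ Nonempty Z' ∧ IsOpenImmersion ζ ∧
      ψ ≫ f = u ≫ pullback.snd _ _ ≫ Spec.map (CommRingCat.ofHom (algebraMap k₁ E)) ≫
        Spec.map (CommRingCat.ofHom (algebraMap k k₁)) ∧
      ρ ≫ ψ = ζ ≫ φ ∧
      ρ ≫ u ≫ pullback.snd _ _ =
        ζ ≫ z₂ ≫ pullback.snd _ _ ≫ Spec.map (CommRingCat.ofHom (algebraMap E Ω)) := by
  obtain ⟨w, hw, hw2⟩ := exists_tensor Ω d v hv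
  have hwo : IsOpenImmersion w :=
    MorphismProperty.of_isPullback (P := @IsOpenImmersion) hw.flip inferInstance
  obtain ⟨p', hp'⟩ := hz2
  obtain ⟨p, hp, -⟩ := Scheme.exists_preimage_of_isPullback hw (z₂ z) p' hp'.symm
  let O : (Spec (CommRingCat.of (Ω ⊗[k₁] B))).Opens := w ⁻¹ᵁ (z₂ ''ᵁ (φ ⁻¹ᵁ u₀.opensRange))
  have hpO : p ∈ O := by
    change w p ∈ z₂ ''ᵁ (φ ⁻¹ᵁ u₀.opensRange)
    exact hp ▸ ⟨z, hz1, rfl⟩
  obtain ⟨_, ⟨_, ⟨h, rfl⟩, rfl⟩, hph, hsub⟩ :=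
    PrimeSpectrum.isBasis_basic_opens.exists_subset_of_mem_open hpO O.isOpen
  let j : Spec (CommRingCat.of (Localization.Away h)) ⟶ Spec (CommRingCat.of (Ω ⊗[k₁] B)) :=
    Spec.map (CommRingCat.ofHom (algebraMap (Ω ⊗[k₁] B) (Localization.Away h)))
  have hj : IsOpenImmersion j := inferInstance
  have hjr := PrimeSpectrum.localization_away_comap_range (Localization.Away h) h
  have hjO : ∀ x, w (j x) ∈ z₂ ''ᵁ (φ ⁻¹ᵁ u₀.opensRange) := fun x =>
    hsub (hjr.subset ⟨x, rfl⟩)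
  have hran : Set.range (j ≫ w) ⊆ Set.range z₂ := by
    rintro _ ⟨x, rfl⟩
    obtain ⟨y, -, hy⟩ := hjO x
    exact ⟨y, hy⟩
  let ζ : Spec (CommRingCat.of (Localization.Away h)) ⟶ Z := IsOpenImmersion.lift z₂ (j ≫ w) hran
  have hζ : ζ ≫ z₂ = j ≫ w := IsOpenImmersion.lift_fac _ _ _
  have hζo : IsOpenImmersion ζ := by
    have : IsOpenImmersion (ζ ≫ z₂) := by rw [hζ]; infer_instance
    exact IsOpenImmersion.of_comp ζ z₂
  have hran2 : Set.range (ζ ≫ φ) ⊆ Set.range u₀ := by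
    rintro _ ⟨x, rfl⟩
    obtain ⟨y, hy, hy2⟩ := hjO x
    have h3 : z₂ (ζ x) = w (j x) := by
      rw [← Scheme.Hom.comp_apply, hζ, Scheme.Hom.comp_apply]
    have h4 : ζ x = y := z₂.isOpenEmbedding.injective (h3.trans hy2.symm)
    rw [Scheme.Hom.comp_apply, h4]
    exact hy
  let θ' : Spec (CommRingCat.of (Localization.Away h)) ⟶ Spec (CommRingCat.of R) :=
    IsOpenImmersion.lift u₀ (ζ ≫ φ) hran2
  have hθ' : θ' ≫ u₀ = ζ ≫ φ := IsOpenImmersion.lift_fac _ _ _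
  obtain ⟨θ, hθ⟩ := Spec.map_surjective θ'
  have hkey : CommRingCat.ofHom (algebraMap k R) ≫ θ = CommRingCat.ofHom (algebraMap k Ω) ≫
      CommRingCat.ofHom (S := Ω ⊗[k₁] B) (Algebra.TensorProduct.includeLeftRingHom) ≫
        CommRingCat.ofHom (algebraMap (Ω ⊗[k₁] B) (Localization.Away h)) := by
    apply Spec.map_injective
    rw [Spec.map_comp, Spec.map_comp, Spec.map_comp, hθ, ← hu₀, ← Category.assoc, hθ', Category.assoc,
      hφ, ← Category.assoc ζ, hζ, Category.assoc, ← Category.assoc w, hw2, Category.assoc]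
  obtain ⟨E, hE, h₂, θ₂, ι, e1, e2, e3⟩ := RingDesc.exists_descent (k := k) h θ.hom
    fun x => congrArg (fun g => g.hom x) hkey
  obtain ⟨wE, hwE, hwE2⟩ := exists_tensor E d v hv
  have hwEo : IsOpenImmersion wE :=
    MorphismProperty.of_isPullback (P := @IsOpenImmersion) hwE.flip inferInstance
  let jE : Spec (CommRingCat.of (Localization.Away h₂)) ⟶ Spec (CommRingCat.of (E ⊗[k₁] B)) :=
    Spec.map (CommRingCat.ofHom (algebraMap (E ⊗[k₁] B) (Localization.Away h₂)))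
  have hjE : IsOpenImmersion jE := inferInstance
  refine ⟨E, hE, Spec (CommRingCat.of (Localization.Away h₂)), jE ≫ wE, Spec.map θ₂ ≫ u₀,
    Spec (CommRingCat.of (Localization.Away h)), ζ, Spec.map ι, inferInstance, ?_, hζo, ?_, ?_, ?_⟩
  · obtain ⟨y, -⟩ := hjr.symm.subset hph
    exact ⟨y⟩
  · rw [Category.assoc, hu₀, ← Spec.map_comp, e3, Category.assoc, ← Category.assoc wE, hwE2,
      Spec.map_comp, Spec.map_comp, Spec.map_comp]
    simp only [Category.assoc]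
    rfl
  · rw [← Category.assoc, ← Spec.map_comp, e2]
    change Spec.map θ ≫ u₀ = _
    rw [hθ, hθ']
  · have h6 : Spec.map ι ≫ jE = j ≫ Spec.map (RingDesc.jmR k₁ Ω B E) := by
      rw [← Spec.map_comp, ← Spec.map_comp, e1]
    have h7 : CommRingCat.ofHom (S := E ⊗[k₁] B) (Algebra.TensorProduct.includeLeftRingHom) ≫
        RingDesc.jmR k₁ Ω B E = CommRingCat.ofHom (algebraMap E Ω) ≫
          CommRingCat.ofHom (S := Ω ⊗[k₁] B) (Algebra.TensorProduct.includeLeftRingHom) := by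
      ext x
      rfl
    rw [Category.assoc, ← Category.assoc, h6, Category.assoc, hwE2, ← Spec.map_comp, h7, Spec.map_comp,
      ← hw2, ← Category.assoc ζ, hζ]
    simp only [Category.assoc]

/-- A morphism from an open part of `D_Ω` to a scheme of finite type over `k` descends, after shrinking, to a
finite extension. -/
theorem exists_mapDesc {D X Z : Scheme.{u}} (d : D ⟶ Spec (CommRingCat.of k₁))
    (f : X ⟶ Spec (CommRingCat.of k)) [LocallyOfFiniteType f]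
    (z₂ : Z ⟶ SGA7.bcField Ω d) [IsOpenImmersion z₂] [Nonempty Z] (φ : Z ⟶ X)
    (hφ : φ ≫ f = z₂ ≫ pullback.snd _ _ ≫ Spec.map (CommRingCat.ofHom (algebraMap k Ω))) :
    ∃ (E : IntermediateField k₁ Ω) (_ : FiniteDimensional k₁ E) (Y : Scheme.{u})
      (u : Y ⟶ SGA7.bcField E d) (ψ : Y ⟶ X) (Z' : Scheme.{u}) (ζ : Z' ⟶ Z) (ρ : Z' ⟶ Y),
      IsOpenImmersion u ∧ Nonempty Z' ∧ IsOpenImmersion ζ ∧
      ψ ≫ f = u ≫ pullback.snd _ _ ≫ Spec.map (CommRingCat.ofHom (algebraMap k₁ E)) ≫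
        Spec.map (CommRingCat.ofHom (algebraMap k k₁)) ∧
      ρ ≫ ψ = ζ ≫ φ ∧
      ρ ≫ u ≫ pullback.snd _ _ =
        ζ ≫ z₂ ≫ pullback.snd _ _ ≫ Spec.map (CommRingCat.ofHom (algebraMap E Ω)) := by
  obtain ⟨z⟩ : Nonempty Z := inferInstance
  obtain ⟨_, ⟨U, hU, rfl⟩, hzU, -⟩ :=
    X.isBasis_affineOpens.exists_subset_of_mem_open (Set.mem_univ (φ z)) isOpen_univ
  have hU' : IsAffineOpen U := hU
  obtain ⟨_, ⟨V, hV, rfl⟩, hzV, -⟩ :=
    D.isBasis_affineOpens.exists_subset_of_mem_open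
      (Set.mem_univ (pullback.fst d (Spec.map (CommRingCat.ofHom (algebraMap k₁ Ω))) (z₂ z))) isOpen_univ
  have hV' : IsAffineOpen V := hV
  obtain ⟨cR, hcR⟩ := Spec.map_surjective (hU'.fromSpec ≫ f)
  have h1 : LocallyOfFiniteType (Spec.map cR) := by rw [hcR]; infer_instance
  rw [HasRingHomProperty.Spec_iff (P := @LocallyOfFiniteType)] at h1
  let : Algebra k Γ(X, U) := cR.hom.toAlgebra
  have h1' : Algebra.FiniteType k Γ(X, U) := h1
  obtain ⟨cB, hcB⟩ := Spec.map_surjective (hV'.fromSpec ≫ d)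
  let : Algebra k₁ Γ(D, V) := cB.hom.toAlgebra
  exact mapDesc_aux d f hU'.fromSpec hcR.symm hV'.fromSpec hcB.symm z₂ z φ hφ
    (by rw [hU'.range_fromSpec]; exact hzU) (by rw [hV'.range_fromSpec]; exact hzV)

end K280.MapDesc
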