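import Groth.Agent.Dix.K280.FanOpen
import Groth.Agent.Dix.K280.KerFin

/-!
# Comparing two products of curves which share open pieces of their factors
-/

set_option autoImplicit false
universe u
open CategoryTheory CategoryTheory.Limits AlgebraicGeometry

namespace K280.ProdGeom

variable {Ω : Type u} [Field Ω] [IsAlgClosed Ω]

/-- Nonempty schemes locally of finite type over an algebraically closed field have rational points. -/
theorem exists_section {W : Scheme.{u}} (w : W ⟶ Spec (CommRingCat.of Ω)) [LocallyOfFiniteType w]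
    [Nonempty W] : ∃ s : Spec (CommRingCat.of Ω) ⟶ W, s ≫ w = 𝟙 _ := by
  obtain ⟨L, i1, i2, i3, s, hs⟩ := K280.KerFin.exists_finite_point w
  have h1 : Function.Bijective (algebraMap Ω L) :=
    IsAlgClosed.algebraMap_bijective_of_isIntegral
  let e : Ω ≃+* L := RingEquiv.ofBijective (algebraMap Ω L) h1
  refine ⟨Spec.map (CommRingCat.ofHom (e.symm : L →+* Ω)) ≫ s, ?_⟩
  rw [Category.assoc, hs, ← Spec.map_comp, ← CommRingCat.ofHom_comp]
  have h2 : (e.symm : L →+* Ω).comp (algebraMap Ω L) = RingHom.id Ω := by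
    ext x
    exact e.symm_apply_apply x
  rw [h2]
  exact Spec.map_id _

variable {n : ℕ} {C G W : Fin n → Over (Spec (CommRingCat.of Ω))} (a : ∀ i, W i ⟶ C i)
  (b : ∀ i, W i ⟶ G i) [∀ i, IsOpenImmersion (a i).left] [∀ i, IsOpenImmersion (b i).left]
  [∀ i, LocallyOfFiniteType (C i).hom] [∀ i, Nonempty (W i).left] [∀ i, IrreducibleSpace (C i).left]

include a b in
theorem exists_roof (P : Fan C) (hP : IsLimit P) (D : Fan G) (hD : IsLimit D)
    (U : P.pt.left.Opens) (hU : (U : Set P.pt.left).Nonempty) :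
    ∃ (Z : Over (Spec (CommRingCat.of Ω))) (z₁ : Z ⟶ P.pt) (z₂ : Z ⟶ D.pt),
      IsOpenImmersion z₁.left ∧ IsOpenImmersion z₂.left ∧ Nonempty Z.left ∧
        Set.range z₁.left ⊆ U ∧ IrreducibleSpace P.pt.left := by
  have hirr : IrreducibleSpace P.pt.left :=
    FanOpen.irreducibleSpace_of_isLimit n C (fun i =>
      ⟨FanOpen.geomIrr_of_irreducible (C i).hom, inferInstance⟩) P hP
  obtain ⟨hc⟩ := FanOpen.nonempty_isLimit a P hP
  let c : Fan W := Fan.mk (FanOpen.opnOver a P) (FanOpen.pr a P)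
  let m₂ : c.pt ⟶ D.pt := Fan.IsLimit.lift hD (fun i => c.proj i ≫ b i)
  have hm₂ : IsOpenImmersion m₂.left :=
    FanOpen.isOpenImmersion_of_isLimit b D hD c hc m₂ fun i => Fan.IsLimit.fac hD _ i
  let m₁ : c.pt ⟶ P.pt := FanOpen.inc a P
  have hm₁ : IsOpenImmersion m₁.left := inferInstanceAs (IsOpenImmersion (FanOpen.opn a P).ι)
  have hne : Nonempty c.pt.left := by
    have h1 : ∀ i, ∃ s : Over.mk (𝟙 (Spec (CommRingCat.of Ω))) ⟶ W i, True := by
      intro i
      have h2 : LocallyOfFiniteType (W i).hom := by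
        rw [← Over.w (a i)]
        infer_instance
      obtain ⟨s, hs⟩ := exists_section (W i).hom
      exact ⟨Over.homMk s hs, trivial⟩
    choose s hs using h1
    let t : Over.mk (𝟙 (Spec (CommRingCat.of Ω))) ⟶ c.pt := Fan.IsLimit.lift hc s
    exact ⟨t.left (Nonempty.some (inferInstanceAs (Nonempty (Spec (CommRingCat.of Ω)))))⟩
  have hinter : ((m₁.left ⁻¹ᵁ U : c.pt.left.Opens) : Set c.pt.left).Nonempty := by
    obtain ⟨y, hy1, ⟨z, rfl⟩⟩ := nonempty_preirreducible_inter U.isOpen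
      m₁.left.isOpenEmbedding.isOpen_range hU (Set.range_nonempty _)
    exact ⟨z, hy1⟩
  let Z : Over (Spec (CommRingCat.of Ω)) := Over.mk ((m₁.left ⁻¹ᵁ U).ι ≫ c.pt.hom)
  let j : Z ⟶ c.pt := Over.homMk (m₁.left ⁻¹ᵁ U).ι rfl
  refine ⟨Z, j ≫ m₁, j ≫ m₂, ?_, ?_, hinter.to_subtype, ?_, hirr⟩
  · exact inferInstanceAs (IsOpenImmersion ((m₁.left ⁻¹ᵁ U).ι ≫ m₁.left))
  · exact inferInstanceAs (IsOpenImmersion ((m₁.left ⁻¹ᵁ U).ι ≫ m₂.left))
  · rintro _ ⟨x, rfl⟩
    exact x.2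

end K280.ProdGeom
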