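import Groth.Agent.Dix.K280.BrRel
import Groth.Agent.Dix.K280.MapDesc
import Groth.Agent.Dix.K280.ProdGeom

/-!
# Finiteness of the invariant Brauer classes of a scheme dominated by a product of curves
-/

set_option autoImplicit false
universe u
open CategoryTheory CategoryTheory.Limits AlgebraicGeometry
open K280.BrEquiv K280.CurveDesc K280.ProdInd

namespace K280.DomFin

theorem exists_bc {k Ω : Type u} [Field k] [Field Ω] [Algebra k Ω] (E F : IntermediateField k Ω)
    (h : E ≤ F) (D : Over (Spec (CommRingCat.of E))) (hD : GoodCurve Ω D) {W : Scheme.{u}}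
    (b : W ⟶ SGA7.bcField Ω D.hom) [IsOpenImmersion b] :
    ∃ (D' : Over (Spec (CommRingCat.of F))) (b' : W ⟶ SGA7.bcField Ω D'.hom), GoodCurve Ω D' ∧
      IsOpenImmersion b' ∧ b' ≫ pullback.snd _ _ = b ≫ pullback.snd _ _ := by
  let : Algebra E F := (IntermediateField.inclusion h).toAlgebra
  have : IsScalarTower E F Ω := IsScalarTower.of_algebraMap_eq fun x => rfl
  let D' := (Over.pullback (Spec.map (CommRingCat.ofHom (algebraMap E F)))).obj D
  have hp : IsPullback (pullback.fst D.hom (Spec.map (CommRingCat.ofHom (algebraMap E F)))) D'.hom D.hom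
      (Spec.map (CommRingCat.ofHom (algebraMap E F))) := IsPullback.of_hasPullback _ _
  have h1 := isIso_bcMap Ω D.hom D'.hom _ hp.w hp
  refine ⟨D', b ≫ inv (bcMap Ω D.hom D'.hom _ hp.w), goodCurve_bc D hD, inferInstance, ?_⟩
  rw [Category.assoc]
  congr 1
  rw [IsIso.inv_comp_eq]
  exact (bcMap_snd Ω D.hom D'.hom _ hp.w).symm

/-- Base change preserves finite products. -/
noncomputable def isLimitPullback {k k₁ : Type u} [Field k] [Field k₁] [Algebra k k₁] {n : ℕ}
    {D : Fin n → Over (Spec (CommRingCat.of k))} (c : Fan D) (hc : IsLimit c) :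
    IsLimit (Fan.mk (f := fun j =>
        (Over.pullback (Spec.map (CommRingCat.ofHom (algebraMap k k₁)))).obj (D j))
      ((Over.pullback (Spec.map (CommRingCat.ofHom (algebraMap k k₁)))).obj c.pt)
      fun j => (Over.pullback (Spec.map (CommRingCat.ofHom (algebraMap k k₁)))).map (c.proj j)) :=
  have : PreservesLimitsOfSize.{0, 0}
      (Over.pullback (Spec.map (CommRingCat.ofHom (algebraMap k k₁)))) :=
    (Over.mapPullbackAdj _).rightAdjoint_preservesLimits
  isLimitFanMkObjOfIsLimit (Over.pullback (Spec.map (CommRingCat.ofHom (algebraMap k k₁)))) D c.proj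
    (hc.ofIsoLimit (Fan.ext (Iso.refl _) fun _ => (Category.id_comp _).symm))

theorem fg_of_finite {k E : Type u} [Field k] [Field E] [CharZero k] [CharZero E] [Algebra k E]
    [Module.Finite k E] (hk : (⊤ : IntermediateField ℚ k).FG) : (⊤ : IntermediateField ℚ E).FG := by
  rw [IntermediateField.fg_top_iff] at hk ⊢
  exact Algebra.EssFiniteType.comp ℚ k E

variable [∀ ⦃Y Z : Scheme.{u}⦄ (g : Y ⟶ Z), PreservesFiniteLimits (EtCoh.pull g)]

omit [∀ ⦃Y Z : Scheme.{u}⦄ (g : Y ⟶ Z), PreservesFiniteLimits (EtCoh.pull g)] in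
theorem denseRange_comp {A B C : Scheme.{u}} [IrreducibleSpace B] [Nonempty A] (i : A ⟶ B)
    [IsOpenImmersion i] (g : B ⟶ C) (hg : DenseRange g) : DenseRange (i ≫ g) := by
  have h1 : DenseRange i := i.isOpenEmbedding.isOpen_range.dense (Set.range_nonempty _)
  have h2 := hg.comp h1 g.continuous
  rwa [show (g ∘ i : A → C) = (i ≫ g : A ⟶ C) from
    funext fun x => (Scheme.Hom.comp_apply _ _ _).symm] at h2

/-- The finiteness when the product of curves is defined over `k₁`, and the dominant map over `Ω`. -/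
theorem finite_aux {k k₁ Ω : Type u} [Field k] [Field k₁] [Field Ω] [Algebra k k₁] [Algebra k₁ Ω]
    [Algebra k Ω] [IsScalarTower k k₁ Ω] [CharZero k₁] [CharZero Ω] [IsAlgClosed Ω]
    [Algebra.IsAlgebraic k₁ Ω] (hyp : Hyp.{u}) (hk₁ : (⊤ : IntermediateField ℚ k₁).FG)
    {X : Scheme.{u}} (f : X ⟶ Spec (CommRingCat.of k)) [Smooth f] [GeometricallyIntegral f] [IsProper f]
    {n : ℕ} (D : Fin n → Over (Spec (CommRingCat.of k₁))) (hD : ∀ i, GoodCurve Ω (D i)) (c : Fan D)
    (hc : IsLimit c) {Z : Scheme.{u}} (z₂ : Z ⟶ SGA7.bcField Ω c.pt.hom) [IsOpenImmersion z₂]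
    [IrreducibleSpace Z] (φ : Z ⟶ SGA7.bcField Ω f)
    (hφ : φ ≫ pullback.snd _ _ = z₂ ≫ pullback.snd _ _) (hd : DenseRange φ) :
    Finite (Dix.brInv Ω f) := by
  obtain ⟨E, hE, Y, u, ψ, Z', ζ, ρ, hu, hZ', hζ, e1, e2, e3⟩ :=
    MapDesc.exists_mapDesc (Ω := Ω) c.pt.hom f z₂ (φ ≫ pullback.fst _ _)
      (by rw [Category.assoc, pullback.condition, ← Category.assoc, hφ, Category.assoc])
  have i1 : CharZero E := charZero_of_injective_algebraMap (algebraMap k₁ E).injective
  have i2 : Algebra.IsAlgebraic E Ω := Algebra.IsAlgebraic.tower_top (K := k₁) E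
  have i3 : IsSepClosure E Ω := ⟨inferInstance, inferInstance⟩
  have hkE : (⊤ : IntermediateField ℚ E).FG := fg_of_finite hk₁
  have i5 : IsScalarTower k E Ω := IsScalarTower.of_algebraMap_eq fun x => rfl
  let D₂ := (Over.pullback (Spec.map (CommRingCat.ofHom (algebraMap k₁ E)))).obj c.pt
  have hD₂ : GoodProd Ω D₂ := goodProd_of_isLimit hyp hkE n _
    (fun i => goodCurve_bc (k₁ := E) (D i) (hD i)) _ (isLimitPullback c hc)
  have i4 : IsOpenImmersion (Y := D₂.left) u := hu
  refine BrRel.finite_of_dominated (k₂ := E) Ω f D₂ hD₂ u ψ ?_ ρ (ζ ≫ φ) ?_ ?_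
    (denseRange_comp ζ φ hd)
  · rw [e1]
    change _ = (u ≫ pullback.snd _ _) ≫ _
    rw [Category.assoc]
    congr 2
    rw [← Spec.map_comp, ← CommRingCat.ofHom_comp]
    congr 2
    refine RingHom.ext fun x => Subtype.ext ?_
    exact (IsScalarTower.algebraMap_apply k k₁ Ω x).symm
  · change ρ ≫ u ≫ pullback.snd _ _ = _
    rw [e3, Category.assoc, Category.assoc, ← Category.assoc φ, hφ]
    simp only [Category.assoc]
  · rw [Category.assoc, e2]

/-- The finiteness of `Br'(X_Ω)^G` for `X` dominated by a product of curves, over a field finitely generated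
over `ℚ`, given the finiteness statement for products. -/
theorem main (k Ω : Type u) [Field k] [CharZero k] (hk : (⊤ : IntermediateField ℚ k).FG) [Field Ω]
    [Algebra k Ω] [IsSepClosure k Ω] (hyp : Hyp.{u}) {X : Scheme.{u}}
    (f : X ⟶ Spec (CommRingCat.of k)) [Smooth f] [GeometricallyIntegral f]
    (hproj : Neron.IsProjectiveOver k (Over.mk f))
    (hdpc : ∃ (n : ℕ) (C : Fin n → Scheme.{u}) (gC : ∀ i, C i ⟶ Spec (CommRingCat.of Ω))
        (P : Scheme.{u}) (gP : P ⟶ Spec (CommRingCat.of Ω)) (π : ∀ i, P ⟶ C i) (hπ : ∀ i, π i ≫ gC i = gP),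
        (∀ i, IsIntegral (C i) ∧ IsSeparated (gC i) ∧ LocallyOfFiniteType (gC i) ∧ QuasiCompact (gC i) ∧
          topologicalKrullDim ↥(C i) = 1) ∧
        Nonempty (IsLimit (Fan.mk (f := fun i => Over.mk (gC i)) (Over.mk gP) fun i => Over.homMk (π i) (hπ i))) ∧
        ∃ (U : P.Opens) (φ : (U : Scheme.{u}) ⟶ SGA7.bcField Ω f), (U : Set ↥P).Nonempty ∧
          φ ≫ pullback.snd f (Spec.map (CommRingCat.ofHom (algebraMap k Ω))) = U.ι ≫ gP ∧
          DenseRange φ.base) :
    Finite ↥(Dix.brInv Ω f) := by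
  have i0 : IsProper f := isProper_of_proj hproj
  have i1 : CharZero Ω := charZero_of_injective_algebraMap (algebraMap k Ω).injective
  have i2 : IsSepClosed Ω := IsSepClosure.sep_closed k
  have i3 : IsAlgClosed Ω := inferInstance
  have i4 : Algebra.IsAlgebraic k Ω := inferInstance
  obtain ⟨n, C, gC, P, gP, π, hπ, hC, ⟨hP⟩, U, φ, hU, hφ, hdense⟩ := hdpc
  have hint : ∀ i, IsIntegral (C i) := fun i => (hC i).1
  have hlft : ∀ i, LocallyOfFiniteType (gC i) := fun i => (hC i).2.2.1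
  choose E hE D W a b hD hW ha hb hab using fun i =>
    exists_goodCurve k (gC i) (hC i).2.2.2.2
  let E₁ : IntermediateField k Ω := ⨆ i, E i
  have i5 : FiniteDimensional k E₁ := IntermediateField.finiteDimensional_iSup_of_finite
  choose D' b' hD' hb' hbb' using fun i =>
    exists_bc (E i) E₁ (le_iSup E i) (D i) (hD i) (b i)
  have i6 : CharZero E₁ := charZero_of_injective_algebraMap (algebraMap k E₁).injective
  have i7 : Algebra.IsAlgebraic E₁ Ω := Algebra.IsAlgebraic.tower_top (K := k) E₁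
  have i8 : IsSepClosure E₁ Ω := ⟨inferInstance, inferInstance⟩
  have hkE : (⊤ : IntermediateField ℚ E₁).FG := fg_of_finite hk
  obtain ⟨c, ⟨hc⟩, -⟩ := exists_goodProd hyp hkE n D' hD'
  let a₁ : ∀ i, Over.mk (a i ≫ gC i) ⟶ Over.mk (gC i) := fun i => Over.homMk (a i)
  let b₁ : ∀ i, Over.mk (a i ≫ gC i) ⟶
      (Over.pullback (Spec.map (CommRingCat.ofHom (algebraMap E₁ Ω)))).obj (D' i) := fun i =>
    Over.homMk (b' i) ((hbb' i).trans (hab i))
  have j1 : ∀ i, IsOpenImmersion (a₁ i).left := ha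
  have j2 : ∀ i, IsOpenImmersion (b₁ i).left := hb'
  have j3 : ∀ i, LocallyOfFiniteType (Over.mk (gC i)).hom := hlft
  have j4 : ∀ i, Nonempty (Over.mk (a i ≫ gC i)).left := hW
  have j5 : ∀ i, IrreducibleSpace (Over.mk (gC i)).left := fun i =>
    inferInstanceAs (IrreducibleSpace (C i))
  obtain ⟨Z, z₁, z₂, hz₁, hz₂, hZ, hZU, hPirr⟩ := ProdGeom.exists_roof a₁ b₁ _ hP _
    (isLimitPullback (k₁ := Ω) c hc) U hU
  have hPirr' : IrreducibleSpace P := hPirr
  let z₁' : Z.left ⟶ P := z₁.left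
  have j6 : IsOpenImmersion z₁' := hz₁
  let l : Z.left ⟶ (U : Scheme.{u}) := IsOpenImmersion.lift U.ι z₁' (by
    rw [Scheme.Opens.range_ι]
    exact hZU)
  have hl : l ≫ U.ι = z₁' := IsOpenImmersion.lift_fac _ _ _
  have j7 : IsOpenImmersion l := by
    have : IsOpenImmersion (l ≫ U.ι) := by rw [hl]; infer_instance
    exact IsOpenImmersion.of_comp l U.ι
  have j8 : Nonempty U := hU.to_subtype
  have j9 : IrreducibleSpace U := U.ι.isOpenEmbedding.irreducibleSpace
  have j10 : IrreducibleSpace Z.left := z₁'.isOpenEmbedding.irreducibleSpace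
  refine finite_aux (k₁ := E₁) hyp hkE f D' hD' c hc z₂.left (l ≫ φ) ?_ (denseRange_comp l φ hdense)
  rw [Category.assoc, hφ, ← Category.assoc, hl]
  exact (Over.w z₁).trans (Over.w z₂).symm

end K280.DomFin
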