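import Groth.Agent.Etrest.HpullAcyc

/-!
# The edge maps `Ext^n(X, G F) ⟶ Ext^n(L X, F)` in low degrees

For `L ⊣ G` with `L` exact: injective for `n = 1`; bijective for `n ≤ m` and injective for
`n = m + 1` as soon as `R^q G F = 0` for `0 < q ≤ m`.
-/

set_option autoImplicit false
universe w w' u v v' u'

open CategoryTheory CategoryTheory.Limits AlgebraicGeometry Opposite CategoryTheory.Abelian

namespace K280.EdgeLow

open Groth.Agent Groth.Agent.Etbase.ExtCompare

section Abstract

variable {B : Type u} [Category.{v} B] [Abelian B] {A : Type u'} [Category.{v'} A] [Abelian A]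
  (L : B ⥤ A) [L.Additive] [PreservesFiniteLimits L] [PreservesFiniteColimits L]
  [HasExt.{w} B] [HasExt.{w'} A]

theorem bijective_zero {G : A ⥤ B} (adj : L ⊣ G) (X : B) (F : A) :
    Function.Bijective (Etbase.ExtCompare.cmp.{w, w'} (F := F) L X (adj.counit.app F) 0) := by
  refine cmp_zero_bijective L X _ ?_
  have h1 := (adj.homEquiv X F).symm.bijective
  have h2 : ⇑(adj.homEquiv X F).symm =
    (fun g : X ⟶ G.obj F => (L.map g ≫ adj.counit.app F : L.obj X ⟶ F)) := by
    ext g
    exact adj.homEquiv_counit _ _ _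
  rwa [h2] at h1

/-- Data of a shift. -/
theorem injective_one {G : A ⥤ B} (adj : L ⊣ G) (X : B) {F I F' : A} {j : F ⟶ I} {q : I ⟶ F'}
    {w : j ≫ q = 0} (hT : (ShortComplex.mk j q w).ShortExact) [Injective I] :
    Function.Injective (Etbase.ExtCompare.cmp.{w, w'} (F := F) L X (adj.counit.app F) 1) := by
  have hadd : G.Additive := adj.right_adjoint_additive
  have hG : PreservesLimitsOfSize.{0, 0} G := adj.rightAdjoint_preservesLimits
  have : PreservesFiniteLimits G := PreservesLimitsOfSize.preservesFiniteLimits _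
  have : Mono j := hT.mono_f
  have : Mono (G.map j) := inferInstance
  have hGI : Injective (G.obj I) := Injective.injective_of_adjoint adj I
  let C := cokernel (G.map j)
  let p : G.obj I ⟶ C := cokernel.π (G.map j)
  have hS : (ShortComplex.mk (G.map j) p (cokernel.condition _)).ShortExact :=
    { exact := ShortComplex.exact_cokernel _ }
  have wG : G.map j ≫ G.map q = 0 := by rw [← G.map_comp, w, G.map_zero]
  let c : C ⟶ G.obj F' := cokernel.desc (G.map j) (G.map q) wG
  have hc : p ≫ c = G.map q := cokernel.π_desc _ _ _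
  have hexG : (ShortComplex.mk (G.map j) (G.map q) wG).Exact := by
    have h1 := hT.exact.map_of_mono_of_preservesKernel G inferInstance inferInstance
    exact h1
  have hcm : Mono c := (ShortComplex.exact_iff_mono_cokernel_desc _).1 hexG
  rw [injective_iff_map_eq_zero]
  intro x hx
  obtain ⟨y', hy'⟩ := Ext.covariant_sequence_exact₁ X hS x (n₀ := 0)
    (Ext.eq_zero_of_injective _) rfl
  obtain ⟨y, rfl⟩ := (Ext.mk₀_bijective _ _).2 y'
  let e' : L.obj C ⟶ F' := L.map c ≫ adj.counit.app F'
  have h1 : L.map (G.map j) ≫ adj.counit.app I = adj.counit.app F ≫ j := adj.counit_naturality j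
  have h2 : L.map p ≫ e' = adj.counit.app I ≫ q := by
    rw [← Category.assoc, ← L.map_comp, hc]
    exact adj.counit_naturality q
  rw [← hy', cmp_extClass L X hS hT _ (adj.counit.app I) e' h1 h2 0, cmp_apply,
    Ext.mapExactFunctor_mk₀, Ext.mk₀_comp_mk₀] at hx
  obtain ⟨z', hz'⟩ := Ext.covariant_sequence_exact₃ (L.obj X) hT _ rfl hx
  obtain ⟨z, rfl⟩ := (Ext.mk₀_bijective _ _).2 z'
  rw [Ext.mk₀_comp_mk₀] at hz'
  have hz : z ≫ q = L.map y ≫ e' := (Ext.mk₀_bijective _ _).1 hz'
  let z₁ : X ⟶ G.obj I := adj.homEquiv _ _ z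
  have hz₁ : z₁ ≫ p = y := by
    rw [← cancel_mono c, Category.assoc, hc]
    have h3 : adj.homEquiv X F' (z ≫ q) = z₁ ≫ G.map q := adj.homEquiv_naturality_right _ _
    rw [← h3, hz]
    have h4 : L.map y ≫ e' = (adj.homEquiv X F').symm (y ≫ c) := by
      rw [adj.homEquiv_counit, L.map_comp, Category.assoc]
    rw [h4, Equiv.apply_symm_apply]
  rw [← hy', ← hz₁, ← Ext.mk₀_comp_mk₀, Ext.comp_assoc_of_second_deg_zero]
  have h5 : (Ext.mk₀ p).comp hS.extClass (zero_add 1) = 0 :=
    ShortComplex.ShortExact.comp_extClass hS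
  have : ((Ext.mk₀ z₁).comp ((Ext.mk₀ p).comp hS.extClass (zero_add 1)) (zero_add 1)) = 0 := by
    rw [h5, Ext.comp_zero]
  exact this

/-- Shift: if `G I ⟶ G F'` is epi then the edge map of `F` in degree `n + 1` inherits injectivity
(for `n ≥ 1`) and bijectivity from the one of `F'` in degree `n`. -/
theorem shift {G : A ⥤ B} (adj : L ⊣ G) (X : B) {F I F' : A} {j : F ⟶ I} {q : I ⟶ F'}
    {w : j ≫ q = 0} (hT : (ShortComplex.mk j q w).ShortExact) [Injective I] (hep : Epi (G.map q))
    (n : ℕ) :
    (Function.Injective (Etbase.ExtCompare.cmp.{w, w'} (F := F') L X (adj.counit.app F') n) →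
      Function.Injective (Etbase.ExtCompare.cmp.{w, w'} (F := F) L X (adj.counit.app F) (n + 1))) ∧
    (Function.Surjective (Etbase.ExtCompare.cmp.{w, w'} (F := F') L X (adj.counit.app F') n) →
      Function.Surjective
        (Etbase.ExtCompare.cmp.{w, w'} (F := F) L X (adj.counit.app F) (n + 1))) := by
  have hadd : G.Additive := adj.right_adjoint_additive
  have hG : PreservesLimitsOfSize.{0, 0} G := adj.rightAdjoint_preservesLimits
  have : PreservesFiniteLimits G := PreservesLimitsOfSize.preservesFiniteLimits _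
  have hGI : Injective (G.obj I) := Injective.injective_of_adjoint adj I
  have : Mono j := hT.mono_f
  have wG : G.map j ≫ G.map q = 0 := by rw [← G.map_comp, w, G.map_zero]
  have hex : (ShortComplex.mk (G.map j) (G.map q) wG).Exact :=
    hT.exact.map_of_mono_of_preservesKernel G (by exact hT.mono_f) inferInstance
  have hS : (ShortComplex.mk (G.map j) (G.map q) wG).ShortExact :=
    { exact := hex
      mono_f := by dsimp; infer_instance
      epi_g := by dsimp; infer_instance }
  have h1 : L.map (G.map j) ≫ adj.counit.app I = adj.counit.app F ≫ j := adj.counit_naturality j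
  have h2 : L.map (G.map q) ≫ adj.counit.app F' = adj.counit.app I ≫ q := adj.counit_naturality q
  have hcomm : ∀ x : Ext X (G.obj F') n,
      Etbase.ExtCompare.cmp L X (adj.counit.app F) (n + 1) (x.comp hS.extClass rfl) =
      (Etbase.ExtCompare.cmp L X (adj.counit.app F') n x).comp hT.extClass rfl :=
    fun x => cmp_extClass L X hS hT _ (adj.counit.app I) _ h1 h2 n x
  have hsI : Function.Surjective (Etbase.ExtCompare.cmp.{w, w'} L X (adj.counit.app I) n) := by
    cases n with
    | zero => exact (bijective_zero L adj X I).2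
    | succ m => exact fun y => ⟨0, by rw [map_zero, Ext.eq_zero_of_injective y]⟩
  constructor
  · intro hinj
    rw [injective_iff_map_eq_zero]
    intro x hx
    obtain ⟨y, rfl⟩ := Ext.covariant_sequence_exact₁ X hS x (Ext.eq_zero_of_injective _) rfl
    rw [hcomm] at hx
    obtain ⟨z, hz⟩ := Ext.covariant_sequence_exact₃ (L.obj X) hT _ rfl hx
    obtain ⟨z', rfl⟩ := hsI z
    have h3 := cmp_naturality L X (adj.counit.app I) (adj.counit.app F') (G.map q) q h2 n z'
    have h4 : z'.comp (Ext.mk₀ (G.map q)) (add_zero n) = y := by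
      apply hinj
      rw [h3]; exact hz
    rw [← h4]
    have h5 : (Ext.mk₀ (G.map q)).comp hS.extClass (zero_add 1) = 0 :=
      ShortComplex.ShortExact.comp_extClass hS
    have h6 := Ext.comp_assoc z' (Ext.mk₀ (G.map q)) hS.extClass (add_zero n) (zero_add 1)
      (show n + 0 + 1 = n + 1 by rw [add_zero])
    rw [h5, Ext.comp_zero] at h6
    exact h6
  · intro hsurj y
    obtain ⟨z, rfl⟩ := Ext.covariant_sequence_exact₁ (L.obj X) hT y (Ext.eq_zero_of_injective _) rfl
    obtain ⟨z', rfl⟩ := hsurj z
    exact ⟨z'.comp hS.extClass rfl, hcomm z'⟩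

end Abstract

section Derived

variable {B : Type u} [Category.{v} B] [Abelian B] {A : Type u'} [Category.{v'} A] [Abelian A]
  [HasInjectiveResolutions A]
  (L : B ⥤ A) [L.Additive] [PreservesFiniteLimits L] [PreservesFiniteColimits L]
  [HasExt.{w} B] [HasExt.{w'} A]

/-- Edge maps in low degrees. -/
theorem low {G : A ⥤ B} [G.Additive] (adj : L ⊣ G) (X : B) (n : ℕ) : ∀ (F : A)
    (_ : ∀ q : ℕ, 0 < q → q ≤ n → IsZero ((G.rightDerived q).obj F)),
    Function.Bijective (Etbase.ExtCompare.cmp.{w, w'} (F := F) L X (adj.counit.app F) n) ∧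
    Function.Injective (Etbase.ExtCompare.cmp.{w, w'} (F := F) L X (adj.counit.app F) (n + 1)) := by
  have hG : PreservesLimitsOfSize.{0, 0} G := adj.rightAdjoint_preservesLimits
  have : PreservesFiniteLimits G := PreservesLimitsOfSize.preservesFiniteLimits _
  induction n with
  | zero =>
    intro F _
    obtain ⟨S, hS, rfl, hI⟩ := Cohder.RDAcyc.exists_embedding F
    exact ⟨bijective_zero L adj X _, injective_one L adj X (w := S.zero) hS⟩
  | succ n ih =>
    intro F hF
    obtain ⟨S, hS, rfl, hI⟩ := Cohder.RDAcyc.exists_embedding F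
    have hep : Epi (G.map S.g) := (Cohder.RDAcyc.map_shortExact G hS (hF 1 one_pos (by lia))).epi_g
    have h3 := ih S.X₃ (fun q hq hqn => Cohder.RDAcyc.isZero_X₃ G hS q
      (Cohder.RDAcyc.isAcyc_injective G S.X₂ q hq) (hF (q + 1) (by lia) (by lia)))
    have h4 := shift.{w, w'} L adj X (w := S.zero) hS hep n
    have h5 := shift.{w, w'} L adj X (w := S.zero) hS hep (n + 1)
    exact ⟨⟨h4.1 h3.1.1, h4.2 h3.1.2⟩, h5.1 h3.2⟩

end Derived

end K280.EdgeLow
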