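import Mathlib.RingTheory.Unramified.Field
import Mathlib.RingTheory.Unramified.Finite
import Mathlib.RingTheory.PowerBasis
import Mathlib.RingTheory.Flat.Basic
import Mathlib.FieldTheory.Perfect
import Mathlib.FieldTheory.IsAlgClosed.AlgebraicClosure
import Mathlib.RingTheory.AdjoinRoot

/-!
# Commutative subalgebras generated by separable elements

* `isSeparable_of_sq`: a criterion for an element of a (non-commutative) algebra to be separable.
* `isSeparable_of_unramified`: elements of finite unramified algebras over a field are separable.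
* `unramified_of_gens`: an algebra generated by separable elements is unramified.
* `isSeparable_adjoin`: in a finite-dimensional algebra, the subalgebra generated by pairwise commuting separable
  elements consists of separable elements.
* `rootEquiv`: `AdjoinRoot (minpoly k x) ≃ₐ[k] k[x]`.
-/

set_option autoImplicit false
set_option linter.deprecated false
universe u v w
open scoped TensorProduct
open Polynomial

namespace K280.EtaleSub

section general

variable {k : Type u} [Field k] {A : Type v} [Ring A] [Algebra k A]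

theorem isSeparable_of_aeval {x : A} {p : k[X]} (hp : p.Separable) (hx : aeval x p = 0) :
    IsSeparable k x := hp.of_dvd (minpoly.dvd k x hx)

/-- An element `x` of an algebra over the field `k` is separable if no polynomial expression of `1 ⊗ x` is
nonzero of square zero. -/
theorem isSeparable_of_sq (K : Type w) [Field K] [Algebra k K] [PerfectField K] {x : A} (hx : IsIntegral k x)
    (h : ∀ p : K[X], aeval ((1 : K) ⊗ₜ[k] x) p * aeval ((1 : K) ⊗ₜ[k] x) p = 0 →
      aeval ((1 : K) ⊗ₜ[k] x) p = 0) : IsSeparable k x := by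
  by_contra hns
  set f := minpoly k x with hf
  set F := f.map (algebraMap k K) with hF
  have hf0 : f ≠ 0 := minpoly.ne_zero hx
  have hF0 : F ≠ 0 := Polynomial.map_ne_zero hf0
  have h1 : ¬ Squarefree F := by
    rw [← PerfectField.separable_iff_squarefree, hF, separable_map]
    exact hns
  rw [Squarefree] at h1
  push Not at h1
  obtain ⟨q, ⟨g, hg⟩, hq⟩ := h1
  have hq0 : q ≠ 0 := by
    rintro rfl
    apply hF0
    rw [hg]; ring
  have hg0 : g ≠ 0 := by
    rintro rfl
    apply hF0
    rw [hg]; ring
  have hqd : 0 < q.natDegree := by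
    rw [Nat.pos_iff_ne_zero]
    intro h0
    apply hq
    rw [Polynomial.natDegree_eq_zero] at h0
    obtain ⟨c, rfl⟩ := h0
    rw [Polynomial.isUnit_C]
    refine isUnit_iff_ne_zero.2 ?_
    rintro rfl
    simp at hq0
  set y : K ⊗[k] A := (1 : K) ⊗ₜ[k] x with hy
  have hyF : aeval y F = 0 := by
    rw [hF, aeval_map_algebraMap]
    have : y = Algebra.TensorProduct.includeRight (R := k) (A := K) (B := A) x := rfl
    rw [this, aeval_algHom_apply, hf, minpoly.aeval, map_zero]
  have h2 : aeval y (q * g) * aeval y (q * g) = 0 := by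
    rw [← map_mul]
    have : q * g * (q * g) = F * g := by rw [hg]; ring
    rw [this, map_mul, hyF, zero_mul]
  have h3 := h _ h2
  have hdeg : (q * g).natDegree < f.natDegree := by
    have h4 : f.natDegree = F.natDegree := by rw [hF, natDegree_map]
    rw [h4, hg, mul_assoc, natDegree_mul hq0 (mul_ne_zero hq0 hg0)]
    omega
  have hli : LinearIndependent K fun i : Fin f.natDegree => y ^ (i : ℕ) := by
    have h5 := Module.Flat.linearIndependent_one_tmul (S := K) (linearIndependent_pow (K := k) x)
    have h6 : (fun i : Fin f.natDegree => y ^ (i : ℕ)) =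
        fun i : Fin f.natDegree => (1 : K) ⊗ₜ[k] (x ^ (i : ℕ)) := by
      ext i
      rw [hy, Algebra.TensorProduct.tmul_pow, one_pow]
    rw [h6]
    exact h5
  rw [aeval_eq_sum_range' hdeg, ← Fin.sum_univ_eq_sum_range
    (fun i => (q * g).coeff i • y ^ i)] at h3
  have h7 := Fintype.linearIndependent_iff.1 hli (fun i => (q * g).coeff i) h3
  apply mul_ne_zero hq0 hg0
  ext i
  rw [coeff_zero]
  by_cases hi : i < f.natDegree
  · exact h7 ⟨i, hi⟩
  · exact coeff_eq_zero_of_natDegree_lt (by omega)

end general

section comm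

variable {k : Type u} [Field k] {B : Type v} [CommRing B] [Algebra k B]

theorem isSeparable_of_unramified [Module.Finite k B] [Algebra.FormallyUnramified k B] (b : B) :
    IsSeparable k b := by
  refine isSeparable_of_sq (AlgebraicClosure k) (Algebra.IsIntegral.isIntegral b) fun p hp => ?_
  have : IsReduced (AlgebraicClosure k ⊗[k] B) :=
    Algebra.FormallyUnramified.isReduced_of_field (AlgebraicClosure k) (AlgebraicClosure k ⊗[k] B)
  exact (show IsNilpotent _ from ⟨2, by rw [pow_two]; exact hp⟩).eq_zero

theorem unramified_of_gens (s : Set B) (hs : ∀ x ∈ s, IsSeparable k x) (h : Algebra.adjoin k s = ⊤) :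
    Algebra.FormallyUnramified k B := by
  rw [Algebra.FormallyUnramified.iff_comp_injective]
  intro C _ _ I hI f₁ f₂ e
  have key : ∀ x ∈ s, f₁ x = f₂ x := by
    intro x hx
    have h1 : f₁ x - f₂ x ∈ I := by
      simpa [Ideal.Quotient.mk_eq_mk_iff_sub_mem] using AlgHom.congr_fun e x
    have h2 := Polynomial.eval_add_of_sq_eq_zero ((minpoly k x).map (algebraMap k C)) (f₂ x)
      (f₁ x - f₂ x) (show (f₁ x - f₂ x) ^ 2 ∈ ⊥ from hI ▸ Ideal.pow_mem_pow h1 2)
    simp only [add_sub_cancel, eval_map_algebraMap, aeval_algHom_apply, minpoly.aeval, map_zero,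
      derivative_map, zero_add] at h2
    have h3 : IsUnit (aeval x (derivative (minpoly k x))) := by
      obtain ⟨a, b, hab⟩ := hs x hx
      have h4 := congrArg (aeval x) hab
      rw [map_add, map_mul, map_mul, minpoly.aeval, mul_zero, zero_add, map_one] at h4
      exact IsUnit.of_mul_eq_one_right _ h4
    rwa [eq_comm, (h3.map f₂).mul_right_eq_zero, sub_eq_zero] at h2
  have h4 : (⊤ : Subalgebra k B) ≤ AlgHom.equalizer f₁ f₂ := by
    rw [← h]
    exact Algebra.adjoin_le fun x hx => key x hx
  exact AlgHom.ext fun x => h4 (Algebra.mem_top)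

end comm

section sub

variable {k : Type u} [Field k] {A : Type v} [Ring A] [Algebra k A]

theorem isSeparable_adjoin [FiniteDimensional k A] (s : Set A) (hcomm : ∀ a ∈ s, ∀ b ∈ s, a * b = b * a)
    (hs : ∀ x ∈ s, IsSeparable k x) : Algebra.IsSeparable k (Algebra.adjoin k s) := by
  let _ : CommRing (Algebra.adjoin k s) := Algebra.adjoinCommRingOfComm k hcomm
  have : Algebra.FormallyUnramified k (Algebra.adjoin k s) := by
    refine unramified_of_gens (((↑) : Algebra.adjoin k s → A) ⁻¹' s) (fun x hx => ?_)
      Algebra.adjoin_adjoin_coe_preimage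
    have h1 := hs x.1 hx
    exact (isSeparable_map_iff (Algebra.adjoin k s).val Subtype.val_injective).1 h1
  exact ⟨fun x => isSeparable_of_unramified x⟩

theorem adjoin_comm {s : Set A} (hcomm : ∀ a ∈ s, ∀ b ∈ s, a * b = b * a) :
    ∀ x ∈ Algebra.adjoin k s, ∀ y ∈ Algebra.adjoin k s, x * y = y * x := by
  intro x hx y hy
  let _ : CommRing (Algebra.adjoin k s) := Algebra.adjoinCommRingOfComm k hcomm
  exact congrArg Subtype.val (mul_comm (⟨x, hx⟩ : Algebra.adjoin k s) ⟨y, hy⟩)

/-- `k[X]/(minpoly x) → A`. -/
noncomputable def rootHom (x : A) : AdjoinRoot (minpoly k x) →ₐ[k] A :=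
  Ideal.Quotient.liftₐ (R₁ := k) (Ideal.span {minpoly k x}) (Polynomial.aeval x) (by
    intro a ha
    obtain ⟨b, rfl⟩ := Ideal.mem_span_singleton'.mp ha
    simp)

theorem rootHom_mk (x : A) (p : k[X]) : rootHom (k := k) x (AdjoinRoot.mk (minpoly k x) p) = aeval x p := rfl

theorem rootHom_injective (x : A) : Function.Injective (rootHom (k := k) x) := by
  rw [injective_iff_map_eq_zero]
  intro a ha
  obtain ⟨p, rfl⟩ := AdjoinRoot.mk_surjective a
  rw [rootHom_mk] at ha
  exact AdjoinRoot.mk_eq_zero.2 (minpoly.dvd k x ha)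

theorem rootHom_range (x : A) : (rootHom (k := k) x).range = Algebra.adjoin k {x} := by
  rw [Algebra.adjoin_singleton_eq_range_aeval]
  ext y
  constructor
  · rintro ⟨a, rfl⟩
    obtain ⟨p, rfl⟩ := AdjoinRoot.mk_surjective a
    exact ⟨p, rfl⟩
  · rintro ⟨p, rfl⟩
    exact ⟨AdjoinRoot.mk _ p, rfl⟩

/-- `k[X]/(minpoly x) ≃ k[x]`. -/
noncomputable def rootEquiv (x : A) : AdjoinRoot (minpoly k x) ≃ₐ[k] Algebra.adjoin k ({x} : Set A) :=
  (AlgEquiv.ofInjective _ (rootHom_injective x)).trans (Subalgebra.equivOfEq _ _ (rootHom_range x))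

theorem finrank_adjoin_singleton {x : A} (hx : IsIntegral k x) :
    Module.finrank k (Algebra.adjoin k ({x} : Set A)) = (minpoly k x).natDegree := by
  rw [← (rootEquiv x).toLinearEquiv.finrank_eq, (AdjoinRoot.powerBasis (minpoly.ne_zero hx)).finrank,
    AdjoinRoot.powerBasis_dim]

theorem isSeparable_adjoin_singleton_iff [FiniteDimensional k A] {x : A} :
    Algebra.IsSeparable k (Algebra.adjoin k ({x} : Set A)) ↔ IsSeparable k x := by
  constructor
  · intro h
    exact Subalgebra.isSeparable_iff.1 h x (Algebra.self_mem_adjoin_singleton k x)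
  · intro h
    refine isSeparable_adjoin _ (fun a ha b hb => ?_) (fun a ha => ?_)
    · rw [Set.mem_singleton_iff.1 ha, Set.mem_singleton_iff.1 hb]
    · rw [Set.mem_singleton_iff.1 ha]
      exact h

end sub

end K280.EtaleSub
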