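import Groth.Agent.Fdesc.IntegralFib
import Mathlib.AlgebraicGeometry.Geometrically.Integral
import Mathlib.CategoryTheory.Limits.Constructions.Over.Products
import Mathlib.CategoryTheory.Limits.Constructions.FiniteProductsOfBinaryProducts

/-!
# Finite products over a base and open immersions; irreducibility of products over a closed field
-/

set_option autoImplicit false
universe u
open CategoryTheory CategoryTheory.Limits AlgebraicGeometry

namespace K280.FanOpen

section Open

variable {S : Scheme.{u}} {n : ℕ} {F G : Fin n → Over S} (τ : ∀ i, F i ⟶ G i)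
  [∀ i, IsOpenImmersion (τ i).left] (d : Fan G) (hd : IsLimit d)

/-- The open of a product defined by opens of the factors. -/
noncomputable def opn : d.pt.left.Opens :=
  ⟨⋂ i, (d.proj i).left ⁻¹' Set.range (τ i).left, isOpen_iInter_of_finite fun i =>
    (τ i).left.isOpenEmbedding.isOpen_range.preimage (d.proj i).left.continuous⟩

theorem mem_opn (x : d.pt.left) : x ∈ opn τ d ↔ ∀ i, (d.proj i).left x ∈ Set.range (τ i).left := by
  exact Set.mem_iInter

theorem lift_cond (i : Fin n) : Set.range ((opn τ d).ι ≫ (d.proj i).left) ⊆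
    Set.range (τ i).left := by
  rintro _ ⟨x, rfl⟩
  rw [Scheme.Hom.comp_apply]
  exact (mem_opn τ d _).1 x.2 i

/-- The open as a scheme over `S`. -/
noncomputable abbrev opnOver : Over S := Over.mk ((opn τ d).ι ≫ d.pt.hom)

/-- The projections from the open. -/
noncomputable def pr (i : Fin n) : opnOver τ d ⟶ F i :=
  Over.homMk (IsOpenImmersion.lift (τ i).left ((opn τ d).ι ≫ (d.proj i).left) (lift_cond τ d i)) (by
    have h1 : (F i).hom = (τ i).left ≫ (G i).hom := (Over.w (τ i)).symm
    rw [h1, ← Category.assoc, IsOpenImmersion.lift_fac, Category.assoc, Over.w (d.proj i)]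
    rfl)

/-- The inclusion of the open. -/
noncomputable def inc : opnOver τ d ⟶ d.pt := Over.homMk (opn τ d).ι rfl

theorem inc_proj (i : Fin n) : inc τ d ≫ d.proj i = pr τ d i ≫ τ i := by
  ext1
  exact (IsOpenImmersion.lift_fac (τ i).left _ (lift_cond τ d i)).symm

instance mono_τ (i : Fin n) : Mono (τ i) := Over.mono_of_mono_left _

instance : Mono (inc τ d) :=
  have : Mono (inc τ d).left := inferInstanceAs (Mono (opn τ d).ι)
  Over.mono_of_mono_left _

include hd in
/-- The open is the product of the `F i`. -/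
theorem nonempty_isLimit : Nonempty (IsLimit (Fan.mk (opnOver τ d) (pr τ d))) := by
  have key : ∀ s : Fan F, ∃ m : s.pt ⟶ opnOver τ d, ∀ i, m ≫ pr τ d i = s.proj i := by
    intro s
    let M : s.pt ⟶ d.pt := Fan.IsLimit.lift hd (fun i => s.proj i ≫ τ i)
    have hM : ∀ i, M ≫ d.proj i = s.proj i ≫ τ i := fun i => Fan.IsLimit.fac hd _ i
    have hr : Set.range M.left ⊆ Set.range (opn τ d).ι := by
      rintro _ ⟨x, rfl⟩
      rw [Scheme.Opens.range_ι]
      refine (mem_opn τ d _).2 fun i => ?_
      have h1 := congrArg (fun t => t.left x) (hM i)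
      exact ⟨(s.proj i).left x, h1.symm⟩
    refine ⟨Over.homMk (IsOpenImmersion.lift (opn τ d).ι M.left hr) ?_, fun i => ?_⟩
    · change IsOpenImmersion.lift (opn τ d).ι M.left hr ≫ (opn τ d).ι ≫ d.pt.hom = _
      rw [← Category.assoc, IsOpenImmersion.lift_fac]
      exact Over.w M
    · rw [← cancel_mono (τ i), Category.assoc, ← inc_proj, ← hM i, ← Category.assoc]
      congr 1
      ext1
      exact IsOpenImmersion.lift_fac _ _ _
  choose m hm using key
  refine ⟨Fan.IsLimit.mk _ m (fun s i => hm s i) fun s l hl => ?_⟩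
  rw [← cancel_mono (inc τ d)]
  refine Fan.IsLimit.hom_ext hd _ _ fun i => ?_
  rw [Category.assoc, inc_proj, Category.assoc, inc_proj, ← Category.assoc, ← Category.assoc, hm s i]
  congr 1
  exact hl i

include hd in
/-- A product of open immersions is an open immersion. -/
theorem isOpenImmersion_of_isLimit (c : Fan F) (hc : IsLimit c) (m : c.pt ⟶ d.pt)
    (hm : ∀ i, m ≫ d.proj i = c.proj i ≫ τ i) : IsOpenImmersion m.left := by
  obtain ⟨h⟩ := nonempty_isLimit τ d hd
  let e := hc.conePointUniqueUpToIso h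
  have he : m = e.hom ≫ inc τ d := by
    refine Fan.IsLimit.hom_ext hd _ _ fun i => ?_
    rw [hm, Category.assoc, inc_proj, ← Category.assoc]
    congr 1
    exact (hc.conePointUniqueUpToIso_hom_comp h ⟨i⟩).symm
  have h1 : IsIso e.hom.left := inferInstanceAs (IsIso ((Over.forget _).map e.hom))
  rw [he]
  change IsOpenImmersion (e.hom.left ≫ (opn τ d).ι)
  infer_instance

end Open

section Irr

variable {Ω : Type u} [Field Ω]

theorem geomIrr_id : GeometricallyIrreducible (𝟙 (Spec (CommRingCat.of Ω))) := by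
  rw [geometricallyIrreducible_iff]
  intro K _ y W fst snd hp
  have h1 : IsIso snd := MorphismProperty.of_isPullback
    (P := MorphismProperty.isomorphisms Scheme.{u}) hp (MorphismProperty.isomorphisms.infer_property _)
  have h2 : IrreducibleSpace (Spec (CommRingCat.of K)) := inferInstance
  exact snd.homeomorph.irreducibleSpace_iff.2 h2

/-- Products of geometrically irreducible schemes are geometrically irreducible. -/
theorem exists_geomIrr : ∀ (n : ℕ) (D : Fin n → Over (Spec (CommRingCat.of Ω))),
    (∀ i, GeometricallyIrreducible (D i).hom ∧ UniversallyOpen (D i).hom) →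
    ∃ (c : Fan D), Nonempty (IsLimit c) ∧ GeometricallyIrreducible c.pt.hom ∧ UniversallyOpen c.pt.hom
  | 0, D, _ => by
    refine ⟨Fan.mk (Over.mk (𝟙 (Spec (CommRingCat.of Ω)))) (fun i => i.elim0), ⟨?_⟩, geomIrr_id,
      inferInstanceAs (UniversallyOpen (𝟙 _))⟩
    exact Fan.IsLimit.mk _ (fun s => Over.mkIdTerminal.from s.pt) (fun s i => i.elim0)
      (fun s m _ => Over.mkIdTerminal.hom_ext _ _)
  | n + 1, D, hD => by
    obtain ⟨c, ⟨hc⟩, hg, hu⟩ := exists_geomIrr n (fun i => D i.succ) (fun i => hD i.succ)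
    obtain ⟨hg0, hu0⟩ := hD 0
    have t₂ := (pullback.isLimit (D 0).hom c.pt.hom).pullbackConeEquivBinaryFanFunctor
    exact ⟨_, ⟨extendFanIsLimit D hc t₂⟩,
      GeometricallyIrreducible.comp (pullback.fst (D 0).hom c.pt.hom) (D 0).hom,
      inferInstanceAs (UniversallyOpen (pullback.fst (D 0).hom c.pt.hom ≫ (D 0).hom))⟩

theorem irreducibleSpace_of_isLimit (n : ℕ) (D : Fin n → Over (Spec (CommRingCat.of Ω)))
    (hD : ∀ i, GeometricallyIrreducible (D i).hom ∧ UniversallyOpen (D i).hom) (c : Fan D)
    (hc : IsLimit c) : IrreducibleSpace c.pt.left := by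
  obtain ⟨c', ⟨hc'⟩, hg, hu⟩ := exists_geomIrr n D hD
  let e := hc.conePointUniqueUpToIso hc'
  have h1 : IsIso e.hom.left := inferInstanceAs (IsIso ((Over.forget _).map e.hom))
  have h2 : IrreducibleSpace c'.pt.left :=
    GeometricallyIrreducible.irreducibleSpace_of_subsingleton c'.pt.hom
  exact e.hom.left.homeomorph.irreducibleSpace_iff.2 h2

theorem geomIrr_of_irreducible [IsAlgClosed Ω] {X : Scheme.{u}} (f : X ⟶ Spec (CommRingCat.of Ω))
    [IrreducibleSpace X] : GeometricallyIrreducible f := by
  have h1 : IrreducibleSpace ↑(pullback f (𝟙 (Spec (CommRingCat.of Ω)))) :=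
    (pullback.fst f (𝟙 (Spec (CommRingCat.of Ω)))).homeomorph.irreducibleSpace_iff.2 inferInstance
  exact Groth.Agent.Fdesc.IntegralFib.geometricallyIrreducible_of_irreducibleSpace_pullback f (𝟙 _)

end Irr

end K280.FanOpen
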