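import Groth.Agent.S0497
import Groth.Agent.Hensel.FiniteEtaleLift
import Mathlib.RingTheory.Henselian
import Mathlib.RingTheory.IntegralClosure.IsIntegral.Basic

/-!
# Lifting idempotents of non-commutative finite algebras over henselian local rings
-/

set_option autoImplicit false
universe u v w
open Polynomial IsLocalRing

namespace K280.HenselIdem

theorem aeval_idem {k : Type u} [CommRing k] {D : Type v} [Ring D] [Algebra k D] {e : D} (he : e * e = e)
    (q : k[X]) : aeval e q = q.eval 0 • (1 - e) + q.eval 1 • e := by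
  have hpow : ∀ n : ℕ, e ^ (n + 1) = e := by
    intro n
    induction n with
    | zero => simp
    | succ n ih => rw [pow_succ, ih, he]
  induction q using Polynomial.induction_on' with
  | add p q hp hq => rw [map_add, hp, hq, eval_add, eval_add, add_smul, add_smul]; abel
  | monomial n a =>
    rw [aeval_monomial]
    cases n with
    | zero => simp [Algebra.algebraMap_eq_smul_one, ← smul_add]
    | succ n => simp [hpow, Algebra.smul_def]

/-- Idempotents in the image of a finite algebra over a henselian local ring lift. -/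
theorem exists_lift {R : Type u} [CommRing R] [HenselianLocalRing R] {D : Type v} [Ring D] [Algebra R D]
    [Module.Finite R D] {D₀ : Type w} [Ring D₀] [Algebra R D₀] [Algebra (ResidueField R) D₀]
    [IsScalarTower R (ResidueField R) D₀] (ρ : D →ₐ[R] D₀) (d : D) (hd : ρ d * ρ d = ρ d) :
    ∃ e : D, e * e = e ∧ ρ e = ρ d := by
  obtain ⟨f, hf, hfd⟩ : IsIntegral R d := IsIntegral.of_finite R d
  set F : R[X] := f * (X * (X - C 1)) with hF
  have hFm : F.Monic := hf.mul (monic_X.mul (monic_X_sub_C 1))
  have hFd : aeval d F = 0 := by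
    rw [hF, map_mul]
    have : aeval d f = 0 := hfd
    rw [this, zero_mul]
  set F₀ := F.map (residue R) with hF₀
  have hF₀0 : F₀ ≠ 0 := (hFm.map _).ne_zero
  obtain ⟨h₀, hh₀, hnd⟩ := Polynomial.exists_eq_pow_rootMultiplicity_mul_and_not_dvd F₀ hF₀0 1
  set b := F₀.rootMultiplicity 1 with hb
  have hb1 : 0 < b := by
    rw [hb, rootMultiplicity_pos hF₀0, IsRoot.def, hF₀, hF]
    simp
  have hcop : IsCoprime ((X - C 1) ^ b) h₀ := by
    apply IsCoprime.pow_left
    rw [(irreducible_X_sub_C (1 : ResidueField R)).coprime_iff_not_dvd]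
    exact hnd
  obtain ⟨g, h, hgh, hgm, hg, hh⟩ := Groth.Agent.S0497.result R F ((X - C 1) ^ b) h₀
    ((monic_X_sub_C 1).pow b) hcop hh₀
  have hc2 : IsCoprime g h := Groth.Agent.Hensel.FiniteEtaleLift.isCoprime_of_isCoprime_residue g h hgm
    (by rw [hg, hh]; exact hcop)
  obtain ⟨a, c, hac⟩ := hc2
  refine ⟨aeval d (c * h), ?_, ?_⟩
  · rw [← map_mul, ← sub_eq_zero, ← map_sub]
    have : c * h * (c * h) - c * h = - (a * c) * F := by
      have h1 : c * h - 1 = - (a * g) := by rw [← hac]; ring
      calc c * h * (c * h) - c * h = c * h * (c * h - 1) := by ring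
        _ = - (a * c) * F := by rw [h1, hgh]; ring
    rw [this, map_mul, hFd, mul_zero]
  · have h1 : ρ (aeval d (c * h)) = aeval (ρ d) ((c * h).map (residue R)) := by
      have h2 : (c * h).map (residue R) = (c * h).map (algebraMap R (ResidueField R)) := rfl
      rw [h2, aeval_map_algebraMap, aeval_algHom_apply]
    rw [h1, aeval_idem hd]
    have e0 : h₀.eval 0 = 0 := by
      have h3 : F₀.eval 0 = 0 := by rw [hF₀, hF]; simp
      rw [hh₀, eval_mul, eval_pow] at h3
      rcases mul_eq_zero.1 h3 with h4 | h4
      · exfalso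
        have h5 := (pow_eq_zero_iff hb1.ne').1 h4
        simp at h5
      · exact h4
    have e1 : ((c * h).map (residue R)).eval 0 = 0 := by
      rw [Polynomial.map_mul, hh, eval_mul, e0, mul_zero]
    have e2 : ((c * h).map (residue R)).eval 1 = 1 := by
      have h6 := congrArg (fun p => (p.map (residue R)).eval 1) hac
      simp only [Polynomial.map_add, Polynomial.map_mul, hg, eval_add, eval_mul, eval_pow, eval_sub, eval_X,
        eval_C, sub_self, zero_pow hb1.ne', mul_zero, zero_add, Polynomial.map_one, eval_one] at h6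
      rw [Polynomial.map_mul, eval_mul]
      exact h6
    rw [e1, e2, zero_smul, zero_add, one_smul]

end K280.HenselIdem
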