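import Mathlib.LinearAlgebra.TensorProduct.Basic
import Mathlib.LinearAlgebra.TensorProduct.Tower
import Mathlib.RingTheory.Ideal.Operations
import Mathlib.Algebra.Module.Submodule.Bilinear

/-!
# Lifting associative multiplications along square-zero ideals

`μ : M →ₗ M →ₗ M` is associative modulo `J • M`, with `J ^ 2 = 0`; a separability idempotent
modulo `J` produces an explicit correction making `μ` associative (the Hochschild 3-cocycle of
the associator is a coboundary).  Then the unit is corrected explicitly.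
-/

set_option autoImplicit false

universe u v w

open TensorProduct

namespace K280.HochLift

variable {T : Type u} [CommRing T] {J : Ideal T}

/-- A linear map with values in `J • ⊤` kills `J • ⊤` when `J ^ 2 = 0`. -/
theorem kill {P : Type v} {Q : Type w} [AddCommGroup P] [Module T P] [AddCommGroup Q] [Module T Q]
    (hJ : J ^ 2 = ⊥) (φ : P →ₗ[T] Q) (h : ∀ p, φ p ∈ J • (⊤ : Submodule T Q)) {z : P}
    (hz : z ∈ J • (⊤ : Submodule T P)) : φ z = 0 := by
  have h0 : ∀ r ∈ J, ∀ q ∈ J • (⊤ : Submodule T Q), r • q = 0 := by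
    intro r hr q hq
    have h1 : r • q ∈ J • (J • (⊤ : Submodule T Q)) := Submodule.smul_mem_smul hr hq
    rw [← Submodule.mul_smul, ← pow_two, hJ, Submodule.bot_smul] at h1
    exact h1
  induction hz using Submodule.smul_induction_on' with
  | smul r hr n hn => rw [map_smul]; exact h0 r hr _ (h n)
  | add x hx y hy h1 h2 => rw [map_add, h1, h2, add_zero]

theorem map_mem {P : Type v} {Q : Type w} [AddCommGroup P] [Module T P] [AddCommGroup Q]
    [Module T Q] (φ : P →ₗ[T] Q) {z : P} (hz : z ∈ J • (⊤ : Submodule T P)) :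
    φ z ∈ J • (⊤ : Submodule T Q) := by
  induction hz using Submodule.smul_induction_on' with
  | smul r hr n hn => rw [map_smul]; exact Submodule.smul_mem_smul hr trivial
  | add x hx y hy h1 h2 => rw [map_add]; exact Submodule.add_mem _ h1 h2

variable {M : Type v} [AddCommGroup M] [Module T M]

/-- The associator. -/
noncomputable def asc (μ : M →ₗ[T] M →ₗ[T] M) : M →ₗ[T] M →ₗ[T] M →ₗ[T] M :=
  μ.compr₂ μ - ((LinearMap.llcomp T M M M).comp μ).compl₂ μ

theorem asc_apply (μ : M →ₗ[T] M →ₗ[T] M) (a b c : M) :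
    asc μ a b c = μ (μ a b) c - μ a (μ b c) := by
  simp [asc]

theorem pentagon (μ : M →ₗ[T] M →ₗ[T] M) (p a b c : M) :
    μ p (asc μ a b c) - asc μ (μ p a) b c + asc μ p (μ a b) c - asc μ p a (μ b c)
      + μ (asc μ p a b) c = 0 := by
  simp only [asc_apply, map_sub, LinearMap.sub_apply]
  abel

/-- Correction of a multiplication that is associative modulo a square-zero ideal, using a
separability idempotent modulo this ideal. -/
theorem exists_assoc (hJ : J ^ 2 = ⊥) (μ : M →ₗ[T] M →ₗ[T] M) {κ : Type w} [Fintype κ]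
    (x y : κ → M)
    (hassoc : ∀ a b c, μ (μ a b) c - μ a (μ b c) ∈ J • (⊤ : Submodule T M))
    (hone : ∀ m, ∑ i, μ (x i) (μ (y i) m) - m ∈ J • (⊤ : Submodule T M))
    (hcomm : ∀ a, ∑ i, (μ a (x i)) ⊗ₜ[T] (y i) - ∑ i, (x i) ⊗ₜ[T] (μ (y i) a) ∈
      J • (⊤ : Submodule T (M ⊗[T] M))) :
    ∃ g : M →ₗ[T] M →ₗ[T] M, (∀ a b, g a b ∈ J • (⊤ : Submodule T M)) ∧
      ∀ a b c, (μ + g) ((μ + g) a b) c = (μ + g) a ((μ + g) b c) := by
  have hf : ∀ a b c, asc μ a b c ∈ J • (⊤ : Submodule T M) := fun a b c => by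
    rw [asc_apply]; exact hassoc a b c
  let g : M →ₗ[T] M →ₗ[T] M := ∑ i, (asc μ (y i)).compr₂ (μ (x i))
  have hg : ∀ b c, g b c = ∑ i, μ (x i) (asc μ (y i) b c) := by
    intro b c
    simp [g, LinearMap.sum_apply]
  have hgJ : ∀ a b, g a b ∈ J • (⊤ : Submodule T M) := by
    intro a b
    rw [hg]
    exact Submodule.sum_mem _ (fun i _ => map_mem _ (hf _ _ _))
  refine ⟨g, hgJ, fun a b c => ?_⟩
  -- the four facts
  have h1 : μ a (g b c) = ∑ i, μ (x i) (asc μ (μ (y i) a) b c) := by
    rw [hg, map_sum]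
    have h11 : ∀ i, μ a (μ (x i) (asc μ (y i) b c)) = μ (μ a (x i)) (asc μ (y i) b c) := by
      intro i
      have := kill hJ (asc μ a (x i)) (hf a (x i)) (hf (y i) b c)
      rw [asc_apply, sub_eq_zero] at this
      exact this.symm
    rw [Finset.sum_congr rfl (fun i _ => h11 i)]
    let ψ : M ⊗[T] M →ₗ[T] M := TensorProduct.lift (μ.compl₂ ((asc μ).flip b |>.flip c))
    have hψ : ∀ p q, ψ (p ⊗ₜ q) = μ p (asc μ q b c) := by
      intro p q; simp [ψ]
    have hψJ : ∀ z, ψ z ∈ J • (⊤ : Submodule T M) := by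
      intro z
      induction z using TensorProduct.induction_on with
      | zero => rw [map_zero]; exact Submodule.zero_mem _
      | tmul p q => rw [hψ]; exact map_mem _ (hf _ _ _)
      | add z w hz hw => rw [map_add]; exact Submodule.add_mem _ hz hw
    have := kill hJ ψ hψJ (hcomm a)
    rw [map_sub, map_sum, map_sum, sub_eq_zero] at this
    simpa only [hψ] using this
  have h2 : μ (g a b) c = ∑ i, μ (x i) (μ (asc μ (y i) a b) c) := by
    rw [hg, map_sum, LinearMap.sum_apply]
    refine Finset.sum_congr rfl (fun i _ => ?_)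
    have := kill hJ ((asc μ (x i)).flip c) (fun p => hf (x i) p c) (hf (y i) a b)
    rw [LinearMap.flip_apply, asc_apply, sub_eq_zero] at this
    exact this
  have h3 : ∑ i, μ (x i) (μ (y i) (asc μ a b c)) = asc μ a b c := by
    have := kill hJ ((∑ i, (μ (x i)).comp (μ (y i))) - LinearMap.id)
      (fun m => by simpa [LinearMap.sum_apply] using hone m) (hf a b c)
    simpa [LinearMap.sum_apply, sub_eq_zero] using this
  have h4 : asc μ a b c - μ a (g b c) + g (μ a b) c - g a (μ b c) + μ (g a b) c = 0 := by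
    rw [h1, h2, hg, hg, ← h3, ← Finset.sum_sub_distrib, ← Finset.sum_add_distrib,
      ← Finset.sum_sub_distrib, ← Finset.sum_add_distrib]
    refine Finset.sum_eq_zero (fun i _ => ?_)
    rw [← map_sub, ← map_add, ← map_sub, ← map_add, pentagon, map_zero]
  have h5 : g (g a b) c = 0 := kill hJ (g.flip c) (fun p => hgJ p c) (hgJ a b)
  have h6 : g a (g b c) = 0 := kill hJ (g a) (fun p => hgJ a p) (hgJ b c)
  simp only [LinearMap.add_apply, map_add, h5, h6]
  rw [asc_apply] at h4
  rw [← sub_eq_zero, ← h4]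
  abel

/-- Correction of the unit. -/
theorem exists_unit (hJ : J ^ 2 = ⊥) (μ : M →ₗ[T] M →ₗ[T] M)
    (hassoc : ∀ a b c, μ (μ a b) c = μ a (μ b c)) (e : M)
    (h1 : ∀ m, μ e m - m ∈ J • (⊤ : Submodule T M))
    (h2 : ∀ m, μ m e - m ∈ J • (⊤ : Submodule T M)) :
    ∃ e' : M, e' - e ∈ J • (⊤ : Submodule T M) ∧ ∀ m, μ e' m = m ∧ μ m e' = m := by
  refine ⟨e - (μ e e - e), ?_, fun m => ⟨?_, ?_⟩⟩
  · rw [sub_sub_cancel_left]
    exact Submodule.neg_mem _ (h1 e)
  · have := kill hJ (μ e - LinearMap.id) (fun m => by simpa using h1 m) (h1 m)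
    simp only [LinearMap.sub_apply, LinearMap.id_apply, map_sub] at this
    simp only [map_sub, LinearMap.sub_apply, hassoc]
    rw [← sub_eq_zero, ← neg_eq_zero, ← this]
    abel
  · have := kill hJ (μ.flip e - LinearMap.id) (fun m => by simpa using h2 m) (h2 m)
    simp only [LinearMap.sub_apply, LinearMap.id_apply, map_sub, LinearMap.flip_apply] at this
    simp only [map_sub, ← hassoc]
    rw [← sub_eq_zero, ← neg_eq_zero, ← this]
    abel

end K280.HochLift
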