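import Groth.Agent.Dix.K280.HenselIdem
import Groth.Agent.Dix.K280.AzFibre
import Mathlib.RingTheory.LocalRing.Module
import Mathlib.RingTheory.TensorProduct.Free
import Mathlib.LinearAlgebra.FreeModule.Finite.Matrix

/-!
# Lifting isomorphisms of Azumaya algebras over henselian local rings
-/

set_option autoImplicit false
universe u v w
open scoped TensorProduct
open Polynomial IsLocalRing MulOpposite

namespace K280.IsoLift

theorem mem_smul_top_iff {R : Type u} [CommRing R] [IsLocalRing R] {M : Type v} [AddCommGroup M] [Module R M]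
    (x : M) : x ∈ (maximalIdeal R • ⊤ : Submodule R M) ↔ (1 : ResidueField R) ⊗ₜ[R] x = 0 := by
  rw [← LinearMap.ker_tensorProductMk, LinearMap.mem_ker]
  rfl

section

variable (R : Type u) [CommRing R] [HenselianLocalRing R] (A : Type v) [Ring A] [Algebra R A] [IsAzumaya R A]
  (B : Type w) [Ring B] [Algebra R B] [IsAzumaya R B]
  (e₀ : (ResidueField R ⊗[R] A) ≃ₐ[ResidueField R] (ResidueField R ⊗[R] B))

/-- Right multiplications. -/
noncomputable def rightHom : Aᵐᵒᵖ →ₐ[R] Module.End (ResidueField R) (ResidueField R ⊗[R] A) where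
  toFun a := LinearMap.mulRight (ResidueField R) ((1 : ResidueField R) ⊗ₜ[R] a.unop)
  map_one' := by ext; simp
  map_mul' a b := by
    ext
    simp [mul_assoc]
  map_zero' := by ext; simp
  map_add' a b := by ext; simp [TensorProduct.tmul_add, mul_add]
  commutes' r := by
    ext
    simp [Algebra.algebraMap_eq_smul_one, Algebra.TensorProduct.tmul_mul_tmul]

/-- Left multiplications through `e₀`. -/
noncomputable def leftHom : B →ₐ[R] Module.End (ResidueField R) (ResidueField R ⊗[R] A) :=
  ((Algebra.lmul (ResidueField R) (ResidueField R ⊗[R] A)).restrictScalars R).comp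
    ((e₀.symm.toAlgHom.restrictScalars R).comp Algebra.TensorProduct.includeRight)

noncomputable def rho : B ⊗[R] Aᵐᵒᵖ →ₐ[R] Module.End (ResidueField R) (ResidueField R ⊗[R] A) :=
  Algebra.TensorProduct.lift (leftHom R A B e₀) (rightHom R A) (fun b a => by
    ext
    simp [leftHom, rightHom, mul_assoc])

theorem rho_tmul (b : B) (a : Aᵐᵒᵖ) (x : ResidueField R ⊗[R] A) :
    rho R A B e₀ (b ⊗ₜ a) x = e₀.symm (1 ⊗ₜ b) * x * (1 ⊗ₜ a.unop) := by
  simp [rho, leftHom, rightHom, mul_assoc]

theorem rho_surjective : Function.Surjective (rho R A B e₀) := by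
  intro T
  have hAz := K444.AzOps.isAzumaya_baseChange (R := R) (ResidueField R) (A := A)
  obtain ⟨t, rfl⟩ := (IsAzumaya.bij (R := ResidueField R) (A := ResidueField R ⊗[R] A)).2 T
  induction t using TensorProduct.induction_on with
  | zero => exact ⟨0, by simp⟩
  | tmul u v =>
    obtain ⟨b, hb⟩ : ∃ b : B, (1 : ResidueField R) ⊗ₜ[R] b = e₀ u :=
      TensorProduct.mk_surjective R B (ResidueField R) Ideal.Quotient.mk_surjective _
    obtain ⟨a, ha⟩ : ∃ a : A, (1 : ResidueField R) ⊗ₜ[R] a = v.unop :=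
      TensorProduct.mk_surjective R A (ResidueField R) Ideal.Quotient.mk_surjective _
    refine ⟨b ⊗ₜ op a, ?_⟩
    apply LinearMap.ext
    intro x
    rw [rho_tmul, AlgHom.mulLeftRight_apply, hb, AlgEquiv.symm_apply_apply, unop_op, ha]
  | add s t hs ht =>
    obtain ⟨s', hs'⟩ := hs
    obtain ⟨t', ht'⟩ := ht
    exact ⟨s' + t', by rw [map_add, map_add, hs', ht']⟩

theorem mem_of_rho_eq_zero (x : B ⊗[R] Aᵐᵒᵖ) (hx : rho R A B e₀ x = 0) :
    x ∈ (maximalIdeal R • ⊤ : Submodule R (B ⊗[R] Aᵐᵒᵖ)) := by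
  have hfA : Module.Free R A := Module.free_of_flat_of_isLocalRing
  have hfB : Module.Free R B := Module.free_of_flat_of_isLocalRing
  have hfA' : Module.Free R Aᵐᵒᵖ := Module.Free.of_equiv (opLinearEquiv R)
  let φ : ResidueField R ⊗[R] (B ⊗[R] Aᵐᵒᵖ) →ₗ[ResidueField R]
      Module.End (ResidueField R) (ResidueField R ⊗[R] A) :=
    (rho R A B e₀).toLinearMap.liftBaseChange (ResidueField R)
  have hφ : ∀ y, φ (1 ⊗ₜ y) = rho R A B e₀ y := fun y => by simp [φ]
  have hsurj : Function.Surjective φ := by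
    intro T
    obtain ⟨y, hy⟩ := rho_surjective R A B e₀ T
    exact ⟨1 ⊗ₜ y, by rw [hφ, hy]⟩
  have hinj : Function.Injective φ := by
    refine (LinearMap.injective_iff_surjective_of_finrank_eq_finrank ?_).2 hsurj
    have h1 : Module.finrank R B = Module.finrank R A := by
      rw [← Module.finrank_baseChange (R := ResidueField R) (M' := B),
        ← Module.finrank_baseChange (R := ResidueField R) (M' := A), e₀.toLinearEquiv.finrank_eq]
    rw [Module.finrank_baseChange, Module.finrank_tensorProduct, Module.finrank_linearMap,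
      Module.finrank_baseChange, h1, ← LinearEquiv.finrank_eq (opLinearEquiv R (M := A))]
  rw [mem_smul_top_iff]
  apply hinj
  rw [map_zero, hφ, hx]

theorem exists_lift : ∃ e : A ≃ₐ[R] B, ∀ a : A,
    e₀ ((1 : ResidueField R) ⊗ₜ[R] a) = (1 : ResidueField R) ⊗ₜ[R] (e a) := by
  have hfA : Module.Free R A := Module.free_of_flat_of_isLocalRing
  have hfB : Module.Free R B := Module.free_of_flat_of_isLocalRing
  have hfA' : Module.Free R Aᵐᵒᵖ := Module.Free.of_equiv (opLinearEquiv R)
  have hAz := K444.AzOps.isAzumaya_baseChange (R := R) (ResidueField R) (A := A)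
  obtain ⟨f₀, hf₀⟩ := K444.AzData.exists_linear_one (R := ResidueField R) (A := ResidueField R ⊗[R] A)
  set ρ := rho R A B e₀ with hρ
  -- the idempotent
  let ε₀ : Module.End (ResidueField R) (ResidueField R ⊗[R] A) := f₀.smulRight 1
  have hε₀ : ∀ x, ε₀ x = f₀ x • (1 : ResidueField R ⊗[R] A) := fun x => rfl
  have hε₀i : ε₀ * ε₀ = ε₀ := by
    ext x
    simp [hε₀, hf₀]
  obtain ⟨d, hd⟩ := rho_surjective R A B e₀ ε₀
  obtain ⟨ε, hε, hρε⟩ := HenselIdem.exists_lift ρ d (by rw [hρ, hd]; exact hε₀i)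
  rw [hρ, hd] at hρε
  -- the map `A → D ε`
  let α : A →ₗ[R] B ⊗[R] Aᵐᵒᵖ :=
    LinearMap.mulRight R ε ∘ₗ (TensorProduct.mk R B Aᵐᵒᵖ 1) ∘ₗ (opLinearEquiv R (M := A)).toLinearMap
  have hα : ∀ a, α a = ((1 : B) ⊗ₜ[R] op a) * ε := fun a => rfl
  let ev : B ⊗[R] Aᵐᵒᵖ →ₗ[R] (ResidueField R ⊗[R] A) :=
    (LinearMap.applyₗ' R (1 : ResidueField R ⊗[R] A)) ∘ₗ
      ((rho R A B e₀).toLinearMap)
  have hev : ∀ x, ev x = rho R A B e₀ x 1 := fun x => rfl
  have hevε : ∀ x, ev (x * ε) = ev x := by
    intro x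
    rw [hev, hev, map_mul, hρε, Module.End.mul_apply, hε₀, hf₀, one_smul]
  have hevα : ∀ a, ev (α a) = (1 : ResidueField R) ⊗ₜ[R] a := by
    intro a
    rw [hα, hevε, hev, rho_tmul]
    simp [← Algebra.TensorProduct.one_def]
  -- `P = D ε` is contained in the image of `α`
  have hP : LinearMap.range (LinearMap.mulRight R ε) ≤ LinearMap.range α := by
    refine Submodule.le_of_le_smul_of_le_jacobson_bot (I := maximalIdeal R) ?_
      (IsLocalRing.maximalIdeal_le_jacobson _) ?_
    · rw [LinearMap.range_eq_map]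
      exact Module.Finite.fg_top.map _
    · rintro _ ⟨x, rfl⟩
      obtain ⟨a, ha⟩ : ∃ a : A, (1 : ResidueField R) ⊗ₜ[R] a = ev x :=
        TensorProduct.mk_surjective R A (ResidueField R) Ideal.Quotient.mk_surjective _
      have h1 : rho R A B e₀ (x * ε - α a) = 0 := by
        have h2 : (x * ε - α a) * ε = x * ε - α a := by
          rw [sub_mul, hα, mul_assoc, mul_assoc, hε]
        rw [← h2, map_mul, hρε]
        apply LinearMap.ext
        intro z
        rw [Module.End.mul_apply, hε₀, map_smul, ← hev, map_sub, hevε, hevα, ha, sub_self, smul_zero,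
          LinearMap.zero_apply]
      have h3 := mem_of_rho_eq_zero R A B e₀ _ h1
      refine Submodule.mem_sup.2 ⟨α a, ⟨a, rfl⟩, x * ε - α a, ?_, by
        rw [add_sub_cancel]; rfl⟩
      have h4 : (x * ε - α a) * ε = x * ε - α a := by
        rw [sub_mul, hα, mul_assoc, mul_assoc, hε]
      rw [LinearMap.range_eq_map, ← Submodule.map_smul'']
      exact ⟨x * ε - α a, h3, h4⟩
  have hinj : Function.Injective α := by
    have h5 : Function.Injective (α.lTensor (ResidueField R)) := by
      rw [injective_iff_map_eq_zero]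
      intro t ht
      obtain ⟨a, rfl⟩ : ∃ a : A, (1 : ResidueField R) ⊗ₜ[R] a = t :=
        TensorProduct.mk_surjective R A (ResidueField R) Ideal.Quotient.mk_surjective _
      rw [LinearMap.lTensor_tmul, ← mem_smul_top_iff] at ht
      have h6 : ev (α a) = 0 := by
        have h7 : ∀ y ∈ (maximalIdeal R • ⊤ : Submodule R (B ⊗[R] Aᵐᵒᵖ)), ev y = 0 := by
          intro y hy
          refine Submodule.smul_induction_on hy (fun r hr n _ => ?_) (fun x y hx hy => ?_)
          · rw [map_smul]
            have h8 : algebraMap R (ResidueField R) r = 0 := by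
              rw [ResidueField.algebraMap_eq, residue_eq_zero_iff]; exact hr
            rw [← algebraMap_smul (ResidueField R) r, h8, zero_smul]
          · rw [map_add, hx, hy, add_zero]
        exact h7 _ ht
      rw [← hevα, h6]
    obtain ⟨l, hl⟩ := (IsLocalRing.split_injective_iff_lTensor_residueField_injective α).2 h5
    exact Function.HasLeftInverse.injective ⟨l, LinearMap.congr_fun hl⟩
  have hex : ∀ b : B, ∃ a : A, α a = (b ⊗ₜ[R] (1 : Aᵐᵒᵖ)) * ε := fun b => hP ⟨_, rfl⟩
  choose s hs using hex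
  have hs1 : ∀ b, (1 : ResidueField R) ⊗ₜ[R] s b = e₀.symm (1 ⊗ₜ b) := by
    intro b
    rw [← hevα, hs, hevε, hev, rho_tmul]
    simp [← Algebra.TensorProduct.one_def]
  let S : B →ₐ[R] A :=
    { toFun := s
      map_one' := by
        apply hinj
        rw [hs, hα, op_one]
      map_mul' := fun b b' => by
        apply hinj
        rw [hs, hα]
        have h1 : (b * b') ⊗ₜ[R] (1 : Aᵐᵒᵖ) * ε = (b ⊗ₜ[R] (1 : Aᵐᵒᵖ)) * (((1 : B) ⊗ₜ[R] op (s b')) * ε) := by
          rw [← hα, hs, ← mul_assoc, Algebra.TensorProduct.tmul_mul_tmul, mul_one]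
        rw [h1, ← mul_assoc, Algebra.TensorProduct.tmul_mul_tmul, mul_one, one_mul]
        have h2 : (b ⊗ₜ[R] op (s b') : B ⊗[R] Aᵐᵒᵖ) = ((1 : B) ⊗ₜ[R] op (s b')) * (b ⊗ₜ[R] (1 : Aᵐᵒᵖ)) := by
          rw [Algebra.TensorProduct.tmul_mul_tmul, one_mul, mul_one]
        rw [h2, mul_assoc, ← hs, hα, ← mul_assoc, Algebra.TensorProduct.tmul_mul_tmul, mul_one, op_mul]
      map_zero' := by
        apply hinj
        rw [hs, map_zero, TensorProduct.zero_tmul, zero_mul]
      map_add' := fun b b' => by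
        apply hinj
        rw [hs, map_add, hs, hs, TensorProduct.add_tmul, add_mul]
      commutes' := fun r => by
        apply hinj
        rw [hs, hα, Algebra.algebraMap_eq_smul_one, Algebra.algebraMap_eq_smul_one, op_smul,
          TensorProduct.tmul_smul, TensorProduct.smul_tmul', op_one] }
  have hS : ∀ b, S b = s b := fun _ => rfl
  have hSsurj : Function.Surjective S := by
    have h1 : (⊤ : Submodule R A) ≤ LinearMap.range S.toLinearMap := by
      refine Submodule.le_of_le_smul_of_le_jacobson_bot (I := maximalIdeal R)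
        Module.Finite.fg_top (IsLocalRing.maximalIdeal_le_jacobson _) ?_
      intro a _
      obtain ⟨b, hb⟩ : ∃ b : B, (1 : ResidueField R) ⊗ₜ[R] b = e₀ (1 ⊗ₜ a) :=
        TensorProduct.mk_surjective R B (ResidueField R) Ideal.Quotient.mk_surjective _
      refine Submodule.mem_sup.2 ⟨S b, ⟨b, rfl⟩, a - S b, ?_, by rw [add_sub_cancel]⟩
      rw [mem_smul_top_iff, TensorProduct.tmul_sub, hS, hs1, hb, AlgEquiv.symm_apply_apply, sub_self]
    intro a
    exact h1 (Submodule.mem_top (x := a))
  have hSinj : Function.Injective S := by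
    have h5 : Function.Injective (S.toLinearMap.lTensor (ResidueField R)) := by
      rw [injective_iff_map_eq_zero]
      intro t ht
      obtain ⟨b, rfl⟩ : ∃ b : B, (1 : ResidueField R) ⊗ₜ[R] b = t :=
        TensorProduct.mk_surjective R B (ResidueField R) Ideal.Quotient.mk_surjective _
      rw [LinearMap.lTensor_tmul, AlgHom.toLinearMap_apply, hS, hs1] at ht
      apply e₀.symm.injective
      rw [ht, map_zero]
    obtain ⟨l, hl⟩ := (IsLocalRing.split_injective_iff_lTensor_residueField_injective S.toLinearMap).2 h5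
    exact Function.HasLeftInverse.injective ⟨l, LinearMap.congr_fun hl⟩
  let E : B ≃ₐ[R] A := AlgEquiv.ofBijective S ⟨hSinj, hSsurj⟩
  refine ⟨E.symm, fun a => ?_⟩
  obtain ⟨b, rfl⟩ := E.surjective a
  rw [AlgEquiv.symm_apply_apply]
  have : E b = s b := rfl
  rw [this, hs1, AlgEquiv.apply_symm_apply]

end

end K280.IsoLift
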