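import Groth.Agent.Dix.K280.RegSection
import Groth.Agent.Dix.K280.CsaGen
import Groth.Agent.Flat2E.FinEtaleSpread
import Groth.Agent.UnramA.Monogenic

/-!
# Existence of maximal étale subalgebras of Azumaya algebras over local rings
-/

set_option autoImplicit false
universe u v w
open scoped TensorProduct
open Polynomial IsLocalRing

namespace K280.MaxEtale

section

variable (R : Type u) [CommRing R] [IsLocalRing R] (A : Type u) [Ring A] [Algebra R A] [IsAzumaya R A]

theorem exists_maximal_etale (r : ℕ) (hA : Module.finrank R A = r ^ 2) :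
    ∃ (E : Type u) (_ : CommRing E) (_ : Algebra R E), Algebra.Etale R E ∧ Module.Finite R E ∧
      Module.Free R E ∧ Module.finrank R E = r ∧
      ∃ u : E →ₐ[R] A, Function.Injective (u.toLinearMap.lTensor (ResidueField R)) := by
  classical
  obtain ⟨h1, h2, h3⟩ := AzFibre.fibre R A (ResidueField R)
  have hfree : Module.Free R A := Module.free_of_flat_of_isLocalRing
  have hdim : Module.finrank (ResidueField R) (ResidueField R ⊗[R] A) = r ^ 2 := by
    rw [Module.finrank_baseChange, hA]
  obtain ⟨x, hx, hd⟩ := CsaGen.exists_gen (ResidueField R) (ResidueField R ⊗[R] A) r hdim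
  obtain ⟨ξ, rfl⟩ : ∃ ξ : A, (1 : ResidueField R) ⊗ₜ[R] ξ = x :=
    TensorProduct.mk_surjective R A (ResidueField R) Ideal.Quotient.mk_surjective x
  have hli := RegSection.linearIndependent_powers R A r ξ hd
  have hmem := RegSection.mem_span_of_commute R A r hA ξ hx hd (ξ ^ r) (by
    rw [← pow_succ, ← pow_succ'])
  rw [Submodule.mem_span_range_iff_exists_fun] at hmem
  obtain ⟨c, hc⟩ := hmem
  set g : R[X] := ∑ i : Fin r, C (c i) * X ^ (i : ℕ) with hg
  have hgd : g.degree < r := degree_sum_fin_lt c
  set f : R[X] := X ^ r - g with hf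
  have hfm : f.Monic := monic_X_pow_sub (by simpa using hgd)
  have hfd : f.natDegree = r := by
    rw [hf]
    have h4 : g.degree < (X ^ r : R[X]).degree := by rw [degree_X_pow]; exact hgd
    have h5 := degree_sub_eq_left_of_degree_lt h4
    rw [degree_X_pow] at h5
    exact natDegree_eq_of_degree_eq_some h5
  have hfξ : aeval ξ f = 0 := by
    rw [hf, hg, map_sub, map_sum, map_pow, aeval_X, ← hc, sub_eq_zero]
    refine Finset.sum_congr rfl fun i _ => ?_
    rw [map_mul, aeval_C, map_pow, aeval_X, Algebra.smul_def]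
  have hfbar : aeval ((1 : ResidueField R) ⊗ₜ[R] ξ) (f.map (residue R)) = 0 := by
    have h4 : f.map (residue R) = f.map (algebraMap R (ResidueField R)) := rfl
    rw [h4, aeval_map_algebraMap]
    have h5 : ((1 : ResidueField R) ⊗ₜ[R] ξ) =
      Algebra.TensorProduct.includeRight (R := R) (A := ResidueField R) (B := A) ξ := rfl
    rw [h5, aeval_algHom_apply, hfξ, map_zero]
  have hfmin : f.map (residue R) = minpoly (ResidueField R) ((1 : ResidueField R) ⊗ₜ[R] ξ) := by
    refine minpoly.unique_of_degree_le_degree_minpoly _ _ (hfm.map _) hfbar ?_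
    rw [hfm.degree_map, degree_eq_natDegree hfm.ne_zero, hfd,
      degree_eq_natDegree (minpoly.ne_zero hx.isIntegral), hd]
  have hfsep : f.Separable := Groth.Agent.UnramA.Monogenic.separable_of_map_residue f hfm (by
    rw [hfmin]; exact hx)
  let u : AdjoinRoot f →ₐ[R] A := Ideal.Quotient.liftₐ (R₁ := R) (Ideal.span {f}) (Polynomial.aeval ξ) (by
    intro a ha
    obtain ⟨b, rfl⟩ := Ideal.mem_span_singleton'.mp ha
    rw [map_mul, hfξ, mul_zero])
  have hu : ∀ p : R[X], u (AdjoinRoot.mk f p) = aeval ξ p := fun p => rfl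
  let pb := AdjoinRoot.powerBasis' hfm
  have hpbd : pb.dim = r := by rw [AdjoinRoot.powerBasis'_dim, hfd]
  refine ⟨AdjoinRoot f, inferInstance, inferInstance, ?_, pb.finite, Module.Free.of_basis pb.basis, ?_, u, ?_⟩
  · exact Groth.Agent.Flat2E.FinEtaleSpread.etale_adjoinRoot f hfm hfsep
  · rw [pb.finrank, hpbd]
  · have hli' := RegSection.linearIndependent_pow_fibre R A ξ
    let b := (pb.basis.baseChange (ResidueField R)).reindex (finCongr hpbd)
    have hb : ∀ i : Fin r, u.toLinearMap.baseChange (ResidueField R) (b i) =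
        (1 : ResidueField R) ⊗ₜ[R] (ξ ^ (i : ℕ)) := by
      intro i
      have h6 : b i = (1 : ResidueField R) ⊗ₜ[R] (AdjoinRoot.root f ^ (i : ℕ)) := by
        simp [b, pb, Module.Basis.reindex_apply, Module.Basis.baseChange_apply, PowerBasis.basis_eq_pow]
      rw [h6, LinearMap.baseChange_tmul]
      congr 1
      have h9 : u (AdjoinRoot.root f) = ξ := by
        have := hu X
        rwa [aeval_X, AdjoinRoot.mk_X] at this
      rw [AlgHom.toLinearMap_apply, map_pow, h9]
    have h7 : LinearMap.ker (u.toLinearMap.baseChange (ResidueField R)) = ⊥ := by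
      rw [LinearMap.ker_eq_bot']
      intro m hm
      rw [← b.sum_repr m, map_sum] at hm
      simp_rw [map_smul, hb] at hm
      rw [hd] at hli'
      have h8 := Fintype.linearIndependent_iff.1 hli' _ hm
      rw [← b.sum_repr m]
      exact Finset.sum_eq_zero fun i _ => by rw [h8, zero_smul]
    have h10 : Function.Injective (u.toLinearMap.baseChange (ResidueField R)) := LinearMap.ker_eq_bot.1 h7
    exact h10

end

end K280.MaxEtale
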