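import Groth.Agent.Dix.K280.AzFibre
import Groth.Agent.Dix.K280.CentMono
import Mathlib.RingTheory.LocalRing.Module

/-!
# Regular sections of Azumaya algebras over local rings
-/

set_option autoImplicit false
universe u v w
open scoped TensorProduct
open Polynomial IsLocalRing

namespace K280.RegSection

section

variable (R : Type u) [CommRing R] [IsLocalRing R] (A : Type v) [Ring A] [Algebra R A]

theorem one_tmul_pow (ξ : A) (i : ℕ) :
    ((1 : ResidueField R) ⊗ₜ[R] ξ) ^ i = (1 : ResidueField R) ⊗ₜ[R] (ξ ^ i) := by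
  rw [Algebra.TensorProduct.tmul_pow, one_pow]

theorem linearIndependent_pow_fibre (ξ : A) :
    LinearIndependent (ResidueField R)
      (fun i : Fin (minpoly (ResidueField R) ((1 : ResidueField R) ⊗ₜ[R] ξ)).natDegree =>
        (1 : ResidueField R) ⊗ₜ[R] (ξ ^ (i : ℕ))) := by
  have h := linearIndependent_pow (K := ResidueField R) ((1 : ResidueField R) ⊗ₜ[R] ξ)
  simp_rw [one_tmul_pow] at h
  exact h

variable [IsAzumaya R A]

/-- The centralizer of a regular section is spanned by its powers. -/
theorem mem_span_of_commute (r : ℕ) (hA : Module.finrank R A = r ^ 2) (ξ : A)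
    (hx : IsSeparable (ResidueField R) ((1 : ResidueField R) ⊗ₜ[R] ξ))
    (hd : (minpoly (ResidueField R) ((1 : ResidueField R) ⊗ₜ[R] ξ)).natDegree = r) (a : A)
    (ha : ξ * a = a * ξ) : a ∈ Submodule.span R (Set.range fun i : Fin r => ξ ^ (i : ℕ)) := by
  classical
  set k := ResidueField R with hk
  obtain ⟨h1, h2, h3⟩ := AzFibre.fibre R A k
  have hfree : Module.Free R A := Module.free_of_flat_of_isLocalRing
  have hdim : Module.finrank k (k ⊗[R] A) = r ^ 2 := by
    rw [Module.finrank_baseChange, hA]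
  have hli := linearIndependent_pow_fibre R A ξ
  rw [hd] at hli
  let b := Module.Basis.sumExtend hli
  have hbl : ∀ i : Fin r, b (Sum.inl i) = (1 : k) ⊗ₜ[R] (ξ ^ (i : ℕ)) := fun i => by
    simp only [b, Module.Basis.sumExtend, Module.Basis.reindex_apply]
    rw [Module.Basis.extend_apply_self]
    rfl
  have hfin : Finite (Fin r ⊕ Module.Basis.sumExtendIndex hli) := Module.Finite.finite_basis b
  have hfin' : Finite (Module.Basis.sumExtendIndex hli) := Finite.of_injective
    (Sum.inr : _ → Fin r ⊕ Module.Basis.sumExtendIndex hli) Sum.inr_injective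
  have := Fintype.ofFinite (Module.Basis.sumExtendIndex hli)
  choose c hc using fun j => TensorProduct.mk_surjective R A k Ideal.Quotient.mk_surjective
    (b (Sum.inr j))
  replace hc : ∀ j, (1 : k) ⊗ₜ[R] c j = b (Sum.inr j) := hc
  -- the commutators are linearly independent
  have hcomm : LinearIndependent R fun j => ξ * c j - c j * ξ := by
    apply Module.IsLocalRing.linearIndependent_of_flat
    rw [Fintype.linearIndependent_iff]
    intro g hg j
    set y : k ⊗[R] A := ∑ j, g j • b (Sum.inr j) with hy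
    have h4 : y * ((1 : k) ⊗ₜ[R] ξ) = ((1 : k) ⊗ₜ[R] ξ) * y := by
      rw [← sub_eq_zero, ← neg_eq_zero, ← hg, hy, Finset.sum_mul, Finset.mul_sum,
        ← Finset.sum_sub_distrib, ← Finset.sum_neg_distrib]
      refine Finset.sum_congr rfl fun j _ => ?_
      rw [← hc j]
      simp only [Function.comp_apply, TensorProduct.mk_apply, TensorProduct.tmul_sub]
      rw [smul_mul_assoc, mul_smul_comm, Algebra.TensorProduct.tmul_mul_tmul,
        Algebra.TensorProduct.tmul_mul_tmul, ← smul_sub, ← smul_neg, neg_sub, one_mul]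
    have h5 := CentMono.mem_span_of_commute k (k ⊗[R] A) r hdim _ hx hd y h4
    have h5' : (fun i : Fin r => ((1 : k) ⊗ₜ[R] ξ) ^ (i : ℕ)) = fun i => b (Sum.inl i) := by
      funext i
      rw [hbl, one_tmul_pow]
    rw [h5', Submodule.mem_span_range_iff_exists_fun] at h5
    obtain ⟨e, he⟩ := h5
    have h6 : ∑ s : Fin r ⊕ Module.Basis.sumExtendIndex hli, (Sum.elim (fun i => - e i) g s) • b s = 0 := by
      rw [Fintype.sum_sum_type]
      simp only [Sum.elim_inl, Sum.elim_inr, neg_smul, Finset.sum_neg_distrib]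
      rw [he, ← hy, neg_add_cancel]
    exact Fintype.linearIndependent_iff.1 b.linearIndependent _ h6 (Sum.inr j)
  -- the whole family spans
  have hspan : Submodule.span R (Set.range (Sum.elim (fun i : Fin r => ξ ^ (i : ℕ)) c)) = ⊤ := by
    apply IsLocalRing.span_eq_top_of_tmul_eq_basis _ b
    rintro (i | j)
    · rw [hbl]; rfl
    · exact hc j
  have hmem : a ∈ Submodule.span R (Set.range (Sum.elim (fun i : Fin r => ξ ^ (i : ℕ)) c)) := by
    rw [hspan]; trivial
  rw [Submodule.mem_span_range_iff_exists_fun] at hmem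
  obtain ⟨g, hg⟩ := hmem
  rw [Fintype.sum_sum_type] at hg
  simp only [Sum.elim_inl, Sum.elim_inr] at hg
  have h7 : ∑ j, g (Sum.inr j) • (ξ * c j - c j * ξ) = 0 := by
    have h8 : ξ * a - a * ξ = 0 := by rw [ha, sub_self]
    rw [← hg] at h8
    rw [← h8, mul_add, add_mul, add_sub_add_comm, Finset.mul_sum, Finset.sum_mul,
      ← Finset.sum_sub_distrib, Finset.mul_sum, Finset.sum_mul, ← Finset.sum_sub_distrib]
    have h9 : ∑ i : Fin r, (ξ * g (Sum.inl i) • ξ ^ (i : ℕ) - g (Sum.inl i) • ξ ^ (i : ℕ) * ξ) = 0 := by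
      refine Finset.sum_eq_zero fun i _ => ?_
      rw [mul_smul_comm, smul_mul_assoc, ← pow_succ, ← pow_succ', sub_self]
    rw [h9, zero_add]
    refine Finset.sum_congr rfl fun j _ => ?_
    rw [mul_smul_comm, smul_mul_assoc, smul_sub]
  have h10 := Fintype.linearIndependent_iff.1 hcomm _ h7
  rw [Submodule.mem_span_range_iff_exists_fun]
  refine ⟨fun i => g (Sum.inl i), ?_⟩
  rw [← hg]
  simp only [h10, zero_smul, Finset.sum_const_zero, add_zero]

theorem linearIndependent_powers (r : ℕ) (ξ : A)
    (hd : (minpoly (ResidueField R) ((1 : ResidueField R) ⊗ₜ[R] ξ)).natDegree = r) :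
    LinearIndependent R fun i : Fin r => ξ ^ (i : ℕ) := by
  apply Module.IsLocalRing.linearIndependent_of_flat
  have h := linearIndependent_pow_fibre R A ξ
  rw [hd] at h
  exact h

end

end K280.RegSection
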