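import Groth.Agent.Dix.K280.VNReg
import Groth.Agent.CurvesA.SepMax
import Mathlib.FieldTheory.JacobsonNoether
import Mathlib.RingTheory.SimpleModule.WedderburnArtin

/-!
# Separable non-central elements of semisimple algebras
-/

set_option autoImplicit false
universe u v w
open scoped TensorProduct
open Polynomial

namespace K280.SepNonCentral

open K280.EtaleSub

/-- A noncommutative finite division algebra whose centre is separable contains a separable noncentral
element. -/
theorem exists_div (k : Type u) [Field k] (D : Type v) [DivisionRing D] [Algebra k D] [FiniteDimensional k D]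
    (hZ : ∀ z : D, (∀ y, y * z = z * y) → IsSeparable k z) (hnc : ∃ a b : D, a * b ≠ b * a) :
    ∃ x : D, IsSeparable k x ∧ ∃ y, y * x ≠ x * y := by
  classical
  let F := Subring.center D
  let _ : Algebra k F := ((algebraMap k D).codRestrict F (fun c => by
    rw [Subring.mem_center_iff]
    intro g
    exact (Algebra.commutes c g).symm)).toAlgebra
  have : IsScalarTower k F D := IsScalarTower.of_algebraMap_eq fun r => rfl
  have : Algebra.IsAlgebraic F D := by
    have : Algebra.IsAlgebraic k D := inferInstance
    exact Algebra.IsAlgebraic.tower_top (K := k) F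
  have hne : Subring.center D ≠ ⊤ := by
    intro h
    obtain ⟨a, b, hab⟩ := hnc
    apply hab
    have : b ∈ Subring.center D := by rw [h]; trivial
    rw [Subring.mem_center_iff] at this
    exact this a
  obtain ⟨x, hx, hxs⟩ := JacobsonNoether.exists_separable_and_not_isCentral (D := D) hne
  refine ⟨x, ?_, ?_⟩
  · have hFs : Algebra.IsSeparable k F := ⟨fun z => by
      have h1 : IsSeparable k (z : D) := hZ z.1 (fun y => (Subring.mem_center_iff.1 z.2 y))
      exact (isSeparable_map_iff (IsScalarTower.toAlgHom k F D) Subtype.val_injective).1 h1⟩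
    have hint : IsIntegral F x := hxs.isIntegral
    have hirr := minpoly.irreducible hint
    have : Fact (Irreducible (minpoly F x)) := ⟨hirr⟩
    let M := AdjoinRoot (minpoly F x)
    have hM : Algebra.IsSeparable F M := Groth.Agent.CurvesA.SepMax.adjoinRoot_isSeparable F _ hxs
    have hkM : Algebra.IsSeparable k M := Algebra.IsSeparable.trans k F M
    let h : M →ₐ[F] D := rootHom (k := F) x
    have hh : h (AdjoinRoot.root _) = x := by
      have := rootHom_mk (k := F) x X
      rwa [aeval_X] at this
    have h1 := (isSeparable_map_iff (h.restrictScalars k) (rootHom_injective x)).2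
      (hkM.isSeparable k (AdjoinRoot.root _))
    have h2 : (h.restrictScalars k) (AdjoinRoot.root _) = x := hh
    rwa [h2] at h1
  · by_contra hcon
    push Not at hcon
    exact hx (Subring.mem_center_iff.2 hcon)

section pi

variable {k : Type u} [Field k] {n : ℕ} {D : Fin n → Type v} {d : Fin n → ℕ} [∀ i, Ring (D i)]
  [∀ i, Algebra k (D i)]

theorem aeval_apply (z : Π i, Matrix (Fin (d i)) (Fin (d i)) (D i)) (p : k[X]) (j : Fin n) :
    (aeval z p) j = aeval (z j) p :=
  (aeval_algHom_apply (Pi.evalAlgHom k (fun i => Matrix (Fin (d i)) (Fin (d i)) (D i)) j) z p).symm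

theorem aeval_scalar (m : ℕ) {E : Type v} [Ring E] [Algebra k E] (x : E) (p : k[X]) :
    aeval (Matrix.scalar (Fin m) x) p = Matrix.scalar (Fin m) (aeval x p) :=
  aeval_algHom_apply (Matrix.scalarAlgHom (Fin m) k) x p

end pi

/-- A noncommutative finite semisimple algebra with separable centre contains a separable noncentral
element. -/
theorem exists_ss (k : Type u) [Field k] (C : Type v) [Ring C] [Algebra k C] [FiniteDimensional k C]
    [IsSemisimpleRing C] (hZ : ∀ z : C, (∀ y, y * z = z * y) → IsSeparable k z)
    (hnc : ∃ a b : C, a * b ≠ b * a) : ∃ x : C, IsSeparable k x ∧ ∃ y, y * x ≠ x * y := by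
  classical
  by_contra hcon
  push Not at hcon
  obtain ⟨n, D, d, i1, i2, i3, hd, ⟨e⟩⟩ := IsSemisimpleRing.exists_algEquiv_pi_matrix_divisionRing_finite k C
  -- transport
  have hcon' : ∀ x : Π i, Matrix (Fin (d i)) (Fin (d i)) (D i), IsSeparable k x → ∀ y, y * x = x * y := by
    intro x hx y
    have h1 := hcon (e.symm x) ((isSeparable_map_iff e.symm.toAlgHom e.symm.injective).2 hx) (e.symm y)
    rw [← map_mul, ← map_mul] at h1
    exact e.symm.injective h1
  have hZ' : ∀ z : Π i, Matrix (Fin (d i)) (Fin (d i)) (D i), (∀ y, y * z = z * y) → IsSeparable k z := by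
    intro z hz
    have h1 := hZ (e.symm z) (fun y => by
      apply e.injective
      rw [map_mul, map_mul, AlgEquiv.apply_symm_apply, hz])
    exact (isSeparable_map_iff e.symm.toAlgHom e.symm.injective).1 h1
  -- the matrix sizes are one
  have hd1 : ∀ i, Subsingleton (Fin (d i)) := by
    intro i
    by_contra hns
    rw [not_subsingleton_iff_nontrivial] at hns
    obtain ⟨a, b, hab⟩ := hns
    let E : Π i, Matrix (Fin (d i)) (Fin (d i)) (D i) := Pi.single i (Matrix.single a a 1)
    have hE : E * E = E := by
      ext1 j
      by_cases hj : j = i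
      · subst hj
        simp [E, Pi.single_eq_same]
      · simp [E, Pi.single_eq_of_ne hj]
    have hEs : IsSeparable k E := by
      have hsep : (X * (X - Polynomial.C (1 : k)) : k[X]).Separable := by
        have h1 := separable_X_sub_C (x := (1 : k))
        refine separable_X.mul h1 ?_
        exact ⟨1, -1, by simp⟩
      refine isSeparable_of_aeval hsep ?_
      rw [map_mul, aeval_X, map_sub, aeval_X, aeval_C, map_one, mul_sub, mul_one, hE, sub_self]
    have h1 := congrFun (hcon' E hEs (Pi.single i (Matrix.single a b 1))) i
    simp only [E, Pi.mul_apply, Pi.single_eq_same] at h1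
    have h2 := congrFun (congrFun h1 a) b
    simp [Matrix.single, Matrix.mul_apply, hab] at h2
  -- the division rings are commutative
  have hcommD : ∀ i (a b : D i), a * b = b * a := by
    intro i
    by_contra hnc'
    push Not at hnc'
    obtain ⟨x, hxs, y, hxy⟩ := exists_div k (D i) (fun z hz => by
      have h1 := hZ' (Pi.single i (Matrix.scalar _ z)) (fun y => by
        ext1 j
        by_cases hj : j = i
        · subst hj
          simp only [Pi.mul_apply, Pi.single_eq_same]
          ext a b
          simp [Matrix.scalar_apply, hz]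
        · simp [Pi.single_eq_of_ne hj])
      have h2 : aeval z (minpoly k (Pi.single i (Matrix.scalar _ z) :
          Π i, Matrix (Fin (d i)) (Fin (d i)) (D i))) = 0 := by
        have h3 := congrFun (minpoly.aeval k (Pi.single i (Matrix.scalar _ z) :
          Π i, Matrix (Fin (d i)) (Fin (d i)) (D i))) i
        rw [aeval_apply, Pi.single_eq_same, aeval_scalar] at h3
        have h4 := congrFun (congrFun h3 0) 0
        simpa [Matrix.scalar_apply] using h4
      exact isSeparable_of_aeval h1 h2) hnc'
    have hx0 : x ≠ 0 := by
      rintro rfl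
      apply hxy
      rw [mul_zero, zero_mul]
    have hxi : IsIntegral k x := hxs.isIntegral
    have hsep : (X * minpoly k x : k[X]).Separable := by
      refine separable_X.mul hxs ?_
      rw [irreducible_X.coprime_iff_not_dvd, X_dvd_iff]
      exact minpoly.coeff_zero_ne_zero hxi hx0
    let E : Π i, Matrix (Fin (d i)) (Fin (d i)) (D i) := Pi.single i (Matrix.scalar _ x)
    have hE : IsSeparable k E := by
      refine isSeparable_of_aeval hsep ?_
      ext1 j
      rw [aeval_apply]
      by_cases hj : j = i
      · subst hj
        simp only [E, Pi.single_eq_same]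
        rw [aeval_scalar, map_mul, minpoly.aeval, mul_zero, map_zero]
        rfl
      · simp only [E, Pi.single_eq_of_ne hj]
        rw [map_mul, aeval_X, zero_mul]
        rfl
    have h1 := congrFun (hcon' E hE (Pi.single i (Matrix.scalar _ y))) i
    simp only [E, Pi.mul_apply, Pi.single_eq_same] at h1
    have h2 := congrFun (congrFun h1 0) 0
    apply hxy
    simpa [Matrix.scalar_apply] using h2
  obtain ⟨a, b, hab⟩ := hnc
  apply hab
  apply e.injective
  rw [map_mul, map_mul]
  ext i p q
  rw [Pi.mul_apply, Pi.mul_apply, Matrix.mul_apply, Matrix.mul_apply]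
  refine Finset.sum_congr rfl fun j _ => ?_
  have := hd1 i
  rw [Subsingleton.elim j p, Subsingleton.elim q p, hcommD]

end K280.SepNonCentral
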