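import Groth.Agent.Brauer.K444.AzData
import Mathlib.RingTheory.LocalRing.MaximalIdeal.Basic
import Mathlib.RingTheory.TensorProduct.Maps

/-!
# Automorphisms of Azumaya algebras over local rings are inner

Elementary proof through sandwich data (no theory over the residue field).
-/

set_option autoImplicit false
universe u v
open scoped TensorProduct
open MulOpposite

namespace K280.SkolemLoc

open K444.AzData

section

variable {R : Type u} [CommRing R] {A : Type v} [Ring A] [Algebra R A]

/-- Twisted sandwich operators. -/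
noncomputable def tw (u : A →ₐ[R] A) : (A ⊗[R] Aᵐᵒᵖ) →ₐ[R] Module.End R A :=
  (AlgHom.mulLeftRight R A).comp (Algebra.TensorProduct.map u (AlgHom.id R Aᵐᵒᵖ))

@[simp] theorem tw_tmul (u : A →ₐ[R] A) (a : A) (b : Aᵐᵒᵖ) (z : A) :
    tw u (a ⊗ₜ b) z = u a * z * b.unop := by
  simp [tw]

theorem exists_intertwiners [IsAzumaya R A] (u : A →ₐ[R] A) :
    ∃ (n : ℕ) (x : Fin n → A) (P : Fin n → A → A),
      (∀ i b a, u a * P i b = P i b * a) ∧ ∀ b, ∑ i, P i b * x i = b := by
  obtain ⟨n, x, f, hx, ht⟩ := has_of_isAzumaya (R := R) (A := A)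
  have hinj := (IsAzumaya.bij (R := R) (A := A)).1
  have ht' : ∀ i, ∃ t : A ⊗[R] Aᵐᵒᵖ, AlgHom.mulLeftRight R A t = (Algebra.linearMap R A) ∘ₗ (f i) := by
    intro i
    obtain ⟨m, c, d, h⟩ := ht i
    exact mem_range_of_fintype _ c d h
  choose T hT using ht'
  refine ⟨n, x, fun i b => tw u (T i) b, fun i b a => ?_, fun b => ?_⟩
  · have h1 : (a ⊗ₜ[R] (1 : Aᵐᵒᵖ)) * T i = ((1 : A) ⊗ₜ[R] op a) * T i := by
      apply hinj
      rw [map_mul, map_mul, hT]
      ext z
      simp only [Module.End.mul_apply, LinearMap.comp_apply, Algebra.linearMap_apply,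
        AlgHom.mulLeftRight_apply, unop_one, mul_one, one_mul, unop_op]
      exact (Algebra.commutes _ _).symm
    have h2 := congrArg (fun t => tw u t b) h1
    simp only [map_mul, Module.End.mul_apply, tw_tmul, unop_one, mul_one, map_one, one_mul,
      unop_op] at h2
    exact h2
  · have h1 : ∑ i, ((1 : A) ⊗ₜ[R] op (x i)) * T i = 1 := by
      apply hinj
      rw [map_sum, map_one]
      ext z
      rw [LinearMap.sum_apply]
      simp only [map_mul, Module.End.mul_apply, hT, LinearMap.comp_apply, Algebra.linearMap_apply,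
        AlgHom.mulLeftRight_apply, one_mul, unop_op, Module.End.one_apply]
      conv_rhs => rw [← hx z]
      exact Finset.sum_congr rfl fun i _ => (Algebra.smul_def _ _).symm
    have h2 := congrArg (fun t => tw u t b) h1
    simpa [map_sum, LinearMap.sum_apply] using h2

/-- Skolem–Noether over a local ring. -/
theorem exists_inner [IsLocalRing R] [IsAzumaya R A] [Algebra.IsCentral R A] (u : A ≃ₐ[R] A) :
    ∃ a : Aˣ, ∀ x : A, u x = (a : A) * x * (a⁻¹ : Aˣ) := by
  obtain ⟨n, x, P, hP, hPx⟩ := exists_intertwiners (R := R) u.toAlgHom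
  obtain ⟨n', x', P', hP', hPx'⟩ := exists_intertwiners (R := R) u.symm.toAlgHom
  have hcen : ∀ i b j b', ∃ r : R, algebraMap R A r = P i b * P' j b' := by
    intro i b j b'
    have h : P i b * P' j b' ∈ Subalgebra.center R A := by
      rw [Subalgebra.mem_center_iff]
      intro a
      have h1 : a * P i b = P i b * u.symm a := by
        have := hP i b (u.symm a)
        simpa using this
      have h2 : u.symm a * P' j b' = P' j b' * a := hP' j b' a
      rw [← mul_assoc, h1, mul_assoc, h2, ← mul_assoc]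
    rw [Algebra.IsCentral.center_eq_bot, Algebra.mem_bot] at h
    exact h
  choose r hr using hcen
  obtain ⟨g, hg⟩ := exists_linear_one (R := R) (A := A)
  have h1 : ∑ i, ∑ j, r i 1 j (x i) * g (x' j) = 1 := by
    have h2 : (1 : A) = ∑ i, ∑ j, r i 1 j (x i) • x' j := by
      conv_lhs => rw [← hPx 1]
      refine Finset.sum_congr rfl fun i _ => ?_
      conv_lhs => rw [← hPx' (x i)]
      rw [Finset.mul_sum]
      refine Finset.sum_congr rfl fun j _ => ?_
      rw [Algebra.smul_def, hr, mul_assoc]
    have h3 := congrArg g h2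
    rw [hg, map_sum] at h3
    rw [h3]
    refine Finset.sum_congr rfl fun i _ => ?_
    rw [map_sum]
    refine Finset.sum_congr rfl fun j _ => ?_
    rw [map_smul, smul_eq_mul]
  obtain ⟨i, j, hu⟩ : ∃ i j, IsUnit (r i 1 j (x i)) := by
    by_contra hcon
    push Not at hcon
    have h2 : (1 : R) ∈ IsLocalRing.maximalIdeal R := by
      rw [← h1]
      exact Submodule.sum_mem _ fun i _ => Submodule.sum_mem _ fun j _ => Ideal.mul_mem_right _ _ (hcon i j)
    exact (IsLocalRing.maximalIdeal.isMaximal R).ne_top ((Ideal.eq_top_iff_one _).2 h2)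
  -- `a = P i 1`, `a' = P' j (x i)`, `a * a' = c` a unit
  set a := P i 1 with ha
  set a' := P' j (x i) with ha'
  obtain ⟨c, hc⟩ := hu
  have haa' : a * a' = algebraMap R A c := by rw [hc]; exact (hr i 1 j (x i)).symm
  have hcen' : ∃ s : R, algebraMap R A s = a' * a := by
    have h : a' * a ∈ Subalgebra.center R A := by
      rw [Subalgebra.mem_center_iff]
      intro z
      have e1 : z * a' = a' * u z := by
        have := hP' j (x i) (u z)
        simpa using this
      have e2 : u z * a = a * z := hP i 1 z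
      rw [← mul_assoc, e1, mul_assoc, e2, ← mul_assoc]
    rw [Algebra.IsCentral.center_eq_bot, Algebra.mem_bot] at h
    exact h
  obtain ⟨s, hs⟩ := hcen'
  have h3 : algebraMap R A c * a = a * algebraMap R A s := by
    rw [← haa', hs, mul_assoc]
  have h4 : algebraMap R A c * algebraMap R A c = algebraMap R A s * algebraMap R A c := by
    calc algebraMap R A c * algebraMap R A c = algebraMap R A c * (a * a') := by rw [haa']
      _ = (a * algebraMap R A s) * a' := by rw [← mul_assoc, h3]
      _ = algebraMap R A s * (a * a') := by rw [← Algebra.commutes, mul_assoc]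
      _ = algebraMap R A s * algebraMap R A c := by rw [haa']
  have h5 : algebraMap R A s = algebraMap R A c := by
    have hcu : IsUnit (algebraMap R A c) := (c.isUnit).map (algebraMap R A)
    exact (hcu.mul_left_injective h4).symm
  have ha'a : a' * a = algebraMap R A c := by rw [← hs, h5]
  let ci : R := ((c⁻¹ : Rˣ) : R)
  have hci : (c : R) * ci = 1 := c.mul_inv
  let w : Aˣ := ⟨a, ci • a', by
      rw [mul_smul_comm, haa', Algebra.smul_def, ← map_mul, mul_comm, hci, map_one],
    by rw [smul_mul_assoc, ha'a, Algebra.smul_def, ← map_mul, mul_comm, hci, map_one]⟩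
  refine ⟨w, fun z => ?_⟩
  have e2 : u z * (w : A) = (w : A) * z := hP i 1 z
  rw [← e2, mul_assoc, Units.mul_inv, mul_one]

theorem unit_unique [Algebra.IsCentral R A] [FaithfulSMul R A] (u : A ≃ₐ[R] A) (a a' : Aˣ)
    (h : ∀ x : A, u x = (a : A) * x * (a⁻¹ : Aˣ)) (h' : ∀ x : A, u x = (a' : A) * x * (a'⁻¹ : Aˣ)) :
    ∃ c : Rˣ, (a' : A) = algebraMap R A (c : R) * (a : A) := by
  have key : ∀ b b' : Aˣ, (∀ x : A, u x = (b : A) * x * (b⁻¹ : Aˣ)) →
      (∀ x : A, u x = (b' : A) * x * (b'⁻¹ : Aˣ)) → ∃ r : R, algebraMap R A r = (b' : A) * (b⁻¹ : Aˣ) := by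
    intro b b' hb hb'
    have hmem : (b' : A) * (b⁻¹ : Aˣ) ∈ Subalgebra.center R A := by
      rw [Subalgebra.mem_center_iff]
      intro z
      obtain ⟨y, rfl⟩ := u.surjective z
      have e1 : u y * (b' : A) = b' * y := by rw [hb' y, mul_assoc, Units.inv_mul, mul_one]
      have e2 : ((b⁻¹ : Aˣ) : A) * u y = y * (b⁻¹ : Aˣ) := by
        rw [hb y, ← mul_assoc, ← mul_assoc, Units.inv_mul, one_mul]
      rw [← mul_assoc, e1, mul_assoc, mul_assoc, e2]
    rw [Algebra.IsCentral.center_eq_bot, Algebra.mem_bot] at hmem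
    exact hmem
  obtain ⟨r, hr⟩ := key a a' h h'
  obtain ⟨s, hs⟩ := key a' a h' h
  have hinj : Function.Injective (algebraMap R A) := FaithfulSMul.algebraMap_injective R A
  have hrs : r * s = 1 := by
    apply hinj
    rw [map_mul, hr, hs, map_one, mul_assoc, ← mul_assoc ((a⁻¹ : Aˣ) : A), Units.inv_mul, one_mul,
      Units.mul_inv]
  refine ⟨⟨r, s, hrs, by rw [mul_comm]; exact hrs⟩, ?_⟩
  change (a' : A) = algebraMap R A r * a
  rw [hr, mul_assoc, Units.inv_mul, mul_one]

end

end K280.SkolemLoc
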