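import Groth.Agent.Dix.K280.AzFibre
import Groth.Agent.Dix.K280.IsoLift
import Mathlib.RingTheory.Unramified.Field
import Mathlib.RingTheory.Unramified.Finite
import Mathlib.RingTheory.Etale.Basic
import Mathlib.RingTheory.Ideal.Quotient.ChineseRemainder
import Mathlib.RingTheory.Jacobson.Ring

/-!
# Azumaya algebras over local rings are free over maximal étale subalgebras and split by them
-/

set_option autoImplicit false
universe u v w
open scoped TensorProduct
open IsLocalRing

namespace K280.SplitEtale

section lin

variable {R : Type u} [CommRing R] [IsLocalRing R] {M : Type v} [AddCommGroup M] [Module R M]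
  {N : Type w} [AddCommGroup N] [Module R N]

/-- A linear map between finite free modules of the same rank which is injective on the special fibre is
bijective. -/
theorem bijective_of_residue [Module.Finite R M] [Module.Free R M] [Module.Finite R N] [Module.Free R N]
    (f : M →ₗ[R] N) (hd : Module.finrank R M = Module.finrank R N)
    (hf : ∀ x : M, f x ∈ (maximalIdeal R • ⊤ : Submodule R N) → x ∈ (maximalIdeal R • ⊤ : Submodule R M)) :
    Function.Bijective f := by
  have hinj0 : Function.Injective (f.baseChange (ResidueField R)) := by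
    rw [injective_iff_map_eq_zero]
    intro t ht
    obtain ⟨a, rfl⟩ : ∃ a : M, (1 : ResidueField R) ⊗ₜ[R] a = t :=
      TensorProduct.mk_surjective R M (ResidueField R) Ideal.Quotient.mk_surjective _
    rw [LinearMap.baseChange_tmul, ← IsoLift.mem_smul_top_iff] at ht
    rw [← IsoLift.mem_smul_top_iff]
    exact hf a ht
  have hsurj0 : Function.Surjective (f.baseChange (ResidueField R)) := by
    refine (LinearMap.injective_iff_surjective_of_finrank_eq_finrank ?_).1 hinj0
    rw [Module.finrank_baseChange, Module.finrank_baseChange, hd]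
  constructor
  · have h5 : Function.Injective (f.lTensor (ResidueField R)) := hinj0
    obtain ⟨l, hl⟩ := (IsLocalRing.split_injective_iff_lTensor_residueField_injective f).2 h5
    exact Function.HasLeftInverse.injective ⟨l, LinearMap.congr_fun hl⟩
  · have h1 : (⊤ : Submodule R N) ≤ LinearMap.range f := by
      refine Submodule.le_of_le_smul_of_le_jacobson_bot (I := maximalIdeal R)
        Module.Finite.fg_top (IsLocalRing.maximalIdeal_le_jacobson _) ?_
      intro n _
      obtain ⟨t, ht⟩ := hsurj0 (1 ⊗ₜ n)
      obtain ⟨a, rfl⟩ : ∃ a : M, (1 : ResidueField R) ⊗ₜ[R] a = t :=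
        TensorProduct.mk_surjective R M (ResidueField R) Ideal.Quotient.mk_surjective _
      refine Submodule.mem_sup.2 ⟨f a, ⟨a, rfl⟩, n - f a, ?_, by rw [add_sub_cancel]⟩
      rw [IsoLift.mem_smul_top_iff, TensorProduct.tmul_sub, ← ht, LinearMap.baseChange_tmul, sub_self]
    intro n
    exact h1 (Submodule.mem_top (x := n))

end lin

section act

variable {R : Type u} [CommRing R] {A : Type v} [Ring A] [Algebra R A]
  {E : Type w} [CommRing E] [Algebra R E] (u : E →ₐ[R] A) [Module E A] [IsScalarTower R E A]

/-- Left multiplication is linear for the right `E`-module structure. -/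
def mulE (hmod : ∀ (e : E) (a : A), e • a = a * u e) : A →ₐ[R] Module.End E A where
  toFun := fun a =>
      { toFun := fun x => a * x
        map_add' := fun x y => mul_add a x y
        map_smul' := fun l x => by simp [hmod, mul_assoc] }
  map_one' := by ext; simp
  map_mul' := fun x y => by ext; simp [mul_assoc]
  map_zero' := by ext; simp
  map_add' := fun x y => by ext; simp [add_mul]
  commutes' := fun c => by
      ext x
      simp [Algebra.algebraMap_eq_smul_one]

theorem mulE_apply (hmod : ∀ (e : E) (a : A), e • a = a * u e) (a x : A) : mulE u hmod a x = a * x := rfl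

variable (F : Type*) [Field F] [Algebra E F] [Algebra R F] [IsScalarTower R E F]

/-- The action of `A` on `F ⊗[E] A`. -/
noncomputable def act (hmod : ∀ (e : E) (a : A), e • a = a * u e) : A →ₐ[R] Module.End F (F ⊗[E] A) where
  toFun a := (mulE u hmod a).baseChange F
  map_one' := by ext; simp
  map_mul' a b := by ext; simp
  map_zero' := by ext; simp
  map_add' a b := by ext; simp
  commutes' r := by
    ext x
    simp only [TensorProduct.AlgebraTensorModule.curry_apply, LinearMap.restrictScalars_self,
      TensorProduct.curry_apply, LinearMap.coe_restrictScalars, LinearMap.baseChange_tmul,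
      Module.algebraMap_end_apply, mulE_apply, ← Algebra.smul_def]
    rw [TensorProduct.smul_tmul', ← algebraMap_smul E r (1 : F), TensorProduct.smul_tmul, algebraMap_smul]

/-- The action of `F ⊗[R] A` on `F ⊗[E] A`. -/
noncomputable def Psi (hmod : ∀ (e : E) (a : A), e • a = a * u e) :
    F ⊗[R] A →ₐ[F] Module.End F (F ⊗[E] A) :=
  Algebra.TensorProduct.lift (Algebra.ofId F _) (act u F hmod) (fun c a => by
    rw [Algebra.ofId_apply]
    exact Algebra.commutes c (act u F hmod a))

theorem Psi_tmul (hmod : ∀ (e : E) (a : A), e • a = a * u e) (c : F) (a y : A) :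
    Psi u F hmod (c ⊗ₜ a) (1 ⊗ₜ y) = c ⊗ₜ (a * y) := by
  simp only [Psi, Algebra.TensorProduct.lift_tmul, Algebra.ofId_apply, Module.End.mul_apply,
    Module.algebraMap_end_apply]
  change c • ((mulE u hmod a).baseChange F) (1 ⊗ₜ y) = _
  rw [LinearMap.baseChange_tmul, mulE_apply, TensorProduct.smul_tmul', smul_eq_mul, mul_one]

theorem Psi_injective [IsAzumaya R A] (hmod : ∀ (e : E) (a : A), e • a = a * u e) [Nontrivial (F ⊗[E] A)] :
    Function.Injective (Psi u F hmod) := by
  have := (AzFibre.fibre R A F).2.1
  have : Nontrivial (Module.End F (F ⊗[E] A)) := inferInstance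
  exact (Psi u F hmod).toRingHom.injective

theorem le_finrank [Nontrivial R] [IsAzumaya R A] [Module.Free R A] (hmod : ∀ (e : E) (a : A), e • a = a * u e)
    [Nontrivial (F ⊗[E] A)] [Module.Finite F (F ⊗[E] A)] (r : ℕ) (hA : Module.finrank R A = r ^ 2) :
    r ≤ Module.finrank F (F ⊗[E] A) := by
  have h1 := LinearMap.finrank_le_finrank_of_injective (f := (Psi u F hmod).toLinearMap)
    (Psi_injective u F hmod)
  rw [Module.finrank_baseChange, Module.finrank_linearMap, hA, ← pow_two] at h1
  exact (Nat.pow_le_pow_iff_left (by norm_num : (2 : ℕ) ≠ 0)).1 h1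

end act

section spec

variable (R : Type u) [CommRing R] [IsLocalRing R] (E : Type v) [CommRing E] [Algebra R E] [Module.Finite R E]

theorem algebraMap_mem (P : Ideal E) [P.IsMaximal] {r : R} (hr : r ∈ maximalIdeal R) : algebraMap R E r ∈ P := by
  have h : (P.comap (algebraMap R E)).IsMaximal := Ideal.isMaximal_comap_of_isIntegral_of_isMaximal P
  rw [← IsLocalRing.eq_maximalIdeal h] at hr
  exact hr

theorem mem_of_mem_smul {M : Type w} [AddCommGroup M] [Module R M] [Module E M] [IsScalarTower R E M]
    (P : Ideal E) [P.IsMaximal] {x : M} (hx : x ∈ (maximalIdeal R • ⊤ : Submodule R M)) :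
    x ∈ (P • ⊤ : Submodule E M) := by
  refine Submodule.smul_induction_on hx (fun r hr n _ => ?_) (fun x y hx hy => Submodule.add_mem _ hx hy)
  rw [← algebraMap_smul E r n]
  exact Submodule.smul_mem_smul (algebraMap_mem R E P hr) trivial

theorem includeRight_surjective : Function.Surjective
    (Algebra.TensorProduct.includeRight : E →ₐ[R] ResidueField R ⊗[R] E) :=
  TensorProduct.mk_surjective R E (ResidueField R) Ideal.Quotient.mk_surjective

include R in
theorem finite_maximalSpectrum : Finite (MaximalSpectrum E) := by
  have hsurj := includeRight_surjective R E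
  have hart : IsArtinianRing (ResidueField R ⊗[R] E) := IsArtinianRing.of_finite (ResidueField R) _
  let π : E →+* ResidueField R ⊗[R] E :=
    (Algebra.TensorProduct.includeRight : E →ₐ[R] ResidueField R ⊗[R] E).toRingHom
  let f : MaximalSpectrum (ResidueField R ⊗[R] E) → MaximalSpectrum E := fun Q =>
    ⟨Q.asIdeal.comap π, Ideal.comap_isMaximal_of_surjective π hsurj (H := Q.isMaximal)⟩
  refine Finite.of_surjective f fun P => ?_
  have hP := P.isMaximal
  have hker : ∀ x : E, π x = 0 → x ∈ P.asIdeal := by
    intro x hx
    have h1 : (1 : ResidueField R) ⊗ₜ[R] x = 0 := hx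
    rw [← IsoLift.mem_smul_top_iff] at h1
    have h2 := mem_of_mem_smul R E P.asIdeal h1
    simpa using h2
  have hle : RingHom.ker π ≤ P.asIdeal := fun x hx => hker x hx
  have h3 : (P.asIdeal.map π).IsMaximal := by
    rcases Ideal.map_eq_top_or_isMaximal_of_surjective π hsurj hP with h | h
    · exfalso
      have h4 := Ideal.comap_map_of_surjective π hsurj P.asIdeal
      rw [h, Ideal.comap_top] at h4
      apply hP.ne_top
      rw [eq_top_iff, h4]
      exact sup_le le_rfl hle
    · exact h
  refine ⟨⟨P.asIdeal.map π, h3⟩, ?_⟩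
  apply MaximalSpectrum.ext
  change (P.asIdeal.map π).comap π = P.asIdeal
  rw [Ideal.comap_map_of_surjective π hsurj]
  exact le_antisymm (sup_le le_rfl hle) le_sup_left

/-- In a finite unramified algebra over a local ring, the intersection of the maximal ideals is generated
by the maximal ideal of the base. -/
theorem mem_of_forall [Algebra.FormallyUnramified R E] (x : E)
    (hx : ∀ P : MaximalSpectrum E, x ∈ P.asIdeal) : (1 : ResidueField R) ⊗ₜ[R] x = 0 := by
  have hsurj := includeRight_surjective R E
  have hart : IsArtinianRing (ResidueField R ⊗[R] E) := IsArtinianRing.of_finite (ResidueField R) _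
  have hred : IsReduced (ResidueField R ⊗[R] E) :=
    Algebra.FormallyUnramified.isReduced_of_field (ResidueField R) _
  let π : E →+* ResidueField R ⊗[R] E :=
    (Algebra.TensorProduct.includeRight : E →ₐ[R] ResidueField R ⊗[R] E).toRingHom
  have h1 : (⊥ : Ideal (ResidueField R ⊗[R] E)).jacobson = ⊥ := by
    have : IsJacobsonRing (ResidueField R ⊗[R] E) := inferInstance
    exact IsJacobsonRing.out this Ideal.isRadical_bot
  have h2 : π x ∈ (⊥ : Ideal (ResidueField R ⊗[R] E)).jacobson := by
    rw [Ideal.jacobson, Ideal.mem_sInf]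
    rintro Q ⟨-, hQ⟩
    exact hx ⟨Q.comap π, Ideal.comap_isMaximal_of_surjective π hsurj (H := hQ)⟩
  rw [h1] at h2
  exact h2

end spec

section main

variable (R : Type u) [CommRing R] [IsLocalRing R] (A : Type v) [Ring A] [Algebra R A] [IsAzumaya R A]
  (r : ℕ) (hA : Module.finrank R A = r ^ 2) (E : Type w) [CommRing E] [Algebra R E]
  [Algebra.FormallyUnramified R E] [Module.Finite R E] [Module.Free R E] (hE : Module.finrank R E = r)
  (u : E →ₐ[R] A) (hu : Function.Injective (u.toLinearMap.lTensor (ResidueField R)))
  [Module E A] [IsScalarTower R E A] (hmod : ∀ (e : E) (a : A), e • a = a * u e)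

include hu hmod in
omit [Algebra.FormallyUnramified R E] [Module.Free R E] in
theorem nontrivial_fibre (P : Ideal E) [P.IsMaximal] : Nontrivial ((E ⧸ P) ⊗[E] A) := by
  have hfA : Module.Free R A := Module.free_of_flat_of_isLocalRing
  have hfin : Module.Finite E A := Module.Finite.of_restrictScalars_finite R E A
  by_contra hcon
  rw [not_nontrivial_iff_subsingleton] at hcon
  have h1 : (⊤ : Submodule E A) ≤ P • ⊤ := by
    intro a _
    have h2 : (TensorProduct.mk E (E ⧸ P) A 1) a = 0 := Subsingleton.elim _ _
    rwa [← LinearMap.mem_ker, LinearMap.ker_tensorProductMk] at h2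
  obtain ⟨p, hp, hp0⟩ := Submodule.exists_sub_one_mem_and_smul_eq_zero_of_fg_of_le_smul P ⊤
    Module.Finite.fg_top h1
  have h3 := hp0 1 trivial
  rw [hmod, one_mul] at h3
  obtain ⟨l, hl⟩ := (IsLocalRing.split_injective_iff_lTensor_residueField_injective u.toLinearMap).2 hu
  have h4 : p = 0 := by
    have h5 := LinearMap.congr_fun hl p
    rw [LinearMap.comp_apply, AlgHom.toLinearMap_apply, h3, map_zero] at h5
    exact h5.symm
  rw [h4, zero_sub] at hp
  exact (Ideal.IsMaximal.ne_top ‹P.IsMaximal›) ((Ideal.eq_top_iff_one P).2 (by simpa using P.neg_mem hp))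

include hA hE hu hmod in
theorem exists_basis : Nonempty (Module.Basis (Fin r) E A) := by
  have hfA : Module.Free R A := Module.free_of_flat_of_isLocalRing
  have hfin : Module.Finite E A := Module.Finite.of_restrictScalars_finite R E A
  have hfinite := finite_maximalSpectrum R E
  let _ := @Ideal.Quotient.field
  have h1 : ∀ P : MaximalSpectrum E, ∃ v : Fin r → (E ⧸ P.1) ⊗[E] A, LinearIndependent (E ⧸ P.1) v := by
    intro P
    have hP := P.isMaximal
    have := nontrivial_fibre R A E u hu hmod P.1
    exact exists_linearIndependent_of_le_finrank (le_finrank u (E ⧸ P.1) hmod r hA)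
  choose v hv using h1
  choose b hb using fun i => Ideal.pi_tensorProductMk_quotient_surjective A (I := fun P : MaximalSpectrum E => P.1)
    (fun _ _ ne => Ideal.isCoprime_of_isMaximal (MaximalSpectrum.ext_iff.ne.mp ne)) (fun P => v P i)
  have hb' : ∀ (P : MaximalSpectrum E) (i : Fin r), (1 : E ⧸ P.1) ⊗ₜ[E] b i = v P i := fun P i =>
    congrFun (hb i) P
  let φ : (Fin r → E) →ₗ[E] A := Fintype.linearCombination E b
  have hφ : ∀ l, φ l = ∑ i, l i • b i := fun l => Fintype.linearCombination_apply E b l
  have hbij : Function.Bijective (φ.restrictScalars R) := by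
    refine bijective_of_residue (φ.restrictScalars R) ?_ ?_
    · rw [Module.finrank_pi_fintype, hA]
      simp [hE, pow_two]
    · intro l hl
      change φ l ∈ _ at hl
      have h2 : ∀ (P : MaximalSpectrum E) i, l i ∈ P.1 := by
        intro P
        have hP := P.isMaximal
        have h3 : (TensorProduct.mk E (E ⧸ P.1) A 1) (φ l) = 0 := by
          rw [← LinearMap.mem_ker, LinearMap.ker_tensorProductMk]
          exact mem_of_mem_smul R E P.1 hl
        rw [hφ, map_sum] at h3
        have h4 : ∑ i, (Ideal.Quotient.mk P.1 (l i)) • v P i = 0 := by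
          rw [← h3]
          refine Finset.sum_congr rfl fun i _ => ?_
          rw [map_smul, ← hb' P i]
          rfl
        intro i
        exact Ideal.Quotient.eq_zero_iff_mem.1 (Fintype.linearIndependent_iff.1 (hv P) _ h4 i)
      have h5 : ∀ i, l i ∈ (maximalIdeal R • ⊤ : Submodule R E) := fun i => by
        rw [IsoLift.mem_smul_top_iff]
        exact mem_of_forall R E (l i) fun P => h2 P i
      have h6 : l = ∑ i, LinearMap.single R (fun _ : Fin r => E) i (l i) := by
        ext j
        simp [Finset.sum_apply, Pi.single_apply]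
      rw [h6]
      refine Submodule.sum_mem _ fun i _ => ?_
      have h7 : Submodule.map (LinearMap.single R (fun _ : Fin r => E) i) (maximalIdeal R • ⊤) ≤
          maximalIdeal R • ⊤ := by
        rw [Submodule.map_smul'']
        exact Submodule.smul_mono le_rfl le_top
      exact h7 (Submodule.mem_map_of_mem (h5 i))
  let e : (Fin r → E) ≃ₗ[E] A := LinearEquiv.ofBijective φ hbij
  exact ⟨Module.Basis.ofEquivFun e.symm⟩

/-- The algebra map `E ⊗[R] A → End_E(A)`. -/
noncomputable def Phi : E ⊗[R] A →ₐ[E] Module.End E A :=
  Algebra.TensorProduct.lift (Algebra.ofId E _) (mulE u hmod) (fun c a => by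
    rw [Algebra.ofId_apply]
    exact Algebra.commutes c (mulE u hmod a))

omit [IsLocalRing R] [IsAzumaya R A] [Algebra.FormallyUnramified R E] [Module.Finite R E] [Module.Free R E] in
theorem Phi_tmul (e : E) (a y : A) : Phi R A E u hmod (e ⊗ₜ a) y = e • (a * y) := by
  simp [Phi, Algebra.ofId_apply, mulE_apply]

include hA hE hu in
theorem Phi_bijective : Function.Bijective (Phi R A E u hmod) := by
  have hfA : Module.Free R A := Module.free_of_flat_of_isLocalRing
  obtain ⟨b⟩ := exists_basis R A r hA E hE u hu hmod
  have hfEA : Module.Free E A := Module.Free.of_basis b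
  have hfinEA : Module.Finite E A := Module.Finite.of_basis b
  have hnt : Nontrivial E := by
    have hA1 := AzFibre.nontrivial_of_isAzumaya R A
    by_contra h
    rw [not_nontrivial_iff_subsingleton] at h
    have h1 : (1 : A) = 0 := by rw [← map_one u, Subsingleton.elim (1 : E) 0, map_zero]
    exact one_ne_zero h1
  have hrk : Module.finrank E A = r := by rw [Module.finrank_eq_card_basis b, Fintype.card_fin]
  have hfEnd : Module.Free R (Module.End E A) := Module.Free.trans (S := E)
  have hfinEnd : Module.Finite R (Module.End E A) := Module.Finite.trans E _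
  have hfT : Module.Free R (E ⊗[R] A) := inferInstance
  have hfinT : Module.Finite R (E ⊗[R] A) := inferInstance
  let _ := @Ideal.Quotient.field
  refine bijective_of_residue ((Phi R A E u hmod).toLinearMap.restrictScalars R) ?_ ?_
  · rw [Module.finrank_tensorProduct, hE, hA, ← Module.finrank_mul_finrank R E (Module.End E A),
      Module.finrank_linearMap, hrk, hE, pow_two]
  · intro t ht
    change Phi R A E u hmod t ∈ _ at ht
    have h1 : ∀ y : A, Phi R A E u hmod t y ∈ (maximalIdeal R • ⊤ : Submodule R A) := by
      intro y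
      have h2 : Submodule.map (LinearMap.applyₗ' R y : Module.End E A →ₗ[R] A) (maximalIdeal R • ⊤) ≤
          maximalIdeal R • ⊤ := by
        rw [Submodule.map_smul'']
        exact Submodule.smul_mono le_rfl le_top
      exact h2 (Submodule.mem_map_of_mem ht)
    let bA := Module.Free.chooseBasis R A
    -- coordinates of `t`
    let c := (bA.baseChange E).repr t
    have hc : t = ∑ i, c i ⊗ₜ[R] bA i := by
      conv_lhs => rw [← (bA.baseChange E).sum_repr t]
      refine Finset.sum_congr rfl fun i _ => ?_
      rw [Module.Basis.baseChange_apply, TensorProduct.smul_tmul', smul_eq_mul, mul_one]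
    have h3 : ∀ (P : MaximalSpectrum E) i, c i ∈ P.1 := by
      intro P
      have hP := P.isMaximal
      have := nontrivial_fibre R A E u hu hmod P.1
      have h4 : Psi u (E ⧸ P.1) hmod (∑ i, (Ideal.Quotient.mk P.1 (c i)) ⊗ₜ[R] bA i) = 0 := by
        apply LinearMap.ext
        intro z
        induction z using TensorProduct.induction_on with
        | zero => simp
        | tmul q y =>
          have h5 : q ⊗ₜ[E] y = q • ((1 : E ⧸ P.1) ⊗ₜ[E] y) := by
            rw [TensorProduct.smul_tmul', smul_eq_mul, mul_one]
          rw [h5, map_smul, map_sum, LinearMap.sum_apply]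
          have h6 : ∑ i, Psi u (E ⧸ P.1) hmod ((Ideal.Quotient.mk P.1 (c i)) ⊗ₜ[R] bA i)
              ((1 : E ⧸ P.1) ⊗ₜ[E] y) = (TensorProduct.mk E (E ⧸ P.1) A 1) (Phi R A E u hmod t y) := by
            conv_rhs => rw [hc, map_sum, LinearMap.sum_apply, map_sum]
            refine Finset.sum_congr rfl fun i _ => ?_
            rw [Psi_tmul, Phi_tmul, map_smul, TensorProduct.mk_apply, TensorProduct.smul_tmul',
              ← Algebra.algebraMap_eq_smul_one]
            rfl
          rw [h6]
          have h7 := mem_of_mem_smul R E P.1 (h1 y)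
          rw [← LinearMap.ker_tensorProductMk, LinearMap.mem_ker] at h7
          rw [h7, smul_zero, LinearMap.zero_apply]
        | add x y hx hy => rw [map_add, hx, hy, map_add]
      have h8 := Psi_injective u (E ⧸ P.1) hmod (h4.trans (map_zero _).symm)
      intro i
      have h9 : ∑ i, (Ideal.Quotient.mk P.1 (c i)) • (bA.baseChange (E ⧸ P.1)) i = 0 := by
        rw [← h8]
        refine Finset.sum_congr rfl fun i _ => ?_
        rw [Module.Basis.baseChange_apply, TensorProduct.smul_tmul', smul_eq_mul, mul_one]
      exact Ideal.Quotient.eq_zero_iff_mem.1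
        (Fintype.linearIndependent_iff.1 (bA.baseChange (E ⧸ P.1)).linearIndependent _ h9 i)
    have h5 : ∀ i, c i ∈ (maximalIdeal R • ⊤ : Submodule R E) := fun i => by
      rw [IsoLift.mem_smul_top_iff]
      exact mem_of_forall R E (c i) fun P => h3 P i
    rw [hc]
    refine Submodule.sum_mem _ fun i _ => ?_
    have h7 : Submodule.map ((TensorProduct.mk R E A).flip (bA i)) (maximalIdeal R • ⊤) ≤
        maximalIdeal R • ⊤ := by
      rw [Submodule.map_smul'']
      exact Submodule.smul_mono le_rfl le_top
    exact h7 (Submodule.mem_map_of_mem (h5 i))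

end main

end K280.SplitEtale
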