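import Mathlib.LinearAlgebra.StdBasis
import Mathlib.LinearAlgebra.Basis.Basic
import Mathlib.LinearAlgebra.FreeModule.Basic
import Mathlib.RingTheory.TensorProduct.Basic
import Groth.Agent.Brauer.K444.AzData

/-!
# Algebras given by structure constants, with sandwich data

`IsPt c u t`: `c` are the structure constants of an associative algebra with underlying module
`ι → T`, with unit `u`, and `t i` is a sandwich representation of the `i`-th coordinate.
-/

set_option autoImplicit false

universe u v w

open TensorProduct Module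

namespace K280.StructConst

variable {T : Type u} [CommRing T] {ι : Type} [Fintype ι] [DecidableEq ι]

/-- multiplication from structure constants. -/
noncomputable def mulL (c : ι → ι → ι → T) : (ι → T) →ₗ[T] (ι → T) →ₗ[T] (ι → T) :=
  (Pi.basisFun T ι).constr T (fun i => (Pi.basisFun T ι).constr T (fun j => c i j))

omit [DecidableEq ι] in
theorem mulL_apply (c : ι → ι → ι → T) (x y : ι → T) (l : ι) :
    mulL c x y l = ∑ i, ∑ j, x i * (y j * c i j l) := by
  simp [mulL, Basis.constr_apply_fintype, LinearMap.sum_apply, Finset.mul_sum]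

theorem mulL_single (c : ι → ι → ι → T) (i j : ι) :
    mulL c (Pi.single i 1) (Pi.single j 1) = c i j := by
  rw [mulL, ← Pi.basisFun_apply, ← Pi.basisFun_apply, Basis.constr_basis, Basis.constr_basis]

theorem mulL_single_left (c : ι → ι → ι → T) (i : ι) (y : ι → T) (l : ι) :
    mulL c (Pi.single i 1) y l = ∑ j, y j * c i j l := by
  rw [mulL, ← Pi.basisFun_apply, Basis.constr_basis]
  simp [Basis.constr_apply_fintype]

theorem mulL_single_right (c : ι → ι → ι → T) (j : ι) (x : ι → T) (l : ι) :
    mulL c x (Pi.single j 1) l = ∑ i, x i * c i j l := by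
  rw [mulL_apply]
  refine Finset.sum_congr rfl (fun i _ => ?_)
  rw [Finset.sum_eq_single j]
  · simp
  · intro k _ hk; simp [Pi.single_eq_of_ne hk]
  · simp

theorem linear_ext {P : Type v} [AddCommGroup P] [Module T P] {f g : (ι → T) →ₗ[T] P}
    (h : ∀ i, f (Pi.single i 1) = g (Pi.single i 1)) : f = g := by
  refine (Pi.basisFun T ι).ext (fun i => ?_)
  rw [Pi.basisFun_apply]; exact h i

/-- The conditions for an associative unital algebra. -/
structure IsAlg (c : ι → ι → ι → T) (u : ι → T) : Prop where
  assoc : ∀ i j k l, ∑ m, c i j m * c m k l = ∑ m, c j k m * c i m l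
  one_mul : ∀ j l, ∑ i, u i * c i j l = if j = l then 1 else 0
  mul_one : ∀ j l, ∑ i, u i * c j i l = if j = l then 1 else 0

/-- The conditions with sandwich data. -/
structure IsPt (c : ι → ι → ι → T) (u : ι → T) (t : ι → ι → ι → T) : Prop extends IsAlg c u where
  sand : ∀ i m p, ∑ j, ∑ l, t i j l * (∑ q, c j m q * c q l p) = if i = m then u p else 0

theorem mulL_assoc {c : ι → ι → ι → T}
    (h : ∀ i j k l, ∑ m, c i j m * c m k l = ∑ m, c j k m * c i m l) (x y z : ι → T) :
    mulL c (mulL c x y) z = mulL c x (mulL c y z) := by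
  let F : (ι → T) →ₗ[T] (ι → T) →ₗ[T] (ι → T) →ₗ[T] (ι → T) := (mulL c).compr₂ (mulL c)
  let G : (ι → T) →ₗ[T] (ι → T) →ₗ[T] (ι → T) →ₗ[T] (ι → T) :=
    ((LinearMap.llcomp T (ι → T) (ι → T) (ι → T)).comp (mulL c)).compl₂ (mulL c)
  have hFG : F = G := by
    refine linear_ext (fun i => linear_ext (fun j => linear_ext (fun k => ?_)))
    funext l
    change mulL c (mulL c _ _) _ l = mulL c _ (mulL c _ _) l
    rw [mulL_single, mulL_single, mulL_single_left, mulL_single_right]
    exact h i j k l
  exact congrFun (congrArg DFunLike.coe (congrFun (congrArg DFunLike.coe (congrFun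
    (congrArg DFunLike.coe hFG) x)) y)) z

theorem mulL_one {c : ι → ι → ι → T} {u : ι → T}
    (h : ∀ j l, ∑ i, u i * c j i l = if j = l then 1 else 0) (x : ι → T) : mulL c x u = x := by
  have : (mulL c).flip u = LinearMap.id := by
    refine linear_ext (fun j => ?_)
    funext l
    rw [LinearMap.flip_apply, mulL_single_left, h, LinearMap.id_apply]
    by_cases hj : j = l
    · subst hj; simp
    · rw [if_neg hj, Pi.single_eq_of_ne (Ne.symm hj)]
  exact congrFun (congrArg DFunLike.coe this) x

theorem one_mulL {c : ι → ι → ι → T} {u : ι → T}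
    (h : ∀ j l, ∑ i, u i * c i j l = if j = l then 1 else 0) (x : ι → T) : mulL c u x = x := by
  have : mulL c u = LinearMap.id := by
    refine linear_ext (fun j => ?_)
    funext l
    rw [mulL_single_right, h, LinearMap.id_apply]
    by_cases hj : j = l
    · subst hj; simp
    · rw [if_neg hj, Pi.single_eq_of_ne (Ne.symm hj)]
  exact congrFun (congrArg DFunLike.coe this) x

/-- The algebra attached to a point. -/
def Alg {c : ι → ι → ι → T} {u : ι → T} (_ : IsAlg c u) : Type u := ι → T

variable {c : ι → ι → ι → T} {u : ι → T} {t : ι → ι → ι → T} (h : IsAlg c u)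

noncomputable instance : AddCommGroup (Alg h) := inferInstanceAs (AddCommGroup (ι → T))
noncomputable instance : Module T (Alg h) := inferInstanceAs (Module T (ι → T))

noncomputable instance : Mul (Alg h) := ⟨fun x y => mulL c x y⟩
noncomputable instance : One (Alg h) := ⟨u⟩

theorem mul_def (x y : Alg h) : x * y = mulL c x y := rfl
theorem one_def : (1 : Alg h) = u := rfl

noncomputable instance : Ring (Alg h) :=
  { (inferInstance : AddCommGroup (Alg h)) with
    mul := fun x y => mulL c x y
    one := u
    left_distrib := fun x y z => by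
      change mulL c x (y + z) = mulL c x y + mulL c x z
      exact map_add _ _ _
    right_distrib := fun x y z => by
      change mulL c (x + y) z = mulL c x z + mulL c y z
      exact congrFun (congrArg DFunLike.coe (map_add (mulL c) x y)) z
    zero_mul := fun x => by
      change mulL c (0 : ι → T) x = (0 : ι → T)
      rw [map_zero]; rfl
    mul_zero := fun x => by
      change mulL c x (0 : ι → T) = (0 : ι → T)
      exact map_zero _
    mul_assoc := fun x y z => mulL_assoc h.assoc x y z
    one_mul := fun x => one_mulL h.one_mul x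
    mul_one := fun x => mulL_one h.mul_one x }

omit [DecidableEq ι] in
theorem smul_mulL (c : ι → ι → ι → T) (r : T) (x y : ι → T) :
    mulL c (r • x) y = r • mulL c x y := by
  rw [map_smul]; rfl

omit [DecidableEq ι] in
theorem mulL_smul (c : ι → ι → ι → T) (r : T) (x y : ι → T) :
    mulL c x (r • y) = r • mulL c x y := by
  rw [map_smul]

noncomputable instance : Algebra T (Alg h) :=
  Algebra.ofModule (fun r x y => smul_mulL c r x y) (fun r x y => mulL_smul c r x y)

/-- The basis. -/
noncomputable def basis : Basis ι T (Alg h) := Pi.basisFun T ι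

theorem basis_apply (i : ι) : basis h i = (Pi.single i 1 : ι → T) := Pi.basisFun_apply T ι i

theorem basis_repr (x : Alg h) (i : ι) : (basis h).repr x i = (x : ι → T) i := by
  exact Pi.basisFun_repr (R := T) (η := ι) (x : ι → T) i

theorem basis_mul (i j : ι) : basis h i * basis h j = (c i j : ι → T) := by
  rw [mul_def, basis_apply, basis_apply, mulL_single]

theorem basis_mul_mul (j m l p : ι) :
    (basis h).repr (basis h j * basis h m * basis h l) p = ∑ q, c j m q * c q l p := by
  have h1 : basis h j * basis h m * basis h l =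
      mulL c (mulL c (Pi.single j 1) (Pi.single m 1)) (Pi.single l 1) := by
    rw [mul_def, mul_def, basis_apply, basis_apply, basis_apply]
  refine (basis_repr h _ p).trans ((congrFun h1 p).trans ?_)
  rw [mulL_single, mulL_single_right]

theorem sand (hs : ∀ i m p, ∑ j, ∑ l, t i j l * (∑ q, c j m q * c q l p) =
    if i = m then u p else 0) (i : ι) (x : Alg h) :
    ∑ j, ∑ l, t i j l • (basis h j * x * basis h l) = (basis h).repr x i • (1 : Alg h) := by
  let F : Alg h →ₗ[T] Alg h := ∑ j, ∑ l, t i j l •
    ((LinearMap.mulRight T (basis h l)).comp (LinearMap.mulLeft T (basis h j)))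
  let G : Alg h →ₗ[T] Alg h := ((basis h).coord i).smulRight (1 : Alg h)
  have hFG : F = G := by
    refine (basis h).ext (fun m => ?_)
    have h1 : F (basis h m) = ∑ j, ∑ l, t i j l • (basis h j * basis h m * basis h l) := by
      simp [F, LinearMap.sum_apply]
    have h2 : G (basis h m) = (if i = m then (1 : Alg h) else 0) := by
      simp only [G, LinearMap.smulRight_apply, Basis.coord_apply, Basis.repr_self]
      by_cases him : i = m
      · subst him; simp
      · rw [if_neg him, Finsupp.single_eq_of_ne (by exact him), zero_smul]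
    rw [h1, h2]
    refine (basis h).repr.injective ?_
    ext p
    rw [map_sum, Finsupp.finsetSum_apply]
    simp only [map_sum, Finsupp.finsetSum_apply, map_smul, Finsupp.smul_apply, smul_eq_mul]
    simp only [basis_mul_mul]
    rw [hs]
    split_ifs
    · rw [basis_repr, one_def]
    · rw [map_zero]; rfl
  have := congrFun (congrArg DFunLike.coe hFG) x
  simpa [F, G, LinearMap.sum_apply] using this

theorem has (hs : ∀ i m p, ∑ j, ∑ l, t i j l * (∑ q, c j m q * c q l p) =
    if i = m then u p else 0) : K444.AzData.Has T (Alg h) := by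
  refine K444.AzData.Has.of_fintype (basis h) (fun i => (basis h).coord i) ?_ ?_
  · intro a
    simp
  · intro i
    refine ⟨ι × ι, inferInstance, fun p => t i p.1 p.2 • basis h p.1, fun p => basis h p.2,
      fun a => ?_⟩
    rw [Fintype.sum_prod_type, Basis.coord_apply, Algebra.algebraMap_eq_smul_one, ← sand h hs]
    simp

theorem faithful [Nonempty ι] : FaithfulSMul T (Alg h) := by
  obtain ⟨i⟩ := (inferInstance : Nonempty ι)
  refine ⟨fun {r s} hrs => ?_⟩
  have h1 := congrArg (fun z => (basis h).repr z i) (hrs (basis h i))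
  simpa using h1

theorem isAzumaya [Nonempty ι] (hs : ∀ i m p, ∑ j, ∑ l, t i j l * (∑ q, c j m q * c q l p) =
    if i = m then u p else 0) : IsAzumaya T (Alg h) := by
  have := faithful h
  exact K444.AzData.isAzumaya_of_has (has h hs)

omit [DecidableEq ι] in
/-- Separability idempotent from sandwich data. -/
theorem exists_sep {A : Type v} [Ring A] [Algebra T A] (b : Basis ι T A) (t : ι → ι → ι → T)
    (ht : ∀ i x, ∑ j, ∑ l, t i j l • (b j * x * b l) = b.repr x i • (1 : A)) (o : ι) :
    ∃ e : ι → ι → T, (∑ j, ∑ l, e j l • (b j * b l) = 1) ∧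
      ∀ i p q, ∑ j, e j q * b.repr (b i * b j) p = ∑ l, e p l * b.repr (b l * b i) q := by
  let lam : A →ₗ[T] T := (b.coord o).comp (LinearMap.mulLeft T (b o))
  have hlam : ∀ x, lam x = b.repr (b o * x) o := fun x => rfl
  let e : ι → ι → T := fun j l => ∑ m, lam (b m) * t m j l
  have he : ∀ x, ∑ j, ∑ l, e j l • (b j * x * b l) = lam x • (1 : A) := by
    intro x
    have h1 : lam x = ∑ m, b.repr x m * lam (b m) := by
      conv_lhs => rw [← b.sum_repr x, map_sum]
      simp
    have h2 : lam x • (1 : A) = ∑ m, lam (b m) • ∑ j, ∑ l, t m j l • (b j * x * b l) := by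
      rw [h1, Finset.sum_smul]
      refine Finset.sum_congr rfl (fun m _ => ?_)
      rw [ht, smul_smul, mul_comm]
    rw [h2]
    simp only [e, Finset.sum_smul, Finset.smul_sum, mul_smul]
    symm
    rw [Finset.sum_comm]
    refine Finset.sum_congr rfl (fun j _ => ?_)
    rw [Finset.sum_comm]
  refine ⟨e, ?_, fun i p q => ?_⟩
  · have := he 1
    simp only [mul_one] at this
    rw [this, hlam, mul_one, Basis.repr_self, Finsupp.single_eq_same, one_smul]
  · have hf : FaithfulSMul T A := by
      refine ⟨fun {r s} hrs => ?_⟩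
      have h1 := congrArg (fun z => b.repr z o) (hrs (b o))
      simpa using h1
    have hAz : IsAzumaya T A := by
      refine K444.AzData.isAzumaya_of_has
        (K444.AzData.Has.of_fintype b (fun i => b.coord i) ?_ ?_)
      · intro a; simp
      · intro i
        refine ⟨ι × ι, inferInstance, fun p => t i p.1 p.2 • b p.1, fun p => b p.2,
          fun a => ?_⟩
        rw [Fintype.sum_prod_type, Basis.coord_apply, Algebra.algebraMap_eq_smul_one, ← ht]
        simp
    let E : A ⊗[T] Aᵐᵒᵖ := ∑ j, ∑ l, e j l • (b j ⊗ₜ MulOpposite.op (b l))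
    have hE : ∀ x, AlgHom.mulLeftRight T A E x = lam x • (1 : A) := by
      intro x
      rw [← he x]
      simp only [E, map_sum, map_smul, LinearMap.sum_apply, LinearMap.smul_apply,
        AlgHom.mulLeftRight_apply, MulOpposite.unop_op]
    have hEE : (b i ⊗ₜ[T] (1 : Aᵐᵒᵖ)) * E = ((1 : A) ⊗ₜ[T] MulOpposite.op (b i)) * E := by
      refine hAz.bij.injective ?_
      refine LinearMap.ext (fun x => ?_)
      rw [map_mul, map_mul, Module.End.mul_apply, Module.End.mul_apply, hE]
      simp
    let φ : A ⊗[T] Aᵐᵒᵖ →ₗ[T] T := (LinearMap.mul' T T).comp (TensorProduct.map (b.coord p)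
      ((b.coord q).comp (MulOpposite.opLinearEquiv T).symm.toLinearMap))
    have hφ : ∀ x y, φ (x ⊗ₜ MulOpposite.op y) = b.repr x p * b.repr y q := by
      intro x y
      simp [φ]
    have h1 : φ ((b i ⊗ₜ[T] (1 : Aᵐᵒᵖ)) * E) = ∑ j, e j q * b.repr (b i * b j) p := by
      simp only [E, Finset.mul_sum, mul_smul_comm, Algebra.TensorProduct.tmul_mul_tmul, one_mul,
        map_sum, map_smul, hφ, Basis.repr_self, smul_eq_mul]
      refine Finset.sum_congr rfl (fun j _ => ?_)
      rw [Finset.sum_eq_single q]
      · simp
      · intro l _ hl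
        rw [Finsupp.single_eq_of_ne (Ne.symm hl)]; simp
      · simp
    have h2 : φ (((1 : A) ⊗ₜ[T] MulOpposite.op (b i)) * E) =
        ∑ l, e p l * b.repr (b l * b i) q := by
      simp only [E, Finset.mul_sum, mul_smul_comm, Algebra.TensorProduct.tmul_mul_tmul, one_mul,
        map_sum, map_smul, ← MulOpposite.op_mul, hφ, Basis.repr_self, smul_eq_mul]
      rw [Finset.sum_eq_single p]
      · simp
      · intro l _ hl
        rw [Finsupp.single_eq_of_ne (Ne.symm hl)]; simp
      · simp
    rw [← h1, ← h2, hEE]

end K280.StructConst
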