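import Groth.Agent.Dix.K280.HochLift
import Groth.Agent.Dix.K280.StructConst

/-!
# Lifting Azumaya structure constants along square-zero ideals
-/

set_option autoImplicit false

universe u v w

open TensorProduct Module

namespace K280.StructLift

open K280.StructConst K280.HochLift

variable {T : Type u} [CommRing T] {J : Ideal T} {ι : Type} [Fintype ι] [DecidableEq ι]

theorem mem_smul_top_of_forall {M : Type v} [AddCommGroup M] [Module T M] {κ : Type w} [Fintype κ]
    (b : Basis κ T M) {x : M} (h : ∀ i, b.repr x i ∈ J) : x ∈ J • (⊤ : Submodule T M) := by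
  rw [← b.sum_repr x]
  exact Submodule.sum_mem _ (fun i _ => Submodule.smul_mem_smul (h i) trivial)

theorem forall_of_mem_smul_top {M : Type v} [AddCommGroup M] [Module T M] {κ : Type w}
    (b : Basis κ T M) {x : M} (h : x ∈ J • (⊤ : Submodule T M)) (i : κ) : b.repr x i ∈ J := by
  have := map_mem (b.coord i) h
  rwa [Basis.coord_apply, Ideal.smul_eq_mul, Ideal.mul_top] at this

omit [DecidableEq ι] in
theorem pi_mem_of_forall {x : ι → T} (h : ∀ i, x i ∈ J) :
    x ∈ J • (⊤ : Submodule T (ι → T)) :=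
  mem_smul_top_of_forall (Pi.basisFun T ι) (fun i => by simpa using h i)

omit [DecidableEq ι] in
theorem pi_forall_of_mem {x : ι → T} (h : x ∈ J • (⊤ : Submodule T (ι → T))) (i : ι) :
    x i ∈ J := by
  have := forall_of_mem_smul_top (Pi.basisFun T ι) h i
  simpa using this

omit [DecidableEq ι] in
theorem map_mulL {T' : Type v} [CommRing T'] (φ : T →+* T') (c : ι → ι → ι → T) (x y : ι → T)
    (l : ι) : φ (mulL c x y l) = mulL (fun i j k => φ (c i j k)) (fun i => φ (x i))
      (fun i => φ (y i)) l := by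
  simp only [mulL_apply, map_sum, map_mul]

/-- Correcting sandwich data modulo a square-zero ideal. -/
theorem exists_sand {A : Type v} [Ring A] [Algebra T A] (hJ : J ^ 2 = ⊥) (b : Basis ι T A)
    (W : ι → ι → ι → T)
    (hW : ∀ i x, ∑ j, ∑ l, W i j l • (b j * x * b l) - b.repr x i • (1 : A) ∈
      J • (⊤ : Submodule T A)) :
    ∃ t : ι → ι → ι → T, (∀ i j l, t i j l - W i j l ∈ J) ∧
      ∀ i x, ∑ j, ∑ l, t i j l • (b j * x * b l) = b.repr x i • (1 : A) := by
  let bo : Basis ι T Aᵐᵒᵖ := b.map (MulOpposite.opLinearEquiv T)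
  have hbo : ∀ l, bo l = MulOpposite.op (b l) := fun l => by simp [bo]
  let B : Basis (ι × ι) T (A ⊗[T] Aᵐᵒᵖ) := b.tensorProduct bo
  let E : ι → A ⊗[T] Aᵐᵒᵖ := fun i => ∑ j, ∑ l, W i j l • (b j ⊗ₜ MulOpposite.op (b l))
  have hE : ∀ i x, AlgHom.mulLeftRight T A (E i) x = ∑ j, ∑ l, W i j l • (b j * x * b l) := by
    intro i x
    simp only [E, map_sum, map_smul, LinearMap.sum_apply, LinearMap.smul_apply,
      AlgHom.mulLeftRight_apply, MulOpposite.unop_op]
  let ε : ι → A → A := fun i x => ∑ j, ∑ l, W i j l • (b j * x * b l) - b.repr x i • (1 : A)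
  have hε : ∀ i x, AlgHom.mulLeftRight T A (E i) x = b.repr x i • (1 : A) + ε i x := by
    intro i x
    rw [hE]; simp [ε]
  let D : ι → A ⊗[T] Aᵐᵒᵖ := fun i => ∑ k, (ε i (b k) ⊗ₜ 1) * E k
  have hD : ∀ i, D i ∈ J • (⊤ : Submodule T (A ⊗[T] Aᵐᵒᵖ)) := by
    intro i
    refine Submodule.sum_mem _ (fun k _ => ?_)
    let ψ : A →ₗ[T] A ⊗[T] Aᵐᵒᵖ := (LinearMap.mulRight T (E k)).comp
      ((TensorProduct.mk T A Aᵐᵒᵖ).flip 1)
    exact map_mem ψ (hW i (b k))
  have key : ∀ i x, AlgHom.mulLeftRight T A (E i - D i) x = b.repr x i • (1 : A) := by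
    intro i x
    have h1 : AlgHom.mulLeftRight T A (D i) x = ∑ k, b.repr x k • ε i (b k) := by
      simp only [D, map_sum, LinearMap.sum_apply, map_mul, Module.End.mul_apply, hε,
        AlgHom.mulLeftRight_apply, MulOpposite.unop_one, mul_one, mul_add]
      refine Finset.sum_congr rfl (fun k _ => ?_)
      have h2 : ε i (b k) * ε k x = 0 := by
        let ψ : A →ₗ[T] A := LinearMap.mulLeft T (ε i (b k))
        refine kill hJ ψ (fun p => ?_) (hW k x)
        exact map_mem (LinearMap.mulRight T p) (hW i (b k))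
      rw [h2, add_zero, mul_smul_comm, mul_one]
    have h3 : ∑ k, b.repr x k • ε i (b k) = ε i x := by
      let εL : A →ₗ[T] A := AlgHom.mulLeftRight T A (E i) - (b.coord i).smulRight 1
      have hεL : ∀ y, εL y = ε i y := by
        intro y
        simp only [εL, LinearMap.sub_apply, hε, LinearMap.smulRight_apply, Basis.coord_apply]
        abel
      have h4 : ∑ k, b.repr x k • ε i (b k) = εL (∑ k, b.repr x k • b k) := by
        rw [map_sum]
        exact Finset.sum_congr rfl (fun k _ => by rw [map_smul, hεL])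
      rw [h4, b.sum_repr, hεL]
    rw [map_sub, LinearMap.sub_apply, hε, h1, h3, add_sub_cancel_right]
  refine ⟨fun i j l => B.repr (E i - D i) (j, l), fun i j l => ?_, fun i x => ?_⟩
  · have h1 : B.repr (E i) (j, l) = W i j l := by
      have h2 : E i = ∑ p : ι × ι, W i p.1 p.2 • B p := by
        rw [Fintype.sum_prod_type]
        simp [E, B, hbo]
      rw [h2]
      simp [Finsupp.single_apply]
    change B.repr (E i - D i) (j, l) - W i j l ∈ J
    rw [map_sub, Finsupp.sub_apply, h1, sub_sub_cancel_left]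
    exact J.neg_mem (forall_of_mem_smul_top B (hD i) _)
  · rw [← key]
    conv_rhs => rw [← B.sum_repr (E i - D i)]
    rw [Fintype.sum_prod_type]
    simp only [map_sum, map_smul, LinearMap.sum_apply, LinearMap.smul_apply, B,
      Basis.tensorProduct_apply, hbo, AlgHom.mulLeftRight_apply, MulOpposite.unop_op]

section Red

variable {c : ι → ι → ι → T ⧸ J} {u : ι → T ⧸ J} (h : IsAlg c u)

/-- Reduction modulo `J`. -/
noncomputable def red : (ι → T) →+ Alg h where
  toFun x := fun i => Ideal.Quotient.mk J (x i)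
  map_zero' := by
    funext i
    exact map_zero _
  map_add' x y := by
    funext i
    exact map_add _ _ _

theorem red_apply (x : ι → T) (i : ι) : (red h x : ι → T ⧸ J) i = Ideal.Quotient.mk J (x i) := rfl

theorem red_smul (r : T) (x : ι → T) : red h (r • x) = Ideal.Quotient.mk J r • red h x := by
  funext i
  exact map_mul (Ideal.Quotient.mk J) r (x i)

theorem red_single (j : ι) : red h (Pi.single j 1) = basis h j := by
  funext i
  refine Eq.trans ?_ (congrFun (basis_apply h j).symm i)
  rw [red_apply]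
  by_cases hij : i = j
  · subst hij; simp
  · simp [Pi.single_eq_of_ne hij]

theorem red_mul {C : ι → ι → ι → T} (hC : ∀ i j l, Ideal.Quotient.mk J (C i j l) = c i j l)
    (x y : ι → T) : red h (mulL C x y) = red h x * red h y := by
  funext l
  rw [red_apply, map_mulL]
  simp only [hC]
  rfl

theorem red_eq_zero {x : ι → T} (hx : red h x = 0) : x ∈ J • (⊤ : Submodule T (ι → T)) := by
  refine pi_mem_of_forall (fun i => ?_)
  rw [← Ideal.Quotient.eq_zero_iff_mem, ← red_apply h, hx]
  rfl

theorem red_of_mem {x : ι → T} (hx : x ∈ J • (⊤ : Submodule T (ι → T))) : red h x = 0 := by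
  funext i
  rw [red_apply, Ideal.Quotient.eq_zero_iff_mem.2 (pi_forall_of_mem hx i)]
  rfl

theorem red_repr (x : ι → T) (i : ι) : (basis h).repr (red h x) i = Ideal.Quotient.mk J (x i) := by
  exact basis_repr h _ _

end Red

theorem exists_lift [Nonempty ι] (hJ : J ^ 2 = ⊥) {c : ι → ι → ι → T ⧸ J} {u : ι → T ⧸ J}
    {t : ι → ι → ι → T ⧸ J} (h : IsPt c u t) :
    ∃ (c' : ι → ι → ι → T) (u' : ι → T) (t' : ι → ι → ι → T), IsPt c' u' t' ∧
      (∀ i j l, Ideal.Quotient.mk J (c' i j l) = c i j l) ∧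
      (∀ i, Ideal.Quotient.mk J (u' i) = u i) ∧
      (∀ i j l, Ideal.Quotient.mk J (t' i j l) = t i j l) := by
  obtain ⟨o⟩ := (inferInstance : Nonempty ι)
  have hπ : Function.Surjective (Ideal.Quotient.mk J) := Ideal.Quotient.mk_surjective
  -- separability idempotent over `T ⧸ J`
  obtain ⟨e, he1, he2⟩ := exists_sep (basis h.toIsAlg) t (sand h.toIsAlg h.sand) o
  choose C hC using fun i j l => hπ (c i j l)
  choose U hU using fun i => hπ (u i)
  choose W hW using fun i j l => hπ (t i j l)
  choose ê hê using fun j l => hπ (e j l)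
  let μ := mulL C
  let ρ : (ι → T) →+ Alg h.toIsAlg := red h.toIsAlg
  have hμ : ∀ x y, ρ (μ x y) = ρ x * ρ y := fun x y => red_mul h.toIsAlg hC x y
  have hρU : ρ U = 1 := by
    funext i
    exact (red_apply _ _ _).trans (hU i)
  -- the three facts
  have f1 : ∀ x y z, μ (μ x y) z - μ x (μ y z) ∈ J • (⊤ : Submodule T (ι → T)) := by
    refine fun x y z => red_eq_zero h.toIsAlg ?_
    change ρ _ = 0
    rw [map_sub, hμ, hμ, hμ, hμ, mul_assoc, sub_self]
  have f2 : ∀ m, ∑ p : ι × ι, μ (ê p.1 p.2 • (Pi.single p.1 1 : ι → T))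
      (μ (Pi.single p.2 1) m) - m ∈ J • (⊤ : Submodule T (ι → T)) := by
    refine fun m => red_eq_zero h.toIsAlg ?_
    change ρ _ = 0
    rw [map_sub, map_sum, sub_eq_zero]
    have h1 : ∀ p : ι × ι, ρ (μ (ê p.1 p.2 • (Pi.single p.1 1 : ι → T))
        (μ (Pi.single p.2 1) m)) = (e p.1 p.2 • (basis h.toIsAlg p.1 * basis h.toIsAlg p.2)) *
          ρ m := by
      intro p
      rw [hμ, hμ, red_smul, hê, red_single, red_single, smul_mul_assoc, smul_mul_assoc, mul_assoc]
    simp only [h1]
    rw [← Finset.sum_mul, Fintype.sum_prod_type, he1, one_mul]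
  have f3 : ∀ a, ∑ p : ι × ι, (μ a (ê p.1 p.2 • (Pi.single p.1 1 : ι → T))) ⊗ₜ[T]
      (Pi.single p.2 1 : ι → T) - ∑ p : ι × ι, (ê p.1 p.2 • (Pi.single p.1 1 : ι → T)) ⊗ₜ[T]
      (μ (Pi.single p.2 1 : ι → T) a) ∈ J • (⊤ : Submodule T ((ι → T) ⊗[T] (ι → T))) := by
    let Φ : (ι → T) →ₗ[T] (ι → T) ⊗[T] (ι → T) :=
      ∑ p : ι × ι, ((TensorProduct.mk T (ι → T) (ι → T)).flip (Pi.single p.2 1)).comp
        (μ.flip (ê p.1 p.2 • (Pi.single p.1 1 : ι → T))) -
      ∑ p : ι × ι, (TensorProduct.mk T (ι → T) (ι → T) (ê p.1 p.2 • Pi.single p.1 1)).comp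
        (μ (Pi.single p.2 1))
    have hΦ : ∀ a, Φ a = ∑ p : ι × ι, (μ a (ê p.1 p.2 • (Pi.single p.1 1 : ι → T))) ⊗ₜ[T]
      (Pi.single p.2 1 : ι → T) - ∑ p : ι × ι, (ê p.1 p.2 • (Pi.single p.1 1 : ι → T)) ⊗ₜ[T]
      (μ (Pi.single p.2 1 : ι → T) a) := by
      intro a
      simp only [Φ, LinearMap.sub_apply, LinearMap.sum_apply, LinearMap.comp_apply,
        LinearMap.flip_apply, TensorProduct.mk_apply]
    have hΦi : ∀ i, Φ (Pi.single i 1) ∈ J • (⊤ : Submodule T ((ι → T) ⊗[T] (ι → T))) := by
      intro i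
      refine mem_smul_top_of_forall ((Pi.basisFun T ι).tensorProduct (Pi.basisFun T ι))
        (fun pq => ?_)
      obtain ⟨p, q⟩ := pq
      rw [hΦ, map_sub, map_sum, map_sum, Finsupp.sub_apply, Finsupp.finsetSum_apply,
        Finsupp.finsetSum_apply, ← Ideal.Quotient.eq_zero_iff_mem, map_sub, sub_eq_zero, map_sum,
        map_sum]
      simp only [Basis.tensorProduct_repr_tmul_apply, Pi.basisFun_repr]
      have h1 : ∀ j, (basis h.toIsAlg).repr (basis h.toIsAlg i * basis h.toIsAlg j) p =
          c i j p := by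
        intro j
        exact (basis_repr _ _ _).trans (congrFun (basis_mul h.toIsAlg i j) p)
      have h2 : ∀ j, (basis h.toIsAlg).repr (basis h.toIsAlg j * basis h.toIsAlg i) q =
          c j i q := by
        intro j
        exact (basis_repr _ _ _).trans (congrFun (basis_mul h.toIsAlg j i) q)
      have h3 := he2 i p q
      simp only [h1, h2] at h3
      rw [Fintype.sum_prod_type, Fintype.sum_prod_type]
      refine Eq.trans ?_ (h3.trans ?_)
      · refine Finset.sum_congr rfl (fun j _ => ?_)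
        rw [Finset.sum_eq_single q]
        · have h4 : μ (Pi.single i 1) (Pi.single j 1) = C i j := mulL_single C i j
          simp [h4, hC, hê]
        · intro l _ hl
          simp [Pi.single_eq_of_ne (Ne.symm hl)]
        · simp
      · symm
        rw [Finset.sum_eq_single p]
        · refine Finset.sum_congr rfl (fun l _ => ?_)
          have h4 : μ (Pi.single l 1) (Pi.single i 1) = C l i := mulL_single C l i
          simp [h4, hC, hê, mul_comm]
        · intro j _ hj
          refine Finset.sum_eq_zero (fun l _ => ?_)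
          simp [Pi.single_eq_of_ne (Ne.symm hj)]
        · simp
    intro a
    rw [← hΦ, ← (Pi.basisFun T ι).sum_repr a, map_sum]
    refine Submodule.sum_mem _ (fun i _ => ?_)
    rw [map_smul, Pi.basisFun_apply]
    exact Submodule.smul_mem _ _ (hΦi i)
  obtain ⟨g, hg, hga⟩ := exists_assoc hJ μ (κ := ι × ι)
    (fun p => ê p.1 p.2 • (Pi.single p.1 1 : ι → T)) (fun p => (Pi.single p.2 1 : ι → T))
    f1 f2 f3
  -- the new multiplication
  let c' : ι → ι → ι → T := fun i j => (μ + g) (Pi.single i 1) (Pi.single j 1)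
  have hc' : mulL c' = μ + g := by
    refine linear_ext (fun i => linear_ext (fun j => ?_))
    rw [mulL_single]
  have hρg : ∀ a b, ρ (g a b) = 0 := fun a b => red_of_mem h.toIsAlg (hg a b)
  have hρ' : ∀ a b, ρ ((μ + g) a b) = ρ a * ρ b := by
    intro a b
    rw [LinearMap.add_apply, LinearMap.add_apply, map_add, hρg, add_zero, hμ]
  have hc'C : ∀ i j l, Ideal.Quotient.mk J (c' i j l) = c i j l := by
    intro i j l
    have h1 := hρ' (Pi.single i 1) (Pi.single j 1)
    have h2 : ρ (Pi.single i 1) * ρ (Pi.single j 1) = basis h.toIsAlg i * basis h.toIsAlg j := by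
      rw [← red_single h.toIsAlg, ← red_single h.toIsAlg]
    exact (congrFun (h1.trans (h2.trans (basis_mul h.toIsAlg i j))) l)
  -- the new unit
  obtain ⟨u', hu'U, hu'⟩ := exists_unit hJ (μ + g) hga U
    (fun m => red_eq_zero h.toIsAlg (by
      change ρ _ = 0
      rw [map_sub, hρ', hρU, one_mul, sub_self]))
    (fun m => red_eq_zero h.toIsAlg (by
      change ρ _ = 0
      rw [map_sub, hρ', hρU, mul_one, sub_self]))
  have hρu' : ρ u' = 1 := by
    have h1 : ρ (u' - U) = 0 := red_of_mem h.toIsAlg hu'U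
    rw [map_sub, sub_eq_zero] at h1
    rw [h1, hρU]
  have hu'u : ∀ i, Ideal.Quotient.mk J (u' i) = u i := fun i => congrFun hρu' i
  have halg : IsAlg c' u' := by
    refine ⟨fun i j k l => ?_, fun j l => ?_, fun j l => ?_⟩
    · have h1 := congrFun (hga (Pi.single i 1) (Pi.single j 1) (Pi.single k 1)) l
      rw [← hc', mulL_single, mulL_single, mulL_single_left, mulL_single_right] at h1
      exact h1
    · rw [← mulL_single_right, hc', (hu' _).1]
      by_cases hjl : j = l
      · subst hjl; simp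
      · rw [if_neg hjl, Pi.single_eq_of_ne (Ne.symm hjl)]
    · rw [← mulL_single_left, hc', (hu' _).2]
      by_cases hjl : j = l
      · subst hjl; simp
      · rw [if_neg hjl, Pi.single_eq_of_ne (Ne.symm hjl)]
  -- the new sandwich data
  have hW0 : ∀ i (x : Alg halg), ∑ j, ∑ l, W i j l • (basis halg j * x * basis halg l) -
      (basis halg).repr x i • (1 : Alg halg) ∈ J • (⊤ : Submodule T (Alg halg)) := by
    intro i x
    let ρA : Alg halg →+ Alg h.toIsAlg := (red h.toIsAlg : (ι → T) →+ Alg h.toIsAlg)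
    have hA1 : ∀ (r : T) x, ρA (r • x) = Ideal.Quotient.mk J r • ρA x :=
      fun r x => red_smul _ r x
    have hA2 : ∀ x y, ρA (x * y) = ρA x * ρA y := fun x y => red_mul _ hc'C x y
    have hA3 : ∀ j, ρA (basis halg j) = basis h.toIsAlg j := fun j =>
      (congrArg (red h.toIsAlg) (basis_apply halg j)).trans (red_single _ j)
    have hA4 : ρA 1 = 1 := hρu'
    have hA5 : Ideal.Quotient.mk J ((basis halg).repr x i) = (basis h.toIsAlg).repr (ρA x) i :=
      (congrArg (Ideal.Quotient.mk J) (basis_repr halg x i)).trans (red_repr h.toIsAlg x i).symm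
    have h1 : ρA (∑ j, ∑ l, W i j l • (basis halg j * x * basis halg l) -
      (basis halg).repr x i • (1 : Alg halg)) = 0 := by
      simp only [map_sub, map_sum, hA1, hA2, hA3, hA4, hA5, hW]
      rw [sand h.toIsAlg h.sand, sub_self]
    exact red_eq_zero h.toIsAlg h1
  obtain ⟨t', ht'W, ht'⟩ := exists_sand hJ (basis halg) W hW0
  refine ⟨c', u', t', ⟨halg, fun i m p => ?_⟩, hc'C, hu'u, fun i j l => ?_⟩
  · have h1 := congrArg (fun z => (basis halg).repr z p) (ht' i (basis halg m))
    simp only [map_sum, Finsupp.finsetSum_apply, map_smul, Finsupp.smul_apply, smul_eq_mul,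
      basis_mul_mul, Basis.repr_self] at h1
    rw [h1]
    by_cases him : i = m
    · subst him
      rw [if_pos rfl, Finsupp.single_eq_same, one_mul]
      exact basis_repr halg _ _
    · rw [if_neg him, Finsupp.single_eq_of_ne (by exact him), zero_mul]
  · rw [← hW i j l, ← sub_eq_zero, ← map_sub, Ideal.Quotient.eq_zero_iff_mem]
    exact ht'W i j l

end K280.StructLift
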