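import Groth.Agent.Dix.K280.StructLift
import Groth.Agent.CurvesA.CSABasic
import Mathlib.RingTheory.Smooth.Basic
import Mathlib.RingTheory.Extension.Presentation.Basic

/-!
# The universal Azumaya algebra with a basis: the parameter ring is smooth
-/

set_option autoImplicit false

universe u v w

open TensorProduct Module

namespace K280.StructUniv

open K280.StructConst K280.StructLift

variable (ι : Type) [Fintype ι] [DecidableEq ι]

/-- Variables. -/
abbrev Var : Type := (ι × ι × ι) ⊕ ι ⊕ (ι × ι × ι)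

/-- Relations. -/
abbrev Rel : Type := (ι × ι × ι × ι) ⊕ (ι × ι) ⊕ (ι × ι) ⊕ (ι × ι × ι)

variable {ι}

section rel

variable {T : Type u} [CommRing T]

def cc (v : Var ι → T) : ι → ι → ι → T := fun i j l => v (Sum.inl (i, j, l))
def uu (v : Var ι → T) : ι → T := fun i => v (Sum.inr (Sum.inl i))
def tt (v : Var ι → T) : ι → ι → ι → T := fun i j l => v (Sum.inr (Sum.inr (i, j, l)))

/-- The relations. -/
def rel (v : Var ι → T) : Rel ι → T
  | Sum.inl (i, j, k, l) => ∑ m, cc v i j m * cc v m k l - ∑ m, cc v j k m * cc v i m l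
  | Sum.inr (Sum.inl (j, l)) => ∑ i, uu v i * cc v i j l - if j = l then 1 else 0
  | Sum.inr (Sum.inr (Sum.inl (j, l))) => ∑ i, uu v i * cc v j i l - if j = l then 1 else 0
  | Sum.inr (Sum.inr (Sum.inr (i, m, p))) =>
    ∑ j, ∑ l, tt v i j l * (∑ q, cc v j m q * cc v q l p) - if i = m then uu v p else 0

theorem map_rel {T' : Type v} [CommRing T'] (φ : T →+* T') (v : Var ι → T) (r : Rel ι) :
    φ (rel v r) = rel (fun s => φ (v s)) r := by
  rcases r with ⟨i, j, k, l⟩ | ⟨j, l⟩ | ⟨j, l⟩ | ⟨i, m, p⟩ <;>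
    simp only [rel, cc, uu, tt, map_sub, map_sum, map_mul, apply_ite φ, map_one, map_zero]

theorem isPt_iff (v : Var ι → T) : IsPt (cc v) (uu v) (tt v) ↔ ∀ r, rel v r = 0 := by
  constructor
  · intro h r
    rcases r with ⟨i, j, k, l⟩ | ⟨j, l⟩ | ⟨j, l⟩ | ⟨i, m, p⟩ <;> rw [rel, sub_eq_zero]
    · exact h.assoc _ _ _ _
    · exact h.one_mul _ _
    · exact h.mul_one _ _
    · exact h.sand _ _ _
  · intro h
    refine ⟨⟨fun i j k l => ?_, fun j l => ?_, fun j l => ?_⟩, fun i m p => ?_⟩
    · exact sub_eq_zero.1 (h (Sum.inl (i, j, k, l)))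
    · exact sub_eq_zero.1 (h (Sum.inr (Sum.inl (j, l))))
    · exact sub_eq_zero.1 (h (Sum.inr (Sum.inr (Sum.inl (j, l)))))
    · exact sub_eq_zero.1 (h (Sum.inr (Sum.inr (Sum.inr (i, m, p)))))

end rel

variable (ι) (R : Type u) [CommRing R]

/-- The ideal of relations. -/
noncomputable def relIdeal : Ideal (MvPolynomial (Var ι) R) :=
  Ideal.span (Set.range (rel (MvPolynomial.X : Var ι → MvPolynomial (Var ι) R)))

/-- The universal ring. -/
abbrev Univ : Type u := MvPolynomial (Var ι) R ⧸ relIdeal ι R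

variable {ι R}

theorem rel_mk (r : Rel ι) : rel (fun s => (Ideal.Quotient.mk (relIdeal ι R)
    (MvPolynomial.X s) : Univ ι R)) r = 0 := by
  rw [← map_rel, Ideal.Quotient.eq_zero_iff_mem]
  exact Ideal.subset_span ⟨r, rfl⟩

/-- The map classifying a point. -/
noncomputable def lift {T : Type v} [CommRing T] [Algebra R T] (v : Var ι → T)
    (h : ∀ r, rel v r = 0) : Univ ι R →ₐ[R] T :=
  Ideal.Quotient.liftₐ (relIdeal ι R) (MvPolynomial.aeval v) (by
    intro a ha
    have h1 : relIdeal ι R ≤ RingHom.ker (MvPolynomial.aeval (R := R) v) := by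
      rw [relIdeal, Ideal.span_le]
      rintro _ ⟨r, rfl⟩
      rw [SetLike.mem_coe, RingHom.mem_ker]
      have := map_rel (MvPolynomial.aeval (R := R) v).toRingHom MvPolynomial.X r
      refine this.trans ?_
      simpa using h r
    exact h1 ha)

theorem lift_X {T : Type v} [CommRing T] [Algebra R T] (v : Var ι → T)
    (h : ∀ r, rel v r = 0) (s : Var ι) :
    lift (R := R) v h (Ideal.Quotient.mk _ (MvPolynomial.X s)) = v s := by
  change MvPolynomial.aeval (R := R) v (MvPolynomial.X s) = v s
  exact MvPolynomial.aeval_X _ _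

theorem hom_ext {T : Type v} [CommRing T] [Algebra R T] {f g : Univ ι R →ₐ[R] T}
    (h : ∀ s, f (Ideal.Quotient.mk _ (MvPolynomial.X s)) =
      g (Ideal.Quotient.mk _ (MvPolynomial.X s))) : f = g := by
  refine Ideal.Quotient.algHom_ext _ (MvPolynomial.algHom_ext (fun s => ?_))
  exact h s

theorem rel_of_hom {T : Type v} [CommRing T] [Algebra R T] (f : Univ ι R →ₐ[R] T) (r : Rel ι) :
    rel (fun s => f (Ideal.Quotient.mk _ (MvPolynomial.X s))) r = 0 := by
  have := map_rel f.toRingHom (fun s => (Ideal.Quotient.mk (relIdeal ι R)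
    (MvPolynomial.X s) : Univ ι R)) r
  rw [rel_mk, map_zero] at this
  exact this.symm

instance [Nonempty ι] : Algebra.FormallySmooth R (Univ ι R) := by
  refine Algebra.FormallySmooth.of_comp_surjective ?_
  intro B _ _ I hI f
  have h1 := (isPt_iff _).2 (rel_of_hom f)
  obtain ⟨c', u', t', hp, hc, hu, ht⟩ := exists_lift hI h1
  let v : Var ι → B := fun s => match s with
    | Sum.inl (i, j, l) => c' i j l
    | Sum.inr (Sum.inl i) => u' i
    | Sum.inr (Sum.inr (i, j, l)) => t' i j l
  refine ⟨lift v ((isPt_iff v).1 hp), hom_ext (fun s => ?_)⟩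
  change Ideal.Quotient.mk I (lift (R := R) v ((isPt_iff v).1 hp)
    (Ideal.Quotient.mk _ (MvPolynomial.X s))) = _
  rw [lift_X]
  rcases s with ⟨i, j, l⟩ | i | ⟨i, j, l⟩
  · exact hc i j l
  · exact hu i
  · exact ht i j l

instance : Algebra.FinitePresentation R (Univ ι R) := by
  refine Algebra.FinitePresentation.quotient (Submodule.fg_span (Set.finite_range _))

instance [Nonempty ι] : Algebra.Smooth R (Univ ι R) where

section Point

/-- Structure constants and sandwich data of a central simple algebra. -/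
theorem exists_point (k : Type u) [Field k] (A : Type v) [Ring A] [Algebra k A]
    [Algebra.IsCentral k A] [IsSimpleRing A] (b : Basis ι k A) :
    ∃ v : Var ι → k, (∀ r, rel v r = 0) ∧ (∀ i j l, cc v i j l = b.repr (b i * b j) l) ∧
      ∀ i, uu v i = b.repr 1 i := by
  classical
  have hfd : Module.Finite k A := Module.Finite.of_basis b
  let bo : Basis ι k Aᵐᵒᵖ := b.map (MulOpposite.opLinearEquiv k)
  have hbo : ∀ l, bo l = MulOpposite.op (b l) := fun l => by simp [bo]
  let B : Basis (ι × ι) k (A ⊗[k] Aᵐᵒᵖ) := b.tensorProduct bo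
  have hsurj : Function.Surjective (AlgHom.mulLeftRight k A) := by
    intro f
    obtain ⟨T, ⟨t, ht⟩, hT⟩ := Groth.Agent.CurvesA.CSABasic.exists_mulAlg_eq k A f
      (Finset.univ.image b)
    refine ⟨t, ?_⟩
    apply b.ext
    intro i
    rw [hT _ (Finset.mem_image_of_mem _ (Finset.mem_univ i)), ← ht]
    rfl
  choose t ht using fun i => hsurj ((b.coord i).smulRight (1 : A))
  let v : Var ι → k := fun s => match s with
    | Sum.inl (i, j, l) => b.repr (b i * b j) l
    | Sum.inr (Sum.inl i) => b.repr 1 i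
    | Sum.inr (Sum.inr (i, j, l)) => B.repr (t i) (j, l)
  have hmulr : ∀ (x y : A) (l : ι), b.repr (x * y) l =
      ∑ i, b.repr x i * b.repr (b i * y) l := by
    intro x y l
    conv_lhs => rw [← b.sum_repr x, Finset.sum_mul, map_sum, Finsupp.finsetSum_apply]
    simp
  have hmull : ∀ (x y : A) (l : ι), b.repr (x * y) l =
      ∑ i, b.repr y i * b.repr (x * b i) l := by
    intro x y l
    conv_lhs => rw [← b.sum_repr y, Finset.mul_sum, map_sum, Finsupp.finsetSum_apply]
    simp
  refine ⟨v, (isPt_iff v).1 ⟨⟨fun i j k' l => ?_, fun j l => ?_, fun j l => ?_⟩,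
    fun i m p => ?_⟩, fun i j l => rfl, fun i => rfl⟩
  · change ∑ m, b.repr (b i * b j) m * b.repr (b m * b k') l =
      ∑ m, b.repr (b j * b k') m * b.repr (b i * b m) l
    rw [← hmulr, ← hmull, mul_assoc]
  · change ∑ i, b.repr 1 i * b.repr (b i * b j) l = _
    rw [← hmulr, one_mul, Basis.repr_self, Finsupp.single_apply]
  · change ∑ i, b.repr 1 i * b.repr (b j * b i) l = _
    rw [← hmull, mul_one, Basis.repr_self, Finsupp.single_apply]
  · change ∑ j, ∑ l, B.repr (t i) (j, l) *
      (∑ q, b.repr (b j * b m) q * b.repr (b q * b l) p) = if i = m then b.repr 1 p else 0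
    have h1 : ∑ j, ∑ l, B.repr (t i) (j, l) • (b j * b m * b l) = b.repr (b m) i • (1 : A) := by
      have h2 := LinearMap.congr_fun (ht i) (b m)
      rw [LinearMap.smulRight_apply, Basis.coord_apply] at h2
      rw [← h2]
      conv_rhs => rw [← B.sum_repr (t i)]
      rw [Fintype.sum_prod_type]
      simp only [map_sum, map_smul, LinearMap.sum_apply, LinearMap.smul_apply, B,
        Basis.tensorProduct_apply, hbo, AlgHom.mulLeftRight_apply, MulOpposite.unop_op]
    have h3 := congrArg (fun z => b.repr z p) h1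
    simp only [map_sum, Finsupp.finsetSum_apply, map_smul, Finsupp.smul_apply, smul_eq_mul,
      Basis.repr_self] at h3
    simp only [← hmulr]
    rw [h3, Finsupp.single_apply]
    by_cases him : i = m
    · subst him; simp
    · rw [if_neg him, if_neg (Ne.symm him), zero_mul]

end Point

section Compare

variable {k : Type u} [CommRing k] [Algebra R k]

/-- A base change of `Alg h` is determined by its structure constants. -/
theorem nonempty_algEquiv {c : ι → ι → ι → R} {u : ι → R} (h : IsAlg c u) {A : Type v} [Ring A]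
    [Algebra k A] (b : Basis ι k A) (hc : ∀ i j l, algebraMap R k (c i j l) = b.repr (b i * b j) l)
    (hu : ∀ i, algebraMap R k (u i) = b.repr 1 i) :
    Nonempty ((k ⊗[R] Alg h) ≃ₐ[k] A) := by
  let b' : Basis ι k (k ⊗[R] Alg h) := (basis h).baseChange k
  let e : (k ⊗[R] Alg h) ≃ₗ[k] A := b'.equiv b (Equiv.refl ι)
  have he : ∀ x : Alg h, e (1 ⊗ₜ x) = ∑ l, algebraMap R k ((basis h).repr x l) • b l := by
    intro x
    have h1 : (1 : k) ⊗ₜ[R] x = ∑ l, algebraMap R k ((basis h).repr x l) • b' l := by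
      conv_lhs => rw [← (basis h).sum_repr x, TensorProduct.tmul_sum]
      refine Finset.sum_congr rfl (fun l _ => ?_)
      rw [TensorProduct.tmul_smul, Basis.baseChange_apply, algebraMap_smul]
    rw [h1, map_sum]
    refine Finset.sum_congr rfl (fun l _ => ?_)
    rw [map_smul, Basis.equiv_apply, Equiv.refl_apply]
  refine ⟨AlgEquiv.ofLinearEquiv e ?_ ?_⟩
  · rw [Algebra.TensorProduct.one_def, he]
    conv_rhs => rw [← b.sum_repr 1]
    refine Finset.sum_congr rfl (fun l _ => ?_)
    rw [← hu]
    rfl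
  · have h1 : (LinearMap.mul k (k ⊗[R] Alg h)).compr₂ e.toLinearMap =
        (LinearMap.mul k A).compl₁₂ e.toLinearMap e.toLinearMap := by
      refine b'.ext (fun i => b'.ext (fun j => ?_))
      simp only [LinearMap.compr₂_apply, LinearMap.compl₁₂_apply, LinearMap.mul_apply',
        LinearEquiv.coe_coe]
      rw [Basis.equiv_apply, Basis.equiv_apply, Equiv.refl_apply, Equiv.refl_apply,
        Basis.baseChange_apply, Basis.baseChange_apply, Algebra.TensorProduct.tmul_mul_tmul,
        mul_one, he]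
      conv_rhs => rw [← b.sum_repr (b i * b j)]
      refine Finset.sum_congr rfl (fun l _ => ?_)
      rw [← hc, basis_repr, basis_mul]
    intro x y
    exact LinearMap.congr_fun (LinearMap.congr_fun h1 x) y

end Compare

end K280.StructUniv
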