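import Groth.Agent.Dix.K280.EtaleSub
import Mathlib.RingTheory.SimpleModule.Basic
import Mathlib.RingTheory.Artinian.Module
import Mathlib.RingTheory.Artinian.Ring
import Mathlib.LinearAlgebra.TensorProduct.Finiteness
import Mathlib.FieldTheory.IsAlgClosed.AlgebraicClosure

/-!
# Centralizers of étale subalgebras of absolutely semisimple algebras

* `exists_vn`: semisimple rings are von Neumann regular; `semisimple_of_vn` conversely for artinian rings.
* `exists_sandwich`: the separability idempotent of a finite étale commutative subalgebra as a projection to the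
  centralizer.
-/

set_option autoImplicit false
set_option linter.deprecated false
universe u v w
open scoped TensorProduct
open Polynomial

namespace K280.VNReg

open K280.EtaleSub

theorem exists_vn (B : Type v) [Ring B] [IsSemisimpleRing B] (a : B) : ∃ b : B, a * b * a = a := by
  obtain ⟨e, he, hI⟩ := IsSemisimpleRing.ideal_eq_span_idempotent (Ideal.span {a})
  have h1 : a ∈ Ideal.span {e} := by rw [← hI]; exact Ideal.mem_span_singleton_self a
  have h2 : e ∈ Ideal.span {a} := by rw [hI]; exact Ideal.mem_span_singleton_self e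
  obtain ⟨c, hc⟩ := Submodule.mem_span_singleton.1 h1
  obtain ⟨d, hd⟩ := Submodule.mem_span_singleton.1 h2
  rw [smul_eq_mul] at hc hd
  refine ⟨d, ?_⟩
  have h3 : a * e = a := by rw [← hc, mul_assoc, he.eq]
  rw [mul_assoc, hd, h3]

theorem semisimple_of_vn (B : Type v) [Ring B] [IsArtinianRing B] (h : ∀ a : B, ∃ b : B, a * b * a = a) :
    IsSemisimpleRing B := by
  rw [IsArtinianRing.isSemisimpleRing_iff_jacobson, eq_bot_iff]
  intro c hc
  obtain ⟨b, hb⟩ := h c
  have h1 : b * c ∈ Ring.jacobson B := Ideal.mul_mem_left _ b hc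
  have h2 : (b * c) * (b * c) = b * c := by
    rw [mul_assoc, ← mul_assoc c b c, hb]
  obtain ⟨n, hn⟩ := IsSemiprimaryRing.isNilpotent (R := B)
  have h3 : ∀ m : ℕ, (b * c) ^ (m + 1) = b * c := by
    intro m
    induction m with
    | zero => simp
    | succ m ih => rw [pow_succ, ih, h2]
  have h4 : ∀ m : ℕ, (b * c) ^ m ∈ (Ring.jacobson B) ^ m := by
    intro m
    induction m with
    | zero => rw [pow_zero, Submodule.pow_zero, Ideal.one_eq_top]; trivial
    | succ m ih =>
      rw [pow_succ, Submodule.pow_succ]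
      exact Ideal.mul_mem_mul ih h1
  have h5 : b * c = 0 := by
    have h6 := h4 n
    rw [hn] at h6
    have h7 : (b * c) ^ n = 0 := h6
    rw [← h3 n, pow_succ, h7, zero_mul]
  have h6 : c = 0 := by rw [← hb, mul_assoc, h5, mul_zero]
  rw [h6]
  exact Submodule.zero_mem _

section sandwich

variable {k : Type u} [Field k] {A : Type v} [Ring A] [Algebra k A]

theorem exists_sandwich_aux {B : Type w} [CommRing B] [Algebra k B] [Module.Finite k B]
    [Algebra.FormallyUnramified k B] (ι : B →ₐ[k] A) :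
    ∃ (S : Finset (B × B)), ∑ p ∈ S, ι p.1 * ι p.2 = 1 ∧
      ∀ (a : A) (s : B), ι s * ∑ p ∈ S, ι p.1 * a * ι p.2 = (∑ p ∈ S, ι p.1 * a * ι p.2) * ι s := by
  obtain ⟨t, ht, ht1⟩ := (Algebra.FormallyUnramified.iff_exists_tensorProduct (R := k) (S := B)).1 inferInstance
  obtain ⟨S, hS⟩ := TensorProduct.exists_finset t
  refine ⟨S, ?_, fun a s => ?_⟩
  · have h1 := congrArg ι ht1
    rw [hS, map_sum, map_sum, map_one] at h1
    rw [← h1]
    exact Finset.sum_congr rfl fun p _ => by simp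
  · let Θ : B ⊗[k] B →ₗ[k] A := LinearMap.mul' k A ∘ₗ
      TensorProduct.map (LinearMap.mulRight k a ∘ₗ ι.toLinearMap) ι.toLinearMap
    have hΘ : ∀ x y, Θ (x ⊗ₜ y) = ι x * a * ι y := fun x y => by simp [Θ]
    have h2 := congrArg Θ (ht s)
    rw [hS, Finset.mul_sum, map_sum, map_zero] at h2
    have h3 : ∀ p : B × B, Θ (((1 : B) ⊗ₜ[k] s - s ⊗ₜ[k] (1 : B)) * (p.1 ⊗ₜ[k] p.2)) =
        (ι p.1 * a * ι p.2) * ι s - ι s * (ι p.1 * a * ι p.2) := by
      intro p
      rw [sub_mul, Algebra.TensorProduct.tmul_mul_tmul, Algebra.TensorProduct.tmul_mul_tmul, one_mul, one_mul,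
        map_sub, hΘ, hΘ, mul_comm s p.2, map_mul, map_mul]
      simp only [mul_assoc]
    simp_rw [h3] at h2
    rw [Finset.sum_sub_distrib, sub_eq_zero, ← Finset.sum_mul, ← Finset.mul_sum] at h2
    exact h2.symm

/-- The projection to the centralizer of a finite étale commutative subalgebra. -/
theorem exists_sandwich [FiniteDimensional k A] (L : Subalgebra k A) (hcomm : ∀ x ∈ L, ∀ y ∈ L, x * y = y * x)
    (hsep : Algebra.IsSeparable k L) :
    ∃ (S : Finset (A × A)), (∀ p ∈ S, p.1 ∈ L ∧ p.2 ∈ L) ∧ ∑ p ∈ S, p.1 * p.2 = 1 ∧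
      ∀ (a : A), ∀ s ∈ L, s * ∑ p ∈ S, p.1 * a * p.2 = (∑ p ∈ S, p.1 * a * p.2) * s := by
  classical
  let _ : CommRing L := { (inferInstance : Ring L) with
    mul_comm := fun a b => Subtype.ext (hcomm a.1 a.2 b.1 b.2) }
  have h1 : Algebra.FormallyUnramified k L := by
    refine unramified_of_gens Set.univ (fun x _ => hsep.isSeparable k x) ?_
    rw [Algebra.adjoin_univ]
  obtain ⟨S, hS1, hS2⟩ := exists_sandwich_aux (k := k) (A := A) L.val
  have hinj : Function.Injective (fun p : L × L => ((p.1 : A), (p.2 : A))) := by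
    intro p q hpq
    simp only [Prod.mk.injEq] at hpq
    exact Prod.ext (Subtype.ext hpq.1) (Subtype.ext hpq.2)
  refine ⟨S.map ⟨_, hinj⟩, ?_, ?_, ?_⟩
  · intro p hp
    rw [Finset.mem_map] at hp
    obtain ⟨q, -, rfl⟩ := hp
    exact ⟨q.1.2, q.2.2⟩
  · rw [Finset.sum_map]
    exact hS1
  · intro a s hs
    rw [Finset.sum_map]
    exact hS2 a ⟨s, hs⟩

end sandwich

section main

variable (k : Type u) [Field k] (A : Type v) [Ring A] [Algebra k A] [FiniteDimensional k A]
  (hss : IsSemisimpleRing (AlgebraicClosure k ⊗[k] A)) (L : Subalgebra k A)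
  (hcomm : ∀ x ∈ L, ∀ y ∈ L, x * y = y * x) (hsep : Algebra.IsSeparable k L)

include hss in
omit [FiniteDimensional k A] in
theorem vn_of_baseChange (a : A) : ∃ b : A, a * b * a = a := by
  obtain ⟨β, hβ⟩ := exists_vn (AlgebraicClosure k ⊗[k] A) (1 ⊗ₜ a)
  obtain ⟨ρ, hρ⟩ : ∃ ρ : AlgebraicClosure k →ₗ[k] k, ρ 1 = 1 := by
    obtain ⟨g, hg⟩ := LinearMap.exists_leftInverse_of_injective
      (Algebra.linearMap k (AlgebraicClosure k)) (LinearMap.ker_eq_bot.2 (algebraMap k _).injective)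
    refine ⟨g, ?_⟩
    have := LinearMap.congr_fun hg 1
    simpa using this
  let P : AlgebraicClosure k ⊗[k] A →ₗ[k] A := (TensorProduct.lid k A).toLinearMap ∘ₗ ρ.rTensor A
  have hP : ∀ c a, P (c ⊗ₜ a) = ρ c • a := fun c a => by simp [P]
  refine ⟨P β, ?_⟩
  have h1 : ∀ z : AlgebraicClosure k ⊗[k] A, P ((1 ⊗ₜ a) * z * (1 ⊗ₜ a)) = a * P z * a := by
    intro z
    induction z using TensorProduct.induction_on with
    | zero => simp
    | tmul c x => simp [hP]
    | add x y hx hy => simp only [mul_add, add_mul, map_add, hx, hy]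
  rw [← h1, hβ, hP, hρ, one_smul]

include hss hcomm hsep in
/-- The centralizer of an étale subalgebra is semisimple. -/
theorem semisimple_centralizer : IsSemisimpleRing (Subalgebra.centralizer k (L : Set A)) := by
  obtain ⟨S, hSL, hS1, hS2⟩ := exists_sandwich L hcomm hsep
  have : IsArtinianRing (Subalgebra.centralizer k (L : Set A)) := IsArtinianRing.of_finite k _
  apply semisimple_of_vn
  rintro ⟨c, hc⟩
  obtain ⟨b, hb⟩ := vn_of_baseChange k A hss c
  rw [Subalgebra.mem_centralizer_iff] at hc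
  refine ⟨⟨∑ p ∈ S, p.1 * b * p.2, ?_⟩, ?_⟩
  · rw [Subalgebra.mem_centralizer_iff]
    exact fun s hs => hS2 b s hs
  · apply Subtype.ext
    change c * (∑ p ∈ S, p.1 * b * p.2) * c = c
    conv_rhs => rw [← mul_one c, ← hS1, Finset.mul_sum]
    rw [Finset.mul_sum, Finset.sum_mul]
    refine Finset.sum_congr rfl fun p hp => ?_
    obtain ⟨h1, h2⟩ := hSL p hp
    have h3 := hc p.1 h1
    have h4 := hc p.2 h2
    calc c * (p.1 * b * p.2) * c = (c * p.1) * b * (p.2 * c) := by simp only [mul_assoc]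
      _ = (p.1 * c) * b * (c * p.2) := by rw [h3, h4]
      _ = p.1 * (c * b * c) * p.2 := by simp only [mul_assoc]
      _ = p.1 * c * p.2 := by rw [hb]
      _ = c * (p.1 * p.2) := by rw [h3, mul_assoc]

include hss hcomm hsep in
/-- The elements of the centre of the centralizer of an étale subalgebra are separable. -/
theorem isSeparable_center (z : A) (hz : z ∈ Subalgebra.centralizer k (L : Set A))
    (hzc : ∀ y ∈ Subalgebra.centralizer k (L : Set A), y * z = z * y) : IsSeparable k z := by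
  obtain ⟨S, hSL, hS1, hS2⟩ := exists_sandwich L hcomm hsep
  set K := AlgebraicClosure k
  refine isSeparable_of_sq K (Algebra.IsIntegral.isIntegral z) fun p hp => ?_
  set y := aeval ((1 : K) ⊗ₜ[k] z) p with hy
  obtain ⟨β, hβ⟩ := exists_vn (K ⊗[k] A) y
  -- `y` commutes with all elements commuting with `1 ⊗ z`
  have hyc : ∀ w : K ⊗[k] A, w * (1 ⊗ₜ z) = (1 ⊗ₜ z) * w → w * y = y * w := by
    intro w hw
    have h1 : y ∈ Algebra.adjoin K {(1 : K) ⊗ₜ[k] z} := by
      rw [Algebra.adjoin_singleton_eq_range_aeval]; exact ⟨p, rfl⟩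
    have h2 : Algebra.adjoin K {(1 : K) ⊗ₜ[k] z} ≤ Subalgebra.centralizer K {w} := by
      rw [Algebra.adjoin_le_iff]
      intro x hx
      rw [Set.mem_singleton_iff.1 hx, SetLike.mem_coe, Subalgebra.mem_centralizer_iff]
      intro g hg
      rw [Set.mem_singleton_iff.1 hg]
      exact hw
    have h3 := h2 h1
    rw [Subalgebra.mem_centralizer_iff] at h3
    exact h3 w rfl
  -- the averaged element
  let Q : K ⊗[k] A → K ⊗[k] A := fun w => ∑ p ∈ S, (1 ⊗ₜ p.1) * w * (1 ⊗ₜ p.2)
  have hQadd : ∀ w w', Q (w + w') = Q w + Q w' := by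
    intro w w'
    simp only [Q, mul_add, add_mul, Finset.sum_add_distrib]
  have hQz : ∀ w, Q w * (1 ⊗ₜ z) = (1 ⊗ₜ z) * Q w := by
    intro w
    induction w using TensorProduct.induction_on with
    | zero => simp [Q]
    | tmul c x =>
      have h1 : Q (c ⊗ₜ x) = c ⊗ₜ (∑ p ∈ S, p.1 * x * p.2) := by
        simp only [Q, Algebra.TensorProduct.tmul_mul_tmul, one_mul, mul_one]
        rw [TensorProduct.tmul_sum]
      rw [h1, Algebra.TensorProduct.tmul_mul_tmul, Algebra.TensorProduct.tmul_mul_tmul, one_mul, mul_one]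
      rw [hzc _ (by
        rw [Subalgebra.mem_centralizer_iff]
        exact fun s hs => hS2 x s hs)]
    | add w w' h h' => rw [hQadd, add_mul, mul_add, h, h']
  rw [Subalgebra.mem_centralizer_iff] at hz
  have hyL : ∀ s ∈ L, (1 ⊗ₜ[k] s) * y = y * (1 ⊗ₜ[k] s) := by
    intro s hs
    apply hyc
    rw [Algebra.TensorProduct.tmul_mul_tmul, Algebra.TensorProduct.tmul_mul_tmul, hz s hs]
  have h1 : y * Q β * y = y := by
    have h2 : (∑ p ∈ S, (1 ⊗ₜ[k] p.1) * (1 ⊗ₜ[k] p.2) : K ⊗[k] A) = 1 := by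
      simp only [Algebra.TensorProduct.tmul_mul_tmul, mul_one]
      rw [← TensorProduct.tmul_sum, hS1, ← Algebra.TensorProduct.one_def]
    conv_rhs => rw [← mul_one y, ← h2, Finset.mul_sum]
    rw [Finset.mul_sum, Finset.sum_mul]
    refine Finset.sum_congr rfl fun p hp => ?_
    obtain ⟨h3, h4⟩ := hSL p hp
    have h5 := hyL p.1 h3
    have h6 := hyL p.2 h4
    calc y * ((1 ⊗ₜ p.1) * β * (1 ⊗ₜ p.2)) * y = (y * (1 ⊗ₜ p.1)) * β * ((1 ⊗ₜ p.2) * y) := by
          simp only [mul_assoc]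
      _ = ((1 ⊗ₜ p.1) * y) * β * (y * (1 ⊗ₜ p.2)) := by rw [h5, h6]
      _ = (1 ⊗ₜ p.1) * (y * β * y) * (1 ⊗ₜ p.2) := by simp only [mul_assoc]
      _ = (1 ⊗ₜ p.1) * y * (1 ⊗ₜ p.2) := by rw [hβ]
      _ = y * ((1 ⊗ₜ p.1) * (1 ⊗ₜ p.2)) := by rw [h5, mul_assoc]
  rw [← h1, mul_assoc, hyc _ (hQz β), ← mul_assoc, hp, zero_mul]

end main

end K280.VNReg
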